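import Cfsg.Agent.InvChar.Standard
import Cfsg.Agent.Lib.Coprime.Action
import Cfsg.Prelude.Def_TwoFusion

/-!
# Consequences of the Z*-theorem for standard subgroups and for central intersections

The Z*-theorem enters as a hypothesis (`Cfsg.Agent.InvChar.ZStarProperty`).
-/

set_option autoImplicit false

namespace Cfsg.Agent.InvChar

open Subgroup
open scoped commutatorElement

universe u

theorem centralizer_zpowers {G : Type*} [Group G] (g : G) :
    centralizer (zpowers g : Set G) = centralizer ({g} : Set G) := by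
  rw [zpowers_eq_closure, centralizer_closure]

/-- The statement of Glauberman's Z*-theorem for the groups of one universe. -/
def ZStarProperty : Prop :=
  ∀ (H : Type u) [Group H] [Finite H] (P : Sylow 2 H) (x : H), orderOf x = 2 → x ∈ P →
    (∀ g : H, g * x * g⁻¹ ∈ P → g * x * g⁻¹ = x) →
    ∃ N : Subgroup H, N.Normal ∧ Odd (Nat.card N) ∧ ∀ g : H, (x * g * x⁻¹ * g⁻¹) ∈ N

variable {G : Type u} [Group G] [Finite G]

theorem le_oddCore {N : Subgroup G} (hN : N.Normal) (hodd : Odd (Nat.card N)) : N ≤ Cfsg.oddCore G :=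
  Thompson.le_pPrimeCore hN (Nat.coprime_two_right.mpr hodd)

theorem odd_oddCore : Odd (Nat.card (Cfsg.oddCore G)) :=
  Nat.coprime_two_right.mp Thompson.card_pPrimeCore_coprime

/-- An involution commuting with no other conjugate is isolated in a Sylow subgroup. -/
theorem exists_sylow_isolated {t : G} (ht : orderOf t = 2)
    (hiso : ∀ g : G, Commute t (g * t * g⁻¹) → g * t * g⁻¹ = t) :
    ∃ P : Sylow 2 G, t ∈ P ∧ ∀ g : G, g * t * g⁻¹ ∈ P → g * t * g⁻¹ = t := by
  haveI : Fact (Nat.Prime 2) := ⟨Nat.prime_two⟩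
  have hp : IsPGroup 2 (zpowers t) := IsPGroup.of_card (n := 1) (by rw [Nat.card_zpowers, ht, pow_one])
  obtain ⟨P, hP⟩ := hp.exists_le_sylow
  have htP : t ∈ P := hP (mem_zpowers t)
  refine ⟨P, htP, ?_⟩
  have hc : ∀ s ∈ (P : Subgroup G), t * s = s * t := by
    by_contra! hcon
    obtain ⟨s, hs, hne⟩ := hcon
    set Q := (centralizer ({t} : Set G)).subgroupOf (P : Subgroup G) with hQ
    have htop : Q ≠ ⊤ := fun h => hne ((subgroupOf_eq_top.mp h) hs t rfl)
    obtain ⟨n, hn, hnQ⟩ := SetLike.exists_of_lt (PGroup.lt_normalizer P.isPGroup' htop)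
    have htQ : (⟨t, htP⟩ : P) ∈ Q := mem_subgroupOf.mpr fun z hz => by rw [Set.mem_singleton_iff.mp hz]
    have h1 : (n : G) * t * (n : G)⁻¹ ∈ centralizer ({t} : Set G) := (mem_normalizer_iff.mp hn _).mp htQ
    have h2 := hiso (n : G) (h1 t rfl)
    refine hnQ (mem_subgroupOf.mpr fun z hz => ?_)
    rw [Set.mem_singleton_iff.mp hz]
    exact ((mul_inv_eq_iff_eq_mul).mp h2).symm
  exact fun g hg => hiso g (hc _ hg)

/-- The involution of a characteristic cyclic subgroup of a Sylow 2-subgroup is central modulo the core,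
when distinct Sylow 2-subgroups meet centrally. -/
theorem cyclic_characteristic_mem_zstar (hZ : ZStarProperty.{u})
    (hCI : ∀ S T : Sylow 2 G, S ≠ T → ∃ U : Sylow 2 G,
      (S : Subgroup G) ⊓ (T : Subgroup G) ≤ (center ↥(U : Subgroup G)).map (U : Subgroup G).subtype)
    (hCI' : ∀ S T : Sylow 2 G, T ≠ S →
      (S : Subgroup G) ⊓ (T : Subgroup G) ≤ (center ↥(S : Subgroup G)).map (S : Subgroup G).subtype)
    (S : Sylow 2 G) (C : Subgroup ↥(S : Subgroup G)) (hCc : IsCyclic ↥C) (hCh : C.Characteristic)
    (c : ↥(S : Subgroup G)) (hc : c ∈ C) (hc2 : orderOf c = 2) :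
    ∀ g : G, (QuotientGroup.mk (s := Cfsg.oddCore G) (g * (c : G) * g⁻¹)) =
      QuotientGroup.mk (s := Cfsg.oddCore G) (c : G) := by
  haveI : Fact (Nat.Prime 2) := ⟨Nat.prime_two⟩
  classical
  have hfix : ∀ φ : ↥(S : Subgroup G) ≃* ↥(S : Subgroup G), φ c = c := by
    intro φ
    have h1 : φ c ∈ C := by
      have := hCh.fixed φ
      rw [← this] at hc
      exact mem_comap.mp hc
    haveI : Fintype C := Fintype.ofFinite C
    have ha : orderOf (⟨c, hc⟩ : C) = 2 := by rw [← Subgroup.orderOf_coe]; exact hc2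
    have hb : orderOf (⟨φ c, h1⟩ : C) = 2 := by
      rw [← Subgroup.orderOf_coe]; exact (MulEquiv.orderOf_eq φ c).trans hc2
    have hcard := IsCyclic.card_orderOf_eq_totient (α := C) (d := 2) (ha.symm.dvd.trans orderOf_dvd_card)
    rw [Nat.totient_two] at hcard
    obtain ⟨z, hz⟩ := Finset.card_eq_one.mp hcard
    have hza : (⟨c, hc⟩ : C) = z := Finset.mem_singleton.mp (hz ▸ Finset.mem_filter.mpr ⟨Finset.mem_univ _, ha⟩)
    have hzb : (⟨φ c, h1⟩ : C) = z := Finset.mem_singleton.mp (hz ▸ Finset.mem_filter.mpr ⟨Finset.mem_univ _, hb⟩)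
    exact congrArg Subtype.val (hzb.trans hza.symm)
  have hcentral : ∀ s ∈ (S : Subgroup G), s * (c : G) = (c : G) * s := by
    intro s hs
    have := congrArg Subtype.val (hfix (MulAut.conj (⟨s, hs⟩ : ↥(S : Subgroup G))))
    exact mul_inv_eq_iff_eq_mul.mp this
  have hord : orderOf (c : G) = 2 := by rw [Subgroup.orderOf_coe]; exact hc2
  have hnorm : ∀ n ∈ normalizer ((S : Subgroup G) : Set G), n * (c : G) * n⁻¹ = c := by
    intro n hn
    exact congrArg Subtype.val (hfix ((S : Subgroup G).normalizerMonoidHom ⟨n, hn⟩))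
  obtain ⟨N, hN, hodd, hcomm⟩ := hZ G S c hord c.2 fun g hg => by
    set d := g * (c : G) * g⁻¹ with hd
    by_cases hgS : g • S = S
    · exact hnorm g (Sylow.smul_eq_iff_mem_normalizer.mp hgS)
    · have hdg : d ∈ ((g • S : Sylow 2 G) : Subgroup G) := ⟨c, c.2, rfl⟩
      obtain ⟨⟨d', hd'⟩, hd'Z, hd'eq⟩ := hCI' S (g • S) hgS ⟨hg, hdg⟩
      -- both Sylow subgroups centralize `d`
      have h1 : (S : Subgroup G) ≤ centralizer ({d} : Set G) := by
        intro s hs z hz
        rw [Set.mem_singleton_iff.mp hz]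
        have := congrArg Subtype.val (mem_center_iff.mp hd'Z ⟨s, hs⟩)
        simp only [coe_subtype] at hd'eq
        rw [← hd'eq]
        exact this.symm
      have h2 : ((g • S : Sylow 2 G) : Subgroup G) ≤ centralizer ({d} : Set G) := by
        rintro _ ⟨s, hs, rfl⟩ z hz
        rw [Set.mem_singleton_iff.mp hz]
        show g * (c : G) * g⁻¹ * (g * s * g⁻¹) = g * s * g⁻¹ * (g * (c : G) * g⁻¹)
        calc g * (c : G) * g⁻¹ * (g * s * g⁻¹) = g * ((c : G) * s) * g⁻¹ := by group
          _ = g * (s * (c : G)) * g⁻¹ := by rw [hcentral s hs]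
          _ = _ := by group
      obtain ⟨h, hh⟩ := MulAction.exists_smul_eq ↥(centralizer ({d} : Set G))
        ((g • S).subtype h2) (S.subtype h1)
      rw [Sylow.smul_subtype h2] at hh
      have hhS : (h : G) • g • S = S := Sylow.subtype_injective hh
      rw [← mul_smul] at hhS
      have h3 := hnorm _ (Sylow.smul_eq_iff_mem_normalizer.mp hhS)
      have h4 : (h : G) * d = d * h := (h.2 d rfl).symm
      have h5 : (h : G) * g * (c : G) * ((h : G) * g)⁻¹ = d := by
        calc (h : G) * g * (c : G) * ((h : G) * g)⁻¹ = (h : G) * (g * (c : G) * g⁻¹) * (h : G)⁻¹ := by group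
          _ = (h : G) * d * (h : G)⁻¹ := rfl
          _ = d := by rw [h4, mul_inv_cancel_right]
      rw [← h5]
      exact h3
  intro g
  rw [QuotientGroup.eq]
  refine le_oddCore hN hodd ?_
  have hcc : (c : G)⁻¹ = c := inv_eq_of_mul_eq_one_left (orderOf_eq_two_mul_self hord)
  have e : (g * (c : G) * g⁻¹)⁻¹ * c = ((c : G) * g * (c : G)⁻¹ * g⁻¹)⁻¹ := by
    simp only [mul_inv_rev, inv_inv, hcc, mul_assoc]
  rw [e]
  exact inv_mem (hcomm g)

/-- Groups with cyclic Sylow 2-subgroups have 2-rank at most one. -/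
theorem prankLE_one_of_cyclic_sylow {H : Type*} [Group H] [Finite H]
    (h : ∀ R : Sylow 2 H, IsCyclic ↥(R : Subgroup H)) : Cfsg.PRankLE 2 1 H := by
  intro E hc h2
  have hp : IsPGroup 2 E := fun e => ⟨1, Subtype.ext (by simpa using h2 e e.2)⟩
  obtain ⟨R, hR⟩ := hp.exists_le_sylow
  haveI := h R
  haveI : IsCyclic E := isCyclic_of_injective (Subgroup.inclusion hR) (Subgroup.inclusion_injective hR)
  obtain ⟨a, ha⟩ := IsCyclic.exists_generator (α := E)

  have : orderOf a ∣ 2 := orderOf_dvd_of_pow_eq_one (Subtype.ext (by simpa using h2 a a.2))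
  have hcard : Nat.card E = orderOf a := by
    rw [← Nat.card_zpowers]
    exact (Nat.card_congr (Equiv.subtypeUnivEquiv ha)).symm
  rw [hcard, pow_one]
  exact Nat.le_of_dvd two_pos this

/-- A standard subgroup with cyclic-Sylow centralizer moving a 2-subgroup of its normal closure
generates a semisimple normal subgroup with centre of odd order. -/
theorem standard_layer (hZ : ZStarProperty.{u}) (A : Subgroup G) (hA : Cfsg.IsStandardSubgroup A)
    (hcyc : ∀ R : Sylow 2 ↥(centralizer (A : Set G)), IsCyclic ↥(R : Subgroup ↥(centralizer (A : Set G))))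
    (t : G) (ht : orderOf t = 2) (htA : t ∈ centralizer (A : Set G))
    (R : Subgroup G) (hRX : R ≤ normalClosure (A : Set G))
    (hc1 : ⁅R, zpowers t⁆ ≠ ⊥) (hc2 : ⁅R, zpowers t⁆ ≤ A) :
    Cfsg.layer ↥(normalClosure (A : Set G)) = ⊤ ∧ Odd (Nat.card ↥(center ↥(normalClosure (A : Set G)))) := by
  haveI : Fact (Nat.Prime 2) := ⟨Nat.prime_two⟩
  have hr := prankLE_one_of_cyclic_sylow hcyc
  have hCN := centralizer_involution_le hA ht htA
  have hperf : ⁅A, A⁆ = A := isPerfect_iff.mp hA.1.1
  have ht2 := orderOf_eq_two_mul_self ht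
  have ht1 : t ≠ 1 := fun h => by simp [h] at ht
  -- an element `r` moving `t` by an involution `s` of `A`
  obtain ⟨r, hrR, hs1⟩ : ∃ r ∈ R, ⁅r, t⁆ ≠ 1 := by
    by_contra! hall
    apply hc1
    rw [commutator_eq_bot_iff_le_centralizer]
    intro r hr
    rw [centralizer_zpowers] at *
    intro z hz
    rw [Set.mem_singleton_iff.mp hz]
    exact (commutatorElement_eq_one_iff_mul_comm.mp (hall r hr)).symm
  obtain ⟨s, hsdef⟩ : ∃ s, ⁅r, t⁆ = s := ⟨_, rfl⟩
  rw [hsdef] at hs1
  have hsA : s ∈ A := hsdef ▸ hc2 (commutator_mem_commutator hrR (mem_zpowers t))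
  have hst : t * s = s * t := (htA s hsA).symm
  have ht' : r * t * r⁻¹ = s * t := by rw [← hsdef, commutatorElement_def]; group
  have ht'2 : s * t * (s * t) = 1 := by
    rw [← ht', show r * t * r⁻¹ * (r * t * r⁻¹) = r * (t * t) * r⁻¹ by group, ht2, mul_one, mul_inv_cancel]
  have hs2 : s * s = 1 := by
    rw [show s * t * (s * t) = s * (t * s) * t by group, hst,
      show s * (s * t) * t = (s * s) * (t * t) by group, ht2, mul_one] at ht'2
    exact ht'2
  have hsC : s ∉ centralizer (A : Set G) := by
    intro hsc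
    have := involution_eq_of_rank_one hr hsc htA hs2 hs1 ht2 ht1 hst.symm
    rw [this, ht2, mul_inv_eq_one] at ht'
    exact ht1 (mul_left_cancel (ht'.trans (mul_one r).symm))
  have hAodd : ∀ W : Subgroup G, Odd (Nat.card W) → ¬ A ≤ W := by
    intro W hW hle
    obtain ⟨j, hj⟩ := hW
    have h1 : (⟨s, hle hsA⟩ : W) ^ 2 = 1 := Subtype.ext (by simp [pow_two, hs2])
    have h2 := pow_card_eq_one' (x := (⟨s, hle hsA⟩ : W))
    rw [hj, pow_succ, pow_mul, h1, one_pow, one_mul] at h2
    exact hs1 (congrArg Subtype.val h2)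
  -- `A` centralizes odd normal subgroups
  have hodd : ∀ W : Subgroup G, W.Normal → Odd (Nat.card W) → A ≤ centralizer (W : Set G) := by
    intro W hWn hW
    haveI := hWn
    have hfixA : W ⊓ centralizer ({t} : Set G) ≤ centralizer (A : Set G) := fun y hy =>
      mem_centralizer_of_normal hA.1 (hAodd W hW) (hCN hy.2) hy.1
    have hfix : W ⊓ centralizer ({t} : Set G) ≤ centralizer ({s * t} : Set G) := by
      intro y hy z hz
      rw [Set.mem_singleton_iff.mp hz, mul_assoc, show t * y = y * t from hy.2 t rfl, ← mul_assoc,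
        show s * y = y * s from hfixA hy s hsA, mul_assoc]
    have hne : t ≠ s * t := fun h => hs1 (mul_eq_right.mp h.symm)
    have h1 := le_centralizer_of_conj_involution hW ht2 ht1
      (show t * (s * t) = s * t * t by rw [← mul_assoc, hst]) hne ht' hfix
    have e : t * (s * t) = s := by rw [← mul_assoc, hst, mul_assoc, ht2, mul_one]
    rw [e] at h1
    exact le_of_noncentral_mem hA.1 (by rw [normalizer_eq_top]; exact le_top) hsA
      (fun y hy => ((h1 hy) s rfl).symm) hsC
  -- `A` centralizes normal 2-subgroups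
  have htwo : ∀ U : Subgroup G, U.Normal → IsPGroup 2 U → A ≤ centralizer (U : Set G) := by
    intro U hUn hU
    haveI := hUn
    have hAU : ¬ A ≤ U := fun hle => by
      have := Components.not_isSolvable_of_isQuasisimple hA.1
      exact this (Coprime.solvable_of_le hle (Coprime.isSolvable_of_isNilpotent' hU.isNilpotent))
    by_contra hcon
    have hK : (centralizer (U : Set G)).subgroupOf A ≤ center A :=
      (Components.normal_eq_top_or_le_center hA.1 ((centralizer (U : Set G)).subgroupOf A)).resolve_left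
        fun h => hcon (subgroupOf_eq_top.mp h)
    have hoddel : ∀ a : A, Odd (orderOf a) → a ∈ center A := by
      intro a ha
      apply hK
      refine mem_subgroupOf.mpr (Coprime.thompson_pxq 2 (zpowers t) (zpowers (a : G)) U
        (IsPGroup.of_card (n := 1) (by rw [Nat.card_zpowers, ht, pow_one]))
        (by rw [Nat.card_zpowers, Subgroup.orderOf_coe]; exact Nat.coprime_two_right.mpr ha) hU
        (zpowers_le.mpr ?_) (by rw [normalizer_eq_top]; exact le_top) (by rw [normalizer_eq_top]; exact le_top)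
        ?_ (mem_zpowers (a : G)))
      · rw [centralizer_zpowers]
        intro z hz
        rw [Set.mem_singleton_iff.mp hz]
        exact htA a a.2
      · intro y hy
        have hyt : y ∈ centralizer ({t} : Set G) := centralizer_zpowers t ▸ hy.2
        rw [centralizer_zpowers]
        intro z hz
        rw [Set.mem_singleton_iff.mp hz]
        exact mem_centralizer_of_normal hA.1 hAU (hCN hyt) hy.1 a a.2
    haveI := hA.1.2
    have hp : IsPGroup 2 (A ⧸ center A) := by
      intro x
      obtain ⟨a, rfl⟩ := QuotientGroup.mk_surjective x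
      obtain ⟨k, m, hm, hord⟩ := Nat.exists_eq_two_pow_mul_odd (orderOf_pos a).ne'
      refine ⟨k, ?_⟩
      rw [← QuotientGroup.mk_pow, QuotientGroup.eq_one_iff]
      apply hoddel
      rw [orderOf_pow' _ (pow_ne_zero _ two_ne_zero), hord, Nat.gcd_eq_right (dvd_mul_right _ _),
        Nat.mul_div_cancel_left _ (pow_pos two_pos _)]
      exact hm
    have hns : ¬ Group.IsSolvable (A ⧸ center A) := fun h => by
      haveI := h
      haveI : Group.IsSolvable (center A) := Group.isSolvable_of_comm fun a b => mul_comm' a b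
      apply Components.not_isSolvable_of_isQuasisimple hA.1
      exact Group.isSolvable_of_ker_le_range (center A).subtype (QuotientGroup.mk' (center A)) (by simp)
    exact hns (Coprime.isSolvable_of_isNilpotent' hp.isNilpotent)
  -- hence the Fitting subgroup
  have hF : A ≤ centralizer (Cfsg.fittingSubgroup G : Set G) := by
    rw [le_centralizer_iff, Fitting.fitting_eq_iSup_pCore]
    refine iSup_le fun q => ?_
    haveI : Fact (q : ℕ).Prime := ⟨q.2⟩
    rw [← le_centralizer_iff]
    by_cases hq : (q : ℕ) = 2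
    · exact htwo _ inferInstance (hq ▸ Thompson.isPGroup_pCore)
    · refine hodd _ inferInstance ?_
      obtain ⟨n, hn⟩ := IsPGroup.iff_card.mp (Thompson.isPGroup_pCore (p := (q : ℕ)) (G := G))
      rw [hn]
      exact (q.2.odd_of_ne_two hq).pow
  -- `A` lies in the layer
  set E := Cfsg.layer G with hE
  have hEn : E.Normal := by
    refine ⟨fun x hx g => ?_⟩
    have h1 := Components.map_layer_equiv (MulAut.conj g)
    exact h1.le (mem_map_of_mem (MulAut.conj g).toMonoidHom hx)
  have hAE : A ≤ E := by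
    by_contra hAE
    have hfixA : E ⊓ centralizer ({t} : Set G) ≤ centralizer (A : Set G) := fun y hy =>
      mem_centralizer_of_normal hA.1 hAE (hCN hy.2) hy.1
    set H := E ⊔ zpowers t with hH
    have htH : t ∈ H := mem_sup_right (mem_zpowers t)
    let t₀ : H := ⟨t, htH⟩
    have ht₀ : orderOf t₀ = 2 := by rw [← Subgroup.orderOf_coe]; exact ht
    obtain ⟨P, htP, hP⟩ := exists_sylow_isolated ht₀ fun g hg => by
      obtain ⟨e, he, w, ⟨k, rfl⟩, hew⟩ := mem_sup_of_normal_left.mp g.2
      apply Subtype.ext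
      show (g : G) * t * (g : G)⁻¹ = t
      have hg' : t * ((g : G) * t * (g : G)⁻¹) = (g : G) * t * (g : G)⁻¹ * t := congrArg Subtype.val hg.eq
      rw [← hew] at hg' ⊢
      have e1 : e * t ^ k * t * (e * t ^ k)⁻¹ = e * t * e⁻¹ := by group
      simp only [] at hg' ⊢
      rw [e1] at hg' ⊢
      obtain ⟨v, hv⟩ : ∃ v, e * t * e⁻¹ * t⁻¹ = v := ⟨_, rfl⟩
      have hvE : v ∈ E := by
        rw [← hv, show e * t * e⁻¹ * t⁻¹ = e * (t * e⁻¹ * t⁻¹) by group]
        exact E.mul_mem he (hEn.conj_mem _ (E.inv_mem he) t)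
      have hvt : v * t = e * t * e⁻¹ := by rw [← hv]; group
      rw [← hvt] at hg' ⊢
      have hcv : t * v = v * t := by
        rw [← mul_assoc] at hg'
        exact mul_right_cancel hg'
      have hvC : v ∈ centralizer (A : Set G) := hfixA ⟨hvE, fun z hz => by
        rw [Set.mem_singleton_iff.mp hz]; exact hcv⟩
      have hv2 : v * v = 1 := by
        have h : v * t * (v * t) = 1 := by
          rw [hvt, show e * t * e⁻¹ * (e * t * e⁻¹) = e * (t * t) * e⁻¹ by group, ht2, mul_one, mul_inv_cancel]
        rw [show v * t * (v * t) = v * (t * v) * t by group, hcv,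
          show v * (v * t) * t = (v * v) * (t * t) by group, ht2, mul_one] at h
        exact h
      by_cases hv1 : v = 1
      · rw [hv1, one_mul]
      · have := involution_eq_of_rank_one hr hvC htA hv2 hv1 ht2 ht1 hcv.symm
        exfalso
        rw [this, ht2] at hvt
        exact ht1 (mul_left_cancel (((eq_mul_inv_iff_mul_eq.mp hvt).symm.trans (one_mul e)).trans (mul_one e).symm))
    obtain ⟨N, hN, hNodd, hcomm⟩ := hZ H P t₀ ht₀ htP hP
    set W := (Cfsg.oddCore E).map E.subtype with hW
    haveI hWn : W.Normal := by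
      haveI : (Cfsg.oddCore E).Characteristic := inferInstanceAs (Cfsg.pPrimeCore 2 E).Characteristic
      exact Thompson.map_subtype_normal_of_characteristic E _
    have hWodd : Odd (Nat.card W) := by
      rw [hW, card_map_of_injective E.subtype_injective]; exact odd_oddCore
    have hAW := hodd W hWn hWodd
    have hEc : E ≤ centralizer (A : Set G) := by
      intro e he
      -- `[t, e]` lies in `O(E)`
      have hmem : e⁻¹ * (t * e * t⁻¹) ∈ W := by
        let ι : E →* H := Subgroup.inclusion le_sup_left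
        have hM : N.comap ι ≤ Cfsg.oddCore E := by
          refine le_oddCore inferInstance ?_
          rw [← card_map_of_injective (f := ι) (Subgroup.inclusion_injective _)]
          exact hNodd.of_dvd_nat (card_dvd_of_le (map_comap_le ι N))
        have hmE : t * e * t⁻¹ * e⁻¹ ∈ E := E.mul_mem (hEn.conj_mem e he t) (E.inv_mem he)
        have h1 : t * e * t⁻¹ * e⁻¹ ∈ W :=
          mem_map.mpr ⟨⟨_, hmE⟩, hM (show ι ⟨_, hmE⟩ ∈ N from hcomm ⟨e, mem_sup_left he⟩), rfl⟩
        have := hWn.conj_mem _ h1 e⁻¹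
        simpa [mul_assoc] using this
      have htW : zpowers t ≤ normalizer (W : Set G) := by rw [normalizer_eq_top]; exact le_top
      have htp : Group.IsSolvable (zpowers t) := Group.isSolvable_of_comm fun a b => mul_comm' a b
      have hfixW : ∀ a ∈ zpowers t, e⁻¹ * (a * e * a⁻¹) ∈ W := by
        rintro a ⟨k, rfl⟩
        rcases Int.even_or_odd k with ⟨j, rfl⟩ | ⟨j, rfl⟩
        · have : t ^ (j + j) = 1 := by rw [← two_mul, zpow_mul, zpow_two, ht2, one_zpow]
          show e⁻¹ * (t ^ (j + j) * e * (t ^ (j + j))⁻¹) ∈ W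
          rw [this, one_mul, inv_one, mul_one, inv_mul_cancel]
          exact W.one_mem
        · have : t ^ (2 * j + 1) = t := by rw [zpow_add_one, zpow_mul, zpow_two, ht2, one_zpow, one_mul]
          show e⁻¹ * (t ^ (2 * j + 1) * e * (t ^ (2 * j + 1))⁻¹) ∈ W
          rw [this]
          exact hmem
      obtain ⟨n, hn, hnc⟩ := Coprime.exists_fixed_in_coset (zpowers t) W htW
        (by rw [Nat.card_zpowers, ht]; exact Nat.coprime_two_left.mpr hWodd) (Or.inl htp) e hfixW
      have h2 : e * n ∈ centralizer (A : Set G) := hfixA ⟨E.mul_mem he (map_subtype_le _ hn), by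
        rw [← centralizer_zpowers]; exact hnc⟩
      have h3 : n ∈ centralizer (A : Set G) := fun a ha => (hAW ha n hn).symm
      simpa using (centralizer (A : Set G)).mul_mem h2 ((centralizer (A : Set G)).inv_mem h3)
    have hAF : A ≤ centralizer (Cfsg.generalizedFittingSubgroup G : Set G) := by
      rw [le_centralizer_iff]
      exact sup_le hEc (le_centralizer_iff.mp hF)
    have hAFle : A ≤ Cfsg.generalizedFittingSubgroup G := hAF.trans Components.centralizer_generalizedFitting_le
    refine Components.not_isMulCommutative_of_isQuasisimple hA.1 ⟨⟨fun a b => Subtype.ext ?_⟩⟩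
    exact hAF b.2 a (hAFle a.2)
  -- the normal closure is generated by components
  set X := normalClosure (A : Set G) with hX
  have hAX : A ≤ X := le_normalClosure
  haveI hXn : X.Normal := normalClosure_normal
  have hXE : X ≤ E := by
    haveI := hEn
    exact normalClosure_le_normal hAE
  have hXperf : ⁅X, X⁆ = X := by
    refine le_antisymm (commutator_le_self X) ?_
    exact normalClosure_le_normal (hperf ▸ commutator_mono hAX hAX : A ≤ ⁅X, X⁆)
  set 𝒯 := {L : Subgroup G | Cfsg.IsComponent L ∧ L ≤ X} with h𝒯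
  have hYX : sSup 𝒯 ≤ X := sSup_le fun L hL => hL.2
  have hEsplit : E ≤ sSup 𝒯 ⊔ centralizer (X : Set G) := by
    rw [hE, Components.layer_le_iff]
    intro L hL
    rcases Components.component_le_or_commutator_eq_bot hL hXn.isSubnormal with h | h
    · exact le_sup_of_le_left (le_sSup ⟨hL, h⟩)
    · exact le_sup_of_le_right (commutator_eq_bot_iff_le_centralizer.mp h)
  have hXY : X ≤ sSup 𝒯 := by
    have hsub : (sSup 𝒯).subgroupOf X ⊔ center X = ⊤ := by
      rw [eq_top_iff]
      intro x _
      obtain ⟨y, hy, z, hz, hyz⟩ := mem_sup_of_normal_right.mp (hEsplit (hXE x.2))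
      have hzX : z ∈ X := by
        have := X.mul_mem (X.inv_mem (hYX hy)) x.2
        rwa [← hyz, inv_mul_cancel_left] at this
      rw [mem_sup_of_normal_right]
      exact ⟨⟨y, hYX hy⟩, mem_subgroupOf.mpr hy, ⟨z, hzX⟩, mem_center_iff.mpr fun w =>
        Subtype.ext (hz w w.2), Subtype.ext hyz⟩
    haveI : Group.IsPerfect X := isPerfect_iff.mpr hXperf
    exact subgroupOf_eq_top.mp (Components.eq_top_of_sup_center_eq_top hsub)
  refine ⟨?_, ?_⟩
  · rw [eq_top_iff]
    intro x _
    have : (x : G) ∈ (Cfsg.layer X).map X.subtype := by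
      refine (sSup_le fun L hL => ?_ : sSup 𝒯 ≤ (Cfsg.layer X).map X.subtype) (hXY x.2)
      rw [← map_subgroupOf_eq_of_le hL.2]
      exact map_mono (Components.component_le_layer (Components.component_subgroupOf hL.1 hL.2))
    obtain ⟨y, hy, hyx⟩ := this
    exact (Subtype.ext hyx : y = x) ▸ hy
  · by_contra hev
    rw [Nat.not_odd_iff_even, even_iff_two_dvd] at hev
    obtain ⟨z, hz⟩ := exists_prime_orderOf_dvd_card' 2 hev
    obtain ⟨z', hz'⟩ : ∃ z', ((z : X) : G) = z' := ⟨_, rfl⟩
    set ZX := (center X).map X.subtype with hZX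
    haveI hZn : ZX.Normal := Thompson.map_subtype_normal_of_characteristic X _
    have hzZ : z' ∈ ZX := ⟨z, z.2, hz'⟩
    have hz2 : z' * z' = 1 := by
      have := pow_orderOf_eq_one z
      rw [hz, pow_two] at this
      rw [← hz']
      exact congrArg (fun w : center X => ((w : X) : G)) this
    have hz1 : z' ≠ 1 := by
      intro h
      have : z = 1 := Subtype.ext (Subtype.ext (hz'.trans h))
      rw [this, orderOf_one] at hz
      omega
    have hzcomm : ∀ a ∈ ZX, ∀ b ∈ X, b * a = a * b := by
      rintro _ ⟨a, ha, rfl⟩ b hb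
      exact congrArg Subtype.val (mem_center_iff.mp ha ⟨b, hb⟩)
    have hZle : ZX ≤ X := map_subtype_le _
    obtain ⟨w, hw, hw2, hw1, hwt⟩ : ∃ w ∈ ZX, w * w = 1 ∧ w ≠ 1 ∧ t * w = w * t := by
      by_cases hc : t * z' = z' * t
      · exact ⟨z', hzZ, hz2, hz1, hc⟩
      · have hu : t * z' * t ∈ ZX := by
          have := hZn.conj_mem z' hzZ t
          rwa [inv_eq_of_mul_eq_one_left ht2] at this
        have hcom : z' * (t * z' * t) = t * z' * t * z' := hzcomm _ hu z' (hZle hzZ)
        refine ⟨z' * (t * z' * t), ZX.mul_mem hzZ hu, ?_, fun h => hc ?_, ?_⟩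
        · nth_rw 2 [hcom]
          rw [show z' * (t * z' * t) * (t * z' * t * z') = z' * t * z' * (t * t) * z' * t * z' by group, ht2, mul_one,
            show z' * t * z' * z' * t * z' = z' * t * (z' * z') * t * z' by group, hz2, mul_one,
            show z' * t * t * z' = z' * (t * t) * z' by group, ht2, mul_one, hz2]
        · have h5 : z' = t * z' * t := mul_left_cancel (a := z') (hz2.trans h.symm)
          calc t * z' = t * z' * (t * t) := by rw [ht2, mul_one]
            _ = t * z' * t * t := by group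
            _ = z' * t := by rw [← h5]
        · calc t * (z' * (t * z' * t)) = t * z' * t * z' * t := by group
            _ = z' * (t * z' * t) * t := by rw [← hcom]
    have hwC : w ∈ centralizer (A : Set G) := fun a ha => hzcomm w hw a (hAX ha)
    have hwt' := involution_eq_of_rank_one hr hwC htA hw2 hw1 ht2 ht1 hwt.symm
    apply hs1
    rw [← hsdef, commutatorElement_eq_one_iff_mul_comm]
    exact hwt' ▸ hzcomm w hw r (hRX hrR)

end Cfsg.Agent.InvChar
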