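import Mathlib
import Cfsg.Agent.S3103
import Cfsg.Agent.S0144

/-! Isometries of an anisotropic quadratic map into an elementary group of order at most four. -/

set_option autoImplicit false

namespace Cfsg.Agent.InvChar.AnisoPair

/-- Functions of bounded degree on a group, with values in `ZMod 2`. -/
def Deg {V : Type*} [CommGroup V] : ℕ → (V → ZMod 2) → Prop
  | 0, f => ∀ v, f v = f 1
  | k + 1, f => ∀ a, Deg k fun v => f (v * a) + f v

variable {V : Type*} [CommGroup V]

theorem deg_mono : ∀ {k : ℕ} {f : V → ZMod 2}, Deg k f → Deg (k + 1) f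
  | 0, f, h => fun a v => by simp only [h (v * a), h v, h (1 * a)]
  | k + 1, f, h => fun a => deg_mono (h a)

theorem deg_shift : ∀ {k : ℕ} {f : V → ZMod 2}, Deg k f → ∀ a, Deg k fun v => f (v * a)
  | 0, f, h, a => fun v => by simp only [h (v * a), h (1 * a)]
  | k + 1, f, h, a => fun b => by
    have := deg_shift (h b) a
    simpa [mul_assoc, mul_comm a b] using this

theorem deg_add : ∀ {k : ℕ} {f g : V → ZMod 2}, Deg k f → Deg k g → Deg k fun v => f v + g v
  | 0, f, g, hf, hg => fun v => by simp only [hf v, hg v]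
  | k + 1, f, g, hf, hg => fun a => by
    have := deg_add (hf a) (hg a)
    simpa [add_add_add_comm] using this

theorem deg_mul : ∀ {n k l : ℕ} {f g : V → ZMod 2}, k + l = n → Deg k f → Deg l g → Deg n fun v => f v * g v
  | 0, k, l, f, g, h, hf, hg => by
    obtain ⟨rfl, rfl⟩ : k = 0 ∧ l = 0 := by omega
    exact fun v => by simp only [hf v, hg v]
  | n + 1, k, l, f, g, h, hf, hg => fun a => by
    have heq : (fun v => f (v * a) * g (v * a) + f v * g v) =
        fun v => (f (v * a) + f v) * g (v * a) + f v * (g (v * a) + g v) := by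
      funext v
      have h2 : ∀ x : ZMod 2, x + x = 0 := CharTwo.add_self_eq_zero
      linear_combination (-1 : ZMod 2) * h2 (f v * g (v * a))
    rw [heq]
    refine deg_add ?_ ?_
    · cases k with
      | zero =>
        have : (fun v => (f (v * a) + f v) * g (v * a)) = fun _ => (0 : ZMod 2) := by
          funext v; rw [hf (v * a), hf v, CharTwo.add_self_eq_zero, zero_mul]
        rw [this]
        exact Nat.rec (motive := fun m => Deg (V := V) m fun _ => (0 : ZMod 2)) (fun _ => rfl)
          (fun m hm b => by simpa using hm) n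
      | succ k => exact deg_mul (by omega) (hf a) (deg_shift hg a)
    · cases l with
      | zero =>
        have : (fun v => f v * (g (v * a) + g v)) = fun _ => (0 : ZMod 2) := by
          funext v; rw [hg (v * a), hg v, CharTwo.add_self_eq_zero, mul_zero]
        rw [this]
        exact Nat.rec (motive := fun m => Deg (V := V) m fun _ => (0 : ZMod 2)) (fun _ => rfl)
          (fun m hm b => by simpa using hm) n
      | succ l => exact deg_mul (by omega) hf (hg a)

variable [Finite V]

theorem sum_eq_zero (h2 : ∀ v : V, v * v = 1) :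
    ∀ (k : ℕ) (f : V → ZMod 2), Deg k f → ∀ U : Subgroup V, 2 ^ k < Nat.card U →
      ∑ᶠ v ∈ (U : Set V), f v = 0 := by
  intro k
  induction k with
  | zero =>
    intro f hf U hU
    rw [pow_zero] at hU
    haveI : Fintype U := Fintype.ofFinite U
    rw [finsum_mem_eq_toFinset_sum _ , Finset.sum_congr rfl (fun v _ => hf v), Finset.sum_const, nsmul_eq_mul]
    have hev : 2 ∣ Nat.card U := by
      haveI := Fact.mk Nat.prime_two
      obtain ⟨u, hu⟩ : ∃ u : U, u ≠ 1 := by
        by_contra h; push Not at h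
        have : Subsingleton U := ⟨fun x y => (h x).trans (h y).symm⟩
        rw [Nat.card_unique] at hU; omega
      have : orderOf u = 2 := orderOf_eq_prime (Subtype.ext (by simpa [pow_two] using h2 u)) hu
      exact this ▸ orderOf_dvd_natCard u
    have hc : (U : Set V).toFinset.card = Nat.card U := by
      rw [Set.toFinset_card, Nat.card_eq_fintype_card]
      exact Fintype.card_congr (Equiv.refl _)
    rw [hc, (ZMod.natCast_eq_zero_iff _ 2).mpr hev, zero_mul]
  | succ k ih =>
    intro f hf U hU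
    have h0 : 0 < 2 ^ (k + 1) := by positivity
    obtain ⟨a, ha, ha1⟩ : ∃ a ∈ U, a ≠ 1 := by
      refine U.bot_or_exists_ne_one.resolve_left fun h => ?_
      rw [h, Subgroup.card_bot] at hU
      omega
    obtain ⟨W, ⟨hWU, haW⟩, hWmax⟩ := ({W : Subgroup V | W ≤ U ∧ a ∉ W}).toFinite.exists_maximal
      ⟨⊥, bot_le, fun h => ha1 (Subgroup.mem_bot.mp h)⟩
    have hdich : ∀ u ∈ U, u ∉ W → u * a ∈ W := by
      intro u hu huW
      have hle : W < W ⊔ Subgroup.zpowers u :=
        lt_of_le_of_ne le_sup_left fun h => huW (h ▸ Subgroup.mem_sup_right (Subgroup.mem_zpowers u))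
      have hmem : a ∈ W ⊔ Subgroup.zpowers u := by
        by_contra hn
        exact hle.not_ge (hWmax ⟨sup_le hWU (Subgroup.zpowers_le.mpr hu), hn⟩ hle.le)
      obtain ⟨w, hw, z, ⟨j, rfl⟩, hwz⟩ := Subgroup.mem_sup.mp hmem
      rcases Int.even_or_odd' j with ⟨i, rfl | rfl⟩
      · exfalso; apply haW
        rw [← hwz]
        simp only [zpow_mul, zpow_ofNat, pow_two, h2, one_zpow, mul_one]
        exact hw
      · simp only [zpow_add, zpow_mul, zpow_ofNat, pow_two, h2, one_zpow, one_mul, zpow_one] at hwz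
        rw [← hwz, pow_one, mul_left_comm, h2, mul_one]
        exact hw
    have hset : (U : Set V) = (W : Set V) ∪ (fun w => w * a) '' (W : Set V) := by
      ext u
      constructor
      · intro hu
        by_cases huW : u ∈ W
        · exact Or.inl huW
        · exact Or.inr ⟨u * a, hdich u hu huW, by simp [mul_assoc, h2]⟩
      · rintro (h | ⟨w, hw, rfl⟩)
        · exact hWU h
        · exact U.mul_mem (hWU hw) ha
    have hdisj : Disjoint (W : Set V) ((fun w => w * a) '' (W : Set V)) := by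
      rw [Set.disjoint_left]
      rintro u hu ⟨w, hw, rfl⟩
      exact haW ((Subgroup.mul_mem_cancel_left W hw).mp hu)
    rw [hset, finsum_mem_union hdisj (Set.toFinite _) (Set.toFinite _),
      finsum_mem_image (fun x _ y _ h => mul_right_cancel h), ← finsum_mem_add_distrib (Set.toFinite _)]
    have hW : 2 ^ k < Nat.card W := by
      have hcard : Nat.card U = Nat.card W + Nat.card W := by
        have e : Nat.card U = (U : Set V).ncard := Nat.card_coe_set_eq _
        rw [e, hset, Set.ncard_union_eq hdisj, Set.ncard_image_of_injective _ (fun x y h => mul_right_cancel h)]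
        rfl
      rw [pow_succ] at hU; omega
    have := ih _ (hf a) W hW
    simpa [add_comm] using this

theorem sum_indicator {U : Subgroup V} (f : V → ZMod 2) (h1 : f 1 = 0)
    (hne : ∀ u ∈ U, u ≠ 1 → f u = 1) :
    ∑ᶠ v ∈ (U : Set V), f v = ((Nat.card U - 1 : ℕ) : ZMod 2) := by
  classical
  haveI := Fintype.ofFinite V
  rw [finsum_mem_eq_toFinset_sum, ← Finset.add_sum_erase _ _ (a := (1 : V)) (by simp [U.one_mem]), h1, zero_add,
    Finset.sum_congr rfl fun u hu => hne u (by simpa using (Finset.mem_erase.mp hu).2) (Finset.mem_erase.mp hu).1,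
    Finset.sum_const, Finset.card_erase_of_mem (by simp [U.one_mem]), nsmul_eq_mul, mul_one, Set.toFinset_card,
    Nat.card_eq_fintype_card]
  congr 2

theorem odd_card_sub_one (h2 : ∀ v : V, v * v = 1) {U : Subgroup V} (hU : 1 < Nat.card U) :
    ((Nat.card U - 1 : ℕ) : ZMod 2) = 1 := by
  haveI := Fact.mk Nat.prime_two
  have hp : IsPGroup 2 U := fun u => ⟨1, Subtype.ext (by simpa [pow_two] using h2 u)⟩
  obtain ⟨n, hn⟩ := hp.exists_card_eq
  rcases n with _ | n
  · rw [hn, pow_zero] at hU; omega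
  rw [hn, Nat.cast_sub Nat.one_le_two_pow, Nat.cast_pow]
  simp [pow_succ, show (2 : ZMod 2) = 0 from rfl]

section Quad

variable {E : Type*} [CommGroup E] [Finite E] (hV : ∀ v : V, v * v = 1) (hE : ∀ e : E, e * e = 1)
  (hE4 : Nat.card E ≤ 4) (q : V → E) (hq : ∀ v, q v = 1 ↔ v = 1)
  (hB : ∀ a b c : V, q (a * b * c) * q (a * b) * q c = (q (a * c) * q a * q c) * (q (b * c) * q b * q c))

open scoped Classical in
/-- The indicator of the complement of `{1, c}`. -/
noncomputable def ind (c e : E) : ZMod 2 := if e = 1 ∨ e = c then 0 else 1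

include hE hE4 in
omit [Finite V] in
theorem ind_mul (c a b : E) (hc : c ≠ 1 ∨ Nat.card E ≤ 2) : ind c (a * b) = ind c a + ind c b := by
  classical
  have hcc : ∀ x y : E, x * (x * y) = y := fun x y => by rw [← mul_assoc, hE, one_mul]
  have hcard : ∀ l : List E, l.Nodup → l.length ≤ Nat.card E := by
    intro l hl
    haveI := Fintype.ofFinite E
    rw [Nat.card_eq_fintype_card]
    exact hl.length_le_card
  have key : ∀ x y : E, (x = 1 ∨ x = c) → ¬ (y = 1 ∨ y = c) → ¬ (x * y = 1 ∨ x * y = c) := by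
    rintro x y (rfl | rfl) hy h
    · rw [one_mul] at h; exact hy h
    · rcases h with h | h
      · exact hy (Or.inr (by rw [← hcc x y, h, mul_one]))
      · exact hy (Or.inl (by rw [← hcc x y, h, hE]))
  by_cases ha : a = 1 ∨ a = c <;> by_cases hb : b = 1 ∨ b = c
  · have : a * b = 1 ∨ a * b = c := by rcases ha with rfl | rfl <;> rcases hb with rfl | rfl <;> simp [hE]
    simp [ind, ha, hb, this]
  · simp [ind, ha, hb, key a b ha hb]
  · have h := key b a hb ha
    rw [mul_comm] at h
    simp [ind, ha, hb, h]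
  · have : a * b = 1 ∨ a * b = c := by
      by_contra hn
      rw [not_or] at ha hb hn
      have hab : a ≠ b := fun h => hn.1 (by rw [h, hE])
      rcases hc with hc | hc
      · have h1 : a * b ≠ a := fun h => hb.1 (mul_eq_left.mp h)
        have h2 : a * b ≠ b := fun h => ha.1 (mul_eq_right.mp h)
        have := hcard [1, c, a, b, a * b] (by
          simp [hc.symm, ha.1, Ne.symm ha.1, Ne.symm ha.2, Ne.symm hb.1, Ne.symm hb.2, Ne.symm hn.1, Ne.symm hn.2, hab, Ne.symm h1, Ne.symm h2])
        simp at this; omega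
      · have := hcard [1, a, b] (by simp [Ne.symm ha.1, Ne.symm hb.1, hab])
        simp at this; omega
    have h11 : (1 : ZMod 2) + 1 = 0 := rfl
    simp [ind, ha, hb, this, h11]

include hE hE4 hq hB in
omit [Finite V] in
theorem deg_ind (c : E) (hc : c ≠ 1 ∨ Nat.card E ≤ 2) : Deg 2 fun v => ind c (q v) := by
  intro a b v
  simp only
  have hl := fun x y => ind_mul hE hE4 c x y hc
  have h0 : ind c (1 : E) = 0 := by simp [ind]
  have h2 : ∀ x : ZMod 2, x + x = 0 := CharTwo.add_self_eq_zero
  have hq1 : q 1 = 1 := (hq 1).mpr rfl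
  have e := congrArg (ind c) (hB v b a)
  simp only [hl] at e
  simp only [one_mul, hq1, hl, h0]
  linear_combination e + h2 (ind c (q (v * a))) + h2 (ind c (q v))

include hV hE hE4 hq hB in
/-- A subgroup with more than four elements takes every nontrivial value. -/
theorem exists_value (U : Subgroup V) (hU : 4 < Nat.card U) (c : E) (hc : c ≠ 1) :
    ∃ u ∈ U, u ≠ 1 ∧ q u = c := by
  by_contra h; push Not at h
  have hs := sum_eq_zero hV 2 _ (deg_ind hE hE4 q hq hB c (Or.inl hc)) U (by norm_num; omega)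
  rw [sum_indicator (fun v => ind c (q v)) (by simp [ind, (hq 1).mpr rfl]) (fun u hu hu1 => by
    simp [ind, h u hu hu1, mt (hq u).mp hu1]), odd_card_sub_one hV (by omega)] at hs
  exact one_ne_zero hs

include hV hE hE4 hq hB in
/-- No subgroup with more than four elements has a constant value. -/
theorem not_constant (U : Subgroup V) (hU : 4 < Nat.card U) (c : E)
    (h : ∀ u ∈ U, u ≠ 1 → q u = c) : False := by
  have hne : ∀ u ∈ U, u ≠ 1 → c ≠ 1 := fun u hu h1 hc => h1 ((hq u).mp ((h u hu h1).trans hc))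
  by_cases hd : ∃ d : E, d ≠ 1 ∧ d ≠ c
  · obtain ⟨d, hd1, hd2⟩ := hd
    obtain ⟨u, hu, hu1, hud⟩ := exists_value hV hE hE4 q hq hB U hU d hd1
    exact hd2 (hud ▸ h u hu hu1)
  · push Not at hd
    have hE2 : Nat.card E ≤ 2 := by
      classical
      haveI := Fintype.ofFinite E
      rw [Nat.card_eq_fintype_card, ← Finset.card_univ]
      refine (Finset.card_le_card (t := {1, c}) fun x _ => ?_).trans Finset.card_le_two
      by_cases hx : x = 1
      · simp [hx]
      · simp [hd x hx]
    have hs := sum_eq_zero hV 2 _ (deg_ind hE hE4 q hq hB 1 (Or.inr hE2)) U (by norm_num; omega)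
    rw [sum_indicator (fun v => ind 1 (q v)) (by simp [ind, (hq 1).mpr rfl]) (fun u hu hu1 => by
      simp [ind, mt (hq u).mp hu1]), odd_card_sub_one hV (by omega)] at hs
    exact one_ne_zero hs

include hV hE hE4 hq hB in
theorem card_le : Nat.card V ≤ 16 := by
  by_contra hlt
  obtain ⟨c, d, hc, hd, hcd⟩ : ∃ c d : E, (c ≠ 1 ∨ Nat.card E ≤ 2) ∧ (d ≠ 1 ∨ Nat.card E ≤ 2) ∧
      ∀ x : E, (x = 1 ∨ x = c) → (x = 1 ∨ x = d) → x = 1 := by
    by_cases h2 : ∃ c d : E, c ≠ 1 ∧ d ≠ 1 ∧ c ≠ d
    · obtain ⟨c, d, h1, h2, h3⟩ := h2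
      refine ⟨c, d, Or.inl h1, Or.inl h2, fun x hx hy => ?_⟩
      rcases hx with hx | hx
      · exact hx
      · rcases hy with hy | hy
        · exact hy
        · exact absurd (hx.symm.trans hy) h3
    · push Not at h2
      have hE2 : Nat.card E ≤ 2 := by
        by_contra h3
        classical
        haveI := Fintype.ofFinite E
        rw [Nat.card_eq_fintype_card, ← Finset.card_univ] at h3
        have h4 : 1 < (Finset.univ.erase (1 : E)).card := by
          rw [Finset.card_erase_of_mem (Finset.mem_univ _)]; omega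
        obtain ⟨a, ha, b, hb, hab⟩ := Finset.one_lt_card.mp h4
        exact hab (h2 a b (Finset.mem_erase.mp ha).1 (Finset.mem_erase.mp hb).1)
      exact ⟨1, 1, Or.inr hE2, Or.inr hE2, fun x hx _ => hx.elim id id⟩
  have hone : Deg 0 (fun _ : V => (1 : ZMod 2)) := fun _ => rfl
  have hdeg : ∀ c, (c ≠ 1 ∨ Nat.card E ≤ 2) → Deg 2 fun v => (1 : ZMod 2) + ind c (q v) := fun c hc =>
    deg_add (deg_mono (deg_mono hone)) (deg_ind hE hE4 q hq hB c hc)
  have hdeg0 : Deg 4 (fun v => (1 : ZMod 2) + (1 + ind c (q v)) * (1 + ind d (q v))) :=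
    deg_add (deg_mono (deg_mono (deg_mono (deg_mono hone)))) (deg_mul (by norm_num) (hdeg c hc) (hdeg d hd))
  have hs := sum_eq_zero hV 4 _ hdeg0 ⊤ (by rw [Subgroup.card_top]; norm_num; omega)
  rw [sum_indicator _ (by simp [ind, (hq 1).mpr rfl]; rfl) (fun u _ hu1 => by
    have hqu : q u ≠ 1 := mt (hq u).mp hu1
    have : (1 : ZMod 2) + 1 = 0 := rfl
    by_cases h : q u = c
    · have hd' : q u ≠ d := fun e => hqu (hcd _ (Or.inr h) (Or.inr e))
      simp only [ind, hqu, hd', false_or, if_neg, not_false_eq_true, this, mul_zero, add_zero]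
    · simp only [ind, hqu, h, false_or, if_neg, not_false_eq_true, this, zero_mul, add_zero]),
    odd_card_sub_one hV (by rw [Subgroup.card_top]; omega)] at hs
  exact one_ne_zero hs

theorem prime_dvd_of_free {X : Type*} [Finite X] {p : ℕ} [Fact p.Prime] (σ : Equiv.Perm X)
    (hσ : σ ^ p = 1) (h : ∀ x, σ x ≠ x) : p ∣ Nat.card X := by
  classical
  haveI := Fintype.ofFinite X
  have h1 := Equiv.Perm.card_compl_support_modEq (n := 1) (p := p) (σ := σ) (by rw [pow_one, hσ])
  have h2 : σ.supportᶜ = ∅ := by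
    refine Finset.eq_empty_of_forall_notMem fun x hx => ?_
    simp only [Finset.mem_compl, Equiv.Perm.mem_support, not_not] at hx
    exact h x hx
  rw [h2, Finset.card_empty] at h1
  rw [Nat.card_eq_fintype_card]
  exact Nat.modEq_zero_iff_dvd.mp h1.symm

/-- The commutator of an automorphism, as an endomorphism. -/
def diff (σ : MulAut V) : V →* V where
  toFun v := σ v * v⁻¹
  map_one' := by simp
  map_mul' a b := by rw [map_mul, mul_inv, mul_mul_mul_comm]

include hV in
theorem diff_apply (σ : MulAut V) (v : V) : diff σ v = σ v * v := by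
  show σ v * v⁻¹ = σ v * v
  rw [inv_eq_of_mul_eq_one_right (hV v)]

include hV in
/-- An automorphism of odd prime order has no nontrivial fixed point on its commutator. -/
theorem diff_free {p : ℕ} (hp : Odd p) (σ : MulAut V) (hσ : σ ^ p = 1) :
    ∀ u ∈ (diff σ).range, σ u = u → u = 1 := by
  rintro _ ⟨v, rfl⟩ hfix
  obtain ⟨u, hu⟩ : ∃ u, diff σ v = u := ⟨_, rfl⟩
  rw [hu] at hfix ⊢
  have hv : σ v = u * v := by rw [← hu]; exact (inv_mul_cancel_right (σ v) v).symm
  have hpow : ∀ j : ℕ, (σ ^ j) v = u ^ j * v := by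
    intro j
    induction j with
    | zero => simp
    | succ j ih =>
      rw [pow_succ', MulAut.mul_apply, ih, map_mul, map_pow, hfix, hv, ← mul_assoc, pow_succ]
  have := hpow p
  rw [hσ, MulAut.one_apply] at this
  obtain ⟨j, rfl⟩ := hp
  rw [pow_succ, pow_mul, pow_two, hV, one_pow, one_mul] at this
  exact right_eq_mul.mp this

include hV in
theorem dvd_count {p : ℕ} [Fact p.Prime] (hp : Odd p) (σ : MulAut V) (hσ : σ ^ p = 1)
    (hinv : ∀ v, q (σ v) = q v) (P : E → Prop) :
    p ∣ Nat.card {u : V // u ∈ (diff σ).range ∧ u ≠ 1 ∧ P (q u)} := by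
  have hmem : ∀ u : V, (u ∈ (diff σ).range ∧ u ≠ 1 ∧ P (q u)) →
      (σ u ∈ (diff σ).range ∧ σ u ≠ 1 ∧ P (q (σ u))) := by
    rintro u ⟨⟨v, rfl⟩, h1, hc⟩
    refine ⟨⟨σ v, ?_⟩, fun h => h1 (by simpa using h), by rw [hinv]; exact hc⟩
    show σ (σ v) * (σ v)⁻¹ = σ (σ v * v⁻¹)
    rw [map_mul, map_inv]
  let f : {u : V // u ∈ (diff σ).range ∧ u ≠ 1 ∧ P (q u)} → {u : V // u ∈ (diff σ).range ∧ u ≠ 1 ∧ P (q u)} :=
    fun u => ⟨σ u, hmem _ u.2⟩
  have hf : Function.Injective f := fun a b h => Subtype.ext (σ.injective (congrArg Subtype.val h))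
  let π := Equiv.ofBijective f (Finite.injective_iff_bijective.mp hf)
  have hπ : ∀ (j : ℕ) (u), ((π ^ j) u).1 = (σ ^ j) u.1 := by
    intro j
    induction j with
    | zero => intro u; simp
    | succ j ih => intro u; rw [pow_succ', pow_succ', Equiv.Perm.mul_apply, MulAut.mul_apply, ← ih]; rfl
  exact prime_dvd_of_free π (Equiv.ext fun u => Subtype.ext (by rw [hπ, hσ]; rfl))
    fun u h => u.2.2.1 (diff_free hV hp σ hσ _ u.2.1 (congrArg Subtype.val h))

include hV in
theorem card_range {p : ℕ} [hp' : Fact p.Prime] (hp : Odd p) (σ : MulAut V) (hσ : orderOf σ = p) :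
    1 < Nat.card (diff σ).range ∧ p ∣ Nat.card (diff σ).range - 1 := by
  have hpow : σ ^ p = 1 := hσ ▸ pow_orderOf_eq_one σ
  constructor
  · refine (Subgroup.one_lt_card_iff_ne_bot _).mpr fun h => ?_
    have h1 : σ = 1 := MulEquiv.ext fun v => by
      have hm : diff σ v ∈ (diff σ).range := ⟨v, rfl⟩
      rw [h, Subgroup.mem_bot] at hm
      exact mul_inv_eq_one.mp hm
    rw [h1, orderOf_one] at hσ
    exact hp'.out.ne_one hσ.symm
  · have h := dvd_count hV (fun _ : V => (1 : Multiplicative (ZMod 2))) hp σ hpow (fun _ => rfl) (fun _ => True)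
    suffices Nat.card {u : V // u ∈ (diff σ).range ∧ u ≠ 1 ∧ True} = Nat.card (diff σ).range - 1 by rwa [← this]
    classical
    haveI := Fintype.ofFinite (diff σ).range
    rw [Nat.card_eq_fintype_card (α := (diff σ).range),
      Nat.card_congr (show {u : V // u ∈ (diff σ).range ∧ u ≠ 1 ∧ True} ≃ {u : (diff σ).range // u ≠ 1} from
        { toFun := fun u => ⟨⟨u.1, u.2.1⟩, fun h => u.2.2.1 (congrArg Subtype.val h)⟩
          invFun := fun u => ⟨u.1.1, u.1.2, fun h => u.2 (Subtype.ext h), trivial⟩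
          left_inv := fun _ => rfl, right_inv := fun _ => rfl }),
      Nat.card_eq_fintype_card, Fintype.card_subtype_compl, Fintype.card_subtype_eq]

theorem count_pos {p : ℕ} [Fact p.Prime] (hp : Odd p) (hV : ∀ v : V, v * v = 1) (σ : MulAut V) (hσ : σ ^ p = 1)
    (hinv : ∀ v, q (σ v) = q v) {u : V} (hu : u ∈ (diff σ).range) (hu1 : u ≠ 1) :
    p ≤ Nat.card {v : V // v ∈ (diff σ).range ∧ v ≠ 1 ∧ q v = q u} := by
  haveI : Nonempty {v : V // v ∈ (diff σ).range ∧ v ≠ 1 ∧ q v = q u} := ⟨⟨u, hu, hu1, rfl⟩⟩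
  exact Nat.le_of_dvd Nat.card_pos (dvd_count hV q hp σ hσ hinv (fun e => e = q u))

include hV hE hE4 hq hB in
theorem not_seven (σ : MulAut V) (hinv : ∀ v, q (σ v) = q v) : orderOf σ ≠ 7 := by
  classical
  intro hσ
  haveI : Fact (Nat.Prime 7) := ⟨by norm_num⟩
  have h7 : Odd 7 := ⟨3, rfl⟩
  obtain ⟨h1, h2⟩ := card_range hV h7 σ hσ
  have hV16 := card_le hV hE hE4 q hq hB
  obtain ⟨m, hm⟩ : ∃ m, Nat.card (diff σ).range = m := ⟨_, rfl⟩
  rw [hm] at h1 h2
  have hle : m ≤ 16 := hm ▸ (Subgroup.card_le_card_group _).trans hV16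
  have hp2 : IsPGroup 2 (diff σ).range := fun u => ⟨1, Subtype.ext (by simpa [pow_two] using hV u)⟩
  haveI := Fact.mk Nat.prime_two
  obtain ⟨k, hk⟩ := hp2.exists_card_eq
  rw [hm] at hk
  subst hk
  have hk4 : k ≤ 4 := (Nat.pow_le_pow_iff_right (by norm_num)).mp (hle.trans (by norm_num : 16 ≤ 2 ^ 4))
  have hk3 : k = 3 := by interval_cases k <;> simp_all
  subst hk3
  obtain ⟨u₀, hu₀, hu₀1⟩ : ∃ u ∈ (diff σ).range, u ≠ 1 := by
    refine (diff σ).range.bot_or_exists_ne_one.resolve_left fun h => ?_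
    rw [h, Subgroup.card_bot] at hm; norm_num at hm
  refine not_constant hV hE hE4 q hq hB _ (by rw [hm]; norm_num) (q u₀) fun u hu hu1 => ?_
  by_contra hne
  have ha := count_pos (p := 7) q h7 hV σ (hσ ▸ pow_orderOf_eq_one σ) hinv hu hu1
  have hb := count_pos (p := 7) q h7 hV σ (hσ ▸ pow_orderOf_eq_one σ) hinv hu₀ hu₀1
  haveI := Fintype.ofFinite V
  rw [Nat.card_eq_fintype_card, Fintype.card_subtype] at ha hb
  have hsub : (Finset.univ.filter fun v => v ∈ (diff σ).range ∧ v ≠ 1 ∧ q v = q u) ∪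
      (Finset.univ.filter fun v => v ∈ (diff σ).range ∧ v ≠ 1 ∧ q v = q u₀) ⊆
      Finset.univ.filter fun v => v ∈ (diff σ).range := by
    intro v hv
    simp only [Finset.mem_union, Finset.mem_filter] at hv ⊢
    rcases hv with h | h <;> exact ⟨h.1, h.2.1⟩
  have hdisj : Disjoint (Finset.univ.filter fun v => v ∈ (diff σ).range ∧ v ≠ 1 ∧ q v = q u)
      (Finset.univ.filter fun v => v ∈ (diff σ).range ∧ v ≠ 1 ∧ q v = q u₀) := by
    rw [Finset.disjoint_filter]
    rintro v - h h'
    exact hne (h.2.2.symm.trans h'.2.2)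
  have := Finset.card_le_card hsub
  rw [Finset.card_union_of_disjoint hdisj, ← Fintype.card_subtype (fun v => v ∈ (diff σ).range), ← Nat.card_eq_fintype_card, hm] at this
  omega

include hV hE hE4 hq hB in
theorem not_five_and_three (σ τ : MulAut V) (hσi : ∀ v, q (σ v) = q v) (hτi : ∀ v, q (τ v) = q v)
    (hσ : orderOf σ = 5) (hτ : orderOf τ = 3) : False := by
  classical
  haveI : Fact (Nat.Prime 5) := ⟨by norm_num⟩
  haveI : Fact (Nat.Prime 3) := ⟨by norm_num⟩
  haveI := Fact.mk Nat.prime_two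
  haveI := Fintype.ofFinite V
  have hV16 := card_le hV hE hE4 q hq hB
  obtain ⟨h1, h2⟩ := card_range hV (p := 5) ⟨2, rfl⟩ σ hσ
  obtain ⟨h1', h2'⟩ := card_range hV (p := 3) ⟨1, rfl⟩ τ hτ
  have hpow : ∀ U : Subgroup V, ∃ k, Nat.card U = 2 ^ k :=
    fun U => IsPGroup.exists_card_eq (fun u => ⟨1, Subtype.ext (by simpa [pow_two] using hV u)⟩)
  obtain ⟨k, hk⟩ := hpow (diff σ).range
  have hk4 : k ≤ 4 := (Nat.pow_le_pow_iff_right (by norm_num)).mp
    (hk ▸ ((Subgroup.card_le_card_group _).trans hV16).trans (by norm_num : 16 ≤ 2 ^ 4))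
  rw [hk] at h1 h2
  have hk' : k = 4 := by interval_cases k <;> simp_all
  subst hk'
  have hV' : Nat.card V = 16 := le_antisymm hV16 (by
    have := Subgroup.card_le_card_group (diff σ).range; rw [hk] at this; exact this)
  have htop : (diff σ).range = ⊤ := Subgroup.eq_top_of_card_eq _ (by rw [hk, hV']; norm_num)
  have h5 : ∀ P : E → Prop, 5 ∣ (Finset.univ.filter fun v : V => v ≠ 1 ∧ P (q v)).card := by
    intro P
    have := dvd_count hV q (p := 5) ⟨2, rfl⟩ σ (hσ ▸ pow_orderOf_eq_one σ) hσi P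
    rw [Nat.card_eq_fintype_card, Fintype.card_subtype] at this
    simpa [htop] using this
  obtain ⟨u₀, hu₀, hu₀1⟩ : ∃ u ∈ (diff τ).range, u ≠ 1 := by
    refine (diff τ).range.bot_or_exists_ne_one.resolve_left fun h => ?_
    rw [h, Subgroup.card_bot] at h1'; omega
  obtain ⟨k', hk'⟩ := hpow (diff τ).range
  have hk4' : k' ≤ 4 := (Nat.pow_le_pow_iff_right (by norm_num)).mp
    (hk' ▸ ((Subgroup.card_le_card_group _).trans hV16).trans (by norm_num : 16 ≤ 2 ^ 4))
  rw [hk'] at h1' h2'
  have hτ3 : τ ^ 3 = 1 := hτ ▸ pow_orderOf_eq_one τ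
  have h3 : ∀ P : E → Prop, 3 ∣ (Finset.univ.filter fun v : V => v ∈ (diff τ).range ∧ v ≠ 1 ∧ P (q v)).card := by
    intro P
    have := dvd_count hV q (p := 3) ⟨1, rfl⟩ τ hτ3 hτi P
    rwa [Nat.card_eq_fintype_card, Fintype.card_subtype] at this
  have hcases : k' = 2 ∨ k' = 4 := by interval_cases k' <;> simp_all
  rcases hcases with rfl | rfl
  · -- a fixed space times a plane
    have hconst : ∀ u ∈ (diff τ).range, u ≠ 1 → q u = q u₀ := by
      intro u hu hu1
      by_contra hne
      have ha := count_pos (p := 3) q ⟨1, rfl⟩ hV τ hτ3 hτi hu hu1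
      rw [Nat.card_eq_fintype_card, Fintype.card_subtype] at ha
      have hs : Finset.univ.filter (fun v => v ∈ (diff τ).range ∧ v ≠ 1 ∧ q v = q u) ⊆
          ((Finset.univ.filter fun v => v ∈ (diff τ).range).erase 1).erase u₀ := by
        intro v hv
        simp only [Finset.mem_filter, Finset.mem_univ, true_and, Finset.mem_erase] at hv ⊢
        exact ⟨fun e => hne (hv.2.2.symm.trans (congrArg q e)), hv.2.1, hv.1⟩
      have := Finset.card_le_card hs
      rw [Finset.card_erase_of_mem (Finset.mem_erase.mpr ⟨hu₀1, Finset.mem_filter.mpr ⟨Finset.mem_univ _, hu₀⟩⟩),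
        Finset.card_erase_of_mem (Finset.mem_filter.mpr ⟨Finset.mem_univ _, one_mem _⟩),
        ← Fintype.card_subtype (fun v => v ∈ (diff τ).range), ← Nat.card_eq_fintype_card, hk'] at this
      omega
    have hsplit : ∀ v : V, ∃ u ∈ (diff τ).range, τ (v * u) = v * u := by
      have hdisj : Disjoint (diff τ).range (diff τ).ker := by
        rw [Subgroup.disjoint_def]
        intro u hu hk
        exact diff_free hV (p := 3) ⟨1, rfl⟩ τ hτ3 u hu (mul_inv_eq_one.mp hk)
      have hcomp : Subgroup.IsComplement' (diff τ).range (diff τ).ker :=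
        Subgroup.isComplement'_of_card_mul_and_disjoint (by rw [← Subgroup.index_ker, mul_comm, Subgroup.card_mul_index]) hdisj
      intro v
      obtain ⟨⟨u, f⟩, huf⟩ := hcomp.2 v
      refine ⟨u, u.2, ?_⟩
      have e : v * (u : V) = f := by
        simp only at huf
        rw [← huf, mul_comm (u : V), mul_assoc, hV, mul_one]
      rw [e]
      exact mul_inv_eq_one.mp f.2
    have hτB : ∀ f, τ f = f → ∀ u ∈ (diff τ).range, q (f * u) = q f * q u := by
      rintro f hf _ ⟨w, rfl⟩
      have e := hB (τ w) w f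
      rw [← diff_apply hV τ w] at e
      have e2 : q (τ w * f) = q (w * f) := by
        have h' := hτi (w * f)
        rwa [map_mul, hf] at h'
      rw [e2, hτi w, hE, mul_comm (diff τ w) f] at e
      calc q (f * diff τ w) = (q (f * diff τ w) * q (diff τ w) * q f) * (q f * q (diff τ w)) := by
            simp only [mul_assoc, mul_left_comm (q f) (q f), hE, mul_one]
            rw [← mul_assoc (q f) (q f), hE, one_mul, hE, mul_one]
        _ = q f * q (diff τ w) := by rw [e, one_mul]
    have hset : (Finset.univ.filter fun v : V => v ≠ 1 ∧ q v = q u₀) = (Finset.univ.filter fun v => v ∈ (diff τ).range).erase 1 := by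
      ext v
      simp only [Finset.mem_filter, Finset.mem_univ, true_and, Finset.mem_erase]
      constructor
      · rintro ⟨hv1, hv⟩
        refine ⟨hv1, ?_⟩
        obtain ⟨u, hu, hf⟩ := hsplit v
        by_cases hfix : v * u = 1
        · have : v = u := by rw [← inv_eq_of_mul_eq_one_left (hV u)]; exact eq_inv_of_mul_eq_one_left hfix
          exact this ▸ hu
        exfalso
        obtain ⟨f, hfd⟩ : ∃ f, v * u = f := ⟨_, rfl⟩
        rw [hfd] at hf hfix
        have hqv : q v = q f * q u := by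
          rw [← hτB f hf u hu, ← hfd, mul_assoc, hV, mul_one]
        by_cases hu1 : u = 1
        · subst hu1
          rw [(hq 1).mpr rfl, mul_one] at hqv
          have hq0 := hτB f hf u₀ hu₀
          rw [← hqv, hv, hE] at hq0
          have he : f * u₀ = 1 := (hq _).mp hq0
          have : u₀ = f := by rw [← inv_eq_of_mul_eq_one_left (hV f)]; exact eq_inv_of_mul_eq_one_right he
          exact hfix (diff_free hV (p := 3) ⟨1, rfl⟩ τ hτ3 f (this ▸ hu₀) hf)
        · rw [hconst u hu hu1, hv] at hqv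
          exact hfix ((hq f).mp (right_eq_mul.mp hqv))
      · exact fun h => ⟨h.1, hconst v h.2 h.1⟩
    have := h5 (fun e => e = q u₀)
    rw [hset, Finset.card_erase_of_mem (Finset.mem_filter.mpr ⟨Finset.mem_univ _, one_mem _⟩), ← Fintype.card_subtype (fun v => v ∈ (diff τ).range),
      ← Nat.card_eq_fintype_card, hk'] at this
    norm_num at this
  · -- a fixed-point-free element of order three
    have htop' : (diff τ).range = ⊤ := Subgroup.eq_top_of_card_eq _ (by rw [hk', hV']; norm_num)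
    refine not_constant hV hE hE4 q hq hB ⊤ (by rw [Subgroup.card_top, hV']; norm_num) (q u₀) fun u _ hu1 => ?_
    by_contra hne
    have ha := h5 (fun e => e = q u₀)
    have hb := h3 (fun e => e = q u₀)
    simp only [htop', Subgroup.mem_top, true_and] at hb
    have h15 := Nat.Coprime.mul_dvd_of_dvd_of_dvd (by norm_num : Nat.Coprime 5 3) ha hb
    have hs : Finset.univ.filter (fun v : V => v ≠ 1 ∧ q v = q u₀) ⊆ (Finset.univ.erase (1 : V)).erase u := by
      intro v hv
      simp only [Finset.mem_filter, Finset.mem_univ, true_and, Finset.mem_erase, and_true] at hv ⊢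
      exact ⟨fun e => hne (by rw [← e]; exact hv.2), hv.1⟩
    have := Finset.card_le_card hs
    rw [Finset.card_erase_of_mem (by simp [hu1]), Finset.card_erase_of_mem (by simp), Finset.card_univ,
      ← Nat.card_eq_fintype_card, hV'] at this
    have hpos : 0 < (Finset.univ.filter fun v : V => v ≠ 1 ∧ q v = q u₀).card :=
      Finset.card_pos.mpr ⟨u₀, by simp [hu₀1]⟩
    have := Nat.le_of_dvd hpos h15
    omega

include hV hE hE4 hq hB in
/-- The isometry group is solvable. -/
theorem isometry_solvable (H : Subgroup (MulAut V)) (hH : ∀ h ∈ H, ∀ v, q (h v) = q v) :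
    Group.IsSolvable H := by
  have hV16 := card_le hV hE hE4 q hq hB
  obtain ⟨f, hf⟩ := Cfsg.Agent.S3103.exists_embed (fun v => by rw [pow_two]; exact hV v) hV16
  have hdvd : Nat.card H ∣ 20160 := by
    refine H.card_subgroup_dvd_card.trans ((Subgroup.card_dvd_of_injective f hf).trans (dvd_of_eq ?_))
    rw [nat_card_alternatingGroup, Nat.card_fin]
    norm_num [Nat.factorial]
  have hel : ∀ p : ℕ, p.Prime → p ∣ Nat.card H → ∃ σ : MulAut V, (∀ v, q (σ v) = q v) ∧ orderOf σ = p := by
    intro p hp h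
    haveI := Fact.mk hp
    obtain ⟨σ, hσ⟩ := exists_prime_orderOf_dvd_card' p h
    exact ⟨σ, hH σ σ.2, by rw [Subgroup.orderOf_coe]; exact hσ⟩
  have h7 : ¬ 7 ∣ Nat.card H := fun h => by
    obtain ⟨σ, hσi, hσ⟩ := hel 7 (by norm_num) h
    exact not_seven hV hE hE4 q hq hB σ hσi hσ
  have h2880 : Nat.card H ∣ 2880 :=
    ((Nat.Prime.coprime_iff_not_dvd (by norm_num : Nat.Prime 7)).mpr h7).symm.dvd_of_dvd_mul_right
      (n := 7) (by simpa using hdvd)
  have two : ∀ r b, r.Prime → r ≠ 2 → Nat.card H ∣ 2 ^ 6 * r ^ b → Group.IsSolvable H := by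
    intro r b hr hr2 h
    obtain ⟨⟨a, c⟩, hac⟩ : ∃ ac : ℕ × ℕ, Nat.card H = 2 ^ ac.1 * r ^ ac.2 := by
      obtain ⟨d₁, d₂, h1, h2, he⟩ := exists_dvd_and_dvd_of_dvd_mul h
      obtain ⟨a, -, rfl⟩ := (Nat.dvd_prime_pow Nat.prime_two).mp h1
      obtain ⟨c, -, rfl⟩ := (Nat.dvd_prime_pow hr).mp h2
      exact ⟨(a, c), he⟩
    exact Cfsg.Agent.S0144.result 2 r a c Nat.prime_two hr hac
  by_cases h5 : 5 ∣ Nat.card H
  · have h3 : ¬ 3 ∣ Nat.card H := fun h => by
      obtain ⟨σ, hσi, hσ⟩ := hel 5 (by norm_num) h5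
      obtain ⟨τ, hτi, hτ⟩ := hel 3 (by norm_num) h
      exact not_five_and_three hV hE hE4 q hq hB σ τ hσi hτi hσ hτ
    exact two 5 1 (by norm_num) (by norm_num)
      ((((Nat.Prime.coprime_iff_not_dvd Nat.prime_three).mpr h3).symm.pow_right 2).dvd_of_dvd_mul_right
        (by simpa using h2880))
  · exact two 3 2 (by norm_num) (by norm_num)
      (((Nat.Prime.coprime_iff_not_dvd (by norm_num : Nat.Prime 5)).mpr h5).symm.dvd_of_dvd_mul_right
        (n := 5) (by simpa using h2880))

end Quad

end Cfsg.Agent.InvChar.AnisoPair
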