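import Cfsg.Agent.KnownSimple58.A8Subgroups
import Cfsg.Agent.Lib.CharCore.Burnside
import Cfsg.Agent.Lib.Thompson.Cores
import Cfsg.Agent.S2553

/-!
Nonsolvable subgroups of the alternating group of degree 8 with trivial 2-core.
-/

set_option autoImplicit false

namespace Cfsg.Agent.InvChar.EightRadical

open Cfsg.Agent.KnownSimple58.A8Sub
open Cfsg.Agent

theorem solvable_of_dvd {G : Type*} [Group G] [Finite G] (a b : ℕ) (h : Nat.card G ∣ 2 ^ a * 3 ^ b) :
    Group.IsSolvable G := by
  obtain ⟨x, y, hx, hy, hxy⟩ := Nat.dvd_mul.mp h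
  obtain ⟨i, -, rfl⟩ := (Nat.dvd_prime_pow Nat.prime_two).mp hx
  obtain ⟨j, -, rfl⟩ := (Nat.dvd_prime_pow Nat.prime_three).mp hy
  exact CharCore.isSolvable_of_card_eq_prime_pow_mul Nat.prime_two Nat.prime_three _ G i j rfl hxy.symm

theorem solvable_extension {G : Type*} [Group G] (N : Subgroup G) [N.Normal] [Group.IsSolvable N]
    [Group.IsSolvable (G ⧸ N)] : Group.IsSolvable G :=
  Group.isSolvable_of_ker_le_range N.subtype (QuotientGroup.mk' N)
    (by rw [QuotientGroup.ker_mk', Subgroup.range_subtype])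

variable {Q : Type*} [Group Q] [Finite Q] (ι : Q →* A) (hι : Function.Injective ι)

include hι in
theorem card_pGroup_le {p : ℕ} [hp : Fact p.Prime] {P : Subgroup Q} (hP : IsPGroup p P) (k : ℕ)
    (hk : ¬ p ^ (k + 1) ∣ 20160) : ∃ j ≤ k, Nat.card P = p ^ j := by
  obtain ⟨j, hj⟩ := hP.exists_card_eq
  refine ⟨j, ?_, hj⟩
  by_contra hlt
  exact hk ((pow_dvd_pow p (by omega)).trans (hj ▸ (Subgroup.card_subgroup_dvd_card P).trans (dvd_card ι hι)))

include hι in
theorem pCore_big_prime (hns : ¬ Group.IsSolvable Q) (p B : ℕ) [hp : Fact p.Prime] (hd2 : ¬ p ^ 2 ∣ 20160)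
    (hB : ∀ P : Sylow p A, Nat.card ↥(Subgroup.normalizer ((P : Subgroup A) : Set A)) = B)
    (hsolv : ∀ n, p * n ∣ B → n ∣ 2 ^ 2 * 3) : Cfsg.pCore p Q = ⊥ := by
  by_contra hne
  haveI : (Cfsg.pCore p Q).Normal := Thompson.instPCoreNormal
  have hp' : IsPGroup p ↥(Cfsg.pCore p Q) := Thompson.isPGroup_pCore
  obtain ⟨j, hj, hcard⟩ := card_pGroup_le ι hι hp' 1 hd2
  have hj1 : j = 1 := by
    rcases Nat.le_one_iff_eq_zero_or_eq_one.mp hj with rfl | rfl
    · exact absurd (Subgroup.eq_bot_of_card_eq _ (by rw [hcard, pow_zero])) hne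
    · rfl
  subst hj1
  rw [pow_one] at hcard
  have hndvd : ¬ p ∣ (Cfsg.pCore p Q).index := fun h => hd2 (by
    rw [pow_two]
    refine (Nat.mul_dvd_mul_left p h).trans ?_
    refine dvd_trans (dvd_of_eq ?_) (dvd_card ι hι)
    have hh := (Cfsg.pCore p Q).card_mul_index
    rw [hcard] at hh
    exact hh)
  let P : Sylow p Q := hp'.toSylow hndvd
  have hd := normalizer_dvd ι hι p B (hcard ▸ Subgroup.card_subgroup_dvd_card _) hd2 hB P
  have htop : Subgroup.normalizer ((P : Subgroup Q) : Set Q) = ⊤ := Subgroup.normalizer_eq_top_iff.mpr (inferInstanceAs (Cfsg.pCore p Q).Normal)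
  rw [htop, Subgroup.card_top, ← (Cfsg.pCore p Q).card_mul_index, hcard, Subgroup.index_eq_card] at hd
  haveI := hp'.isNilpotent
  haveI := solvable_of_dvd (G := Q ⧸ Cfsg.pCore p Q) 2 1 (hsolv _ hd)
  exact hns (solvable_extension (Cfsg.pCore p Q))

include hι in
theorem pCore_three_le (hns : ¬ Group.IsSolvable Q) : Nat.card ↥(Cfsg.pCore 3 Q) = 1 ∨ Nat.card ↥(Cfsg.pCore 3 Q) = 3 := by
  haveI : Fact (Nat.Prime 3) := ⟨Nat.prime_three⟩
  haveI : (Cfsg.pCore 3 Q).Normal := Thompson.instPCoreNormal
  obtain ⟨j, hj, hcard⟩ := card_pGroup_le ι hι (P := Cfsg.pCore 3 Q) Thompson.isPGroup_pCore 2 (by norm_num)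
  interval_cases j
  · exact Or.inl hcard
  · exact Or.inr hcard
  exfalso
  -- an element of order 5 or 7
  obtain ⟨p, hp, hp5, hpd, hB⟩ : ∃ p, p.Prime ∧ 5 ≤ p ∧ p ∣ Nat.card Q ∧ (p = 5 ∨ p = 7) := by
    have hd := dvd_card ι hι
    by_cases h5 : 5 ∣ Nat.card Q
    · exact ⟨5, by norm_num, le_rfl, h5, Or.inl rfl⟩
    by_cases h7 : 7 ∣ Nat.card Q
    · exact ⟨7, by norm_num, by norm_num, h7, Or.inr rfl⟩
    exfalso
    refine hns (solvable_of_dvd 6 2 ?_)
    have c5 : (Nat.card Q).Coprime 5 := ((Nat.Prime.coprime_iff_not_dvd (by norm_num)).mpr h5).symm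
    have c7 : (Nat.card Q).Coprime 7 := ((Nat.Prime.coprime_iff_not_dvd (by norm_num)).mpr h7).symm
    exact (Nat.Coprime.mul_right c5 c7).dvd_of_dvd_mul_right (show Nat.card Q ∣ (2 ^ 6 * 3 ^ 2) * (5 * 7) by norm_num; exact hd)
  haveI : Fact p.Prime := ⟨hp⟩
  obtain ⟨P⟩ : Nonempty (Sylow p Q) := inferInstance
  set T := Cfsg.pCore 3 Q with hT
  letI : MulAction ↥(P : Subgroup Q) ↥T :=
    MulAction.compHom _ ((MulAut.conjNormal (H := T)).comp (P : Subgroup Q).subtype)
  have hmod := P.isPGroup'.card_modEq_card_fixedPoints ↥T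
  let F : Subgroup ↥T := (Subgroup.centralizer ((P : Subgroup Q) : Set Q)).subgroupOf T
  have hF : MulAction.fixedPoints ↥(P : Subgroup Q) ↥T = (F : Set ↥T) := by
    ext t
    rw [SetLike.mem_coe, Subgroup.mem_subgroupOf, Subgroup.mem_centralizer_iff, MulAction.mem_fixedPoints]
    constructor
    · intro h g hg
      have := congrArg Subtype.val (h ⟨g, hg⟩)
      rw [show ((⟨g, hg⟩ : ↥(P : Subgroup Q)) • t : ↥T) = MulAut.conjNormal g t from rfl, MulAut.conjNormal_apply] at this
      exact mul_inv_eq_iff_eq_mul.mp this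
    · intro h g
      refine Subtype.ext ?_
      show ((MulAut.conjNormal (g : Q) t : ↥T) : Q) = t
      rw [MulAut.conjNormal_apply, h _ g.2, mul_inv_cancel_right]
  rw [hF, show Nat.card ((F : Set ↥T) : Set ↥T) = Nat.card F from rfl, hcard] at hmod
  have hFd := F.card_subgroup_dvd_card
  rw [hcard] at hFd
  obtain ⟨i, hi, hFi⟩ := (Nat.dvd_prime_pow Nat.prime_three).mp hFd
  rw [hFi] at hmod
  have hF9 : F = ⊤ := by
    refine Subgroup.eq_top_of_card_eq F ?_
    rw [hFi, hcard]
    rcases hB with rfl | rfl <;> interval_cases i <;> first | rfl | (exact absurd hmod (by decide))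
  have hle : T ≤ Subgroup.normalizer ((P : Subgroup Q) : Set Q) :=
    (Subgroup.subgroupOf_eq_top.mp hF9).trans (Subgroup.centralizer_le_normalizer _)
  have h9 := (Subgroup.card_dvd_of_le hle)
  rw [hcard] at h9
  rcases hB with rfl | rfl
  · exact absurd (h9.trans (normalizer_dvd ι hι 5 60 hpd (by norm_num) card_normalizer_five P)) (by norm_num)
  · exact absurd (h9.trans (normalizer_dvd ι hι 7 21 hpd (by norm_num) card_normalizer_seven P)) (by norm_num)

/-- nonsolvable subgroups of the symmetric group of degree 5 -/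
theorem nonsolvable_five {G : Type*} [Group G] (f : G →* Equiv.Perm (Fin 5)) (hf : Function.Injective f)
    (hns : ¬ Group.IsSolvable G) : Nonempty (G ≃* ↥(alternatingGroup (Fin 5))) ∨ Nonempty (G ≃* Equiv.Perm (Fin 5)) := by
  classical
  haveI : Finite G := Finite.of_injective f hf
  let H := f.range
  let e : G ≃* H := MonoidHom.ofInjective hf
  let K : Subgroup (alternatingGroup (Fin 5)) := H.subgroupOf (alternatingGroup (Fin 5))
  have hKtop : K = ⊤ := by
    by_contra hne
    haveI hs : IsSimpleGroup (alternatingGroup (Fin 5)) := alternatingGroup.isSimpleGroup (by simp)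
    have hc : Nat.card (alternatingGroup (Fin 5)) = 60 := by rw [nat_card_alternatingGroup, Nat.card_fin]; rfl
    have h2 := SmallGroups.two_mul_card_dvd_index (SmallGroups.not_comm_of_not_prime (by rw [hc]; norm_num)) hne
    have hm := K.card_mul_index
    rw [hc] at h2 hm
    have hidx : 5 ≤ K.index := by
      by_contra hlt
      have h4 : K.index.factorial ≤ Nat.factorial 4 := Nat.factorial_le (by omega)
      have := Nat.le_of_dvd (Nat.factorial_pos _) h2
      norm_num [Nat.factorial] at h4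
      omega
    have hK12 : Nat.card K ≤ 12 := by nlinarith
    have hKd : Nat.card K ∣ 60 := Dvd.intro _ hm
    haveI hKs : Group.IsSolvable K := by
      by_cases h5 : 5 ∣ Nat.card K
      · obtain ⟨c, hc⟩ := h5
        have : c = 1 ∨ c = 2 := by
          have : c ≤ 2 := by omega
          have : c ≠ 0 := fun h0 => by rw [h0, mul_zero] at hc; exact Nat.card_pos.ne' hc
          omega
        rcases this with rfl | rfl
        · exact CharCore.isSolvable_of_card_eq_prime_pow_mul Nat.prime_two (by norm_num : Nat.Prime 5) _ K 0 1 rfl (by rw [hc]; norm_num)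
        · exact CharCore.isSolvable_of_card_eq_prime_pow_mul Nat.prime_two (by norm_num : Nat.Prime 5) _ K 1 1 rfl (by rw [hc]; norm_num)
      · refine solvable_of_dvd 2 1 ?_
        exact (((Nat.Prime.coprime_iff_not_dvd (by norm_num)).mpr h5).symm).dvd_of_dvd_mul_right
          (hKd.trans (dvd_of_eq (by norm_num : 60 = (2 ^ 2 * 3 ^ 1) * 5)))
    apply hns
    let s : G →* ℤˣ := Equiv.Perm.sign.comp f
    let j : s.ker →* K :=
      { toFun := fun g => ⟨⟨f g.1, g.2⟩, ⟨g.1, rfl⟩⟩
        map_one' := Subtype.ext (Subtype.ext (map_one f))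
        map_mul' := fun a b => Subtype.ext (Subtype.ext (map_mul f a.1 b.1)) }
    haveI : Group.IsSolvable s.ker := Group.isSolvable_of_isSolvable_injective (f := j) fun a b h =>
      Subtype.ext (hf (congrArg (fun x : K => x.1.1) h))
    haveI : Group.IsSolvable (G ⧸ s.ker) := Group.isSolvable_of_isSolvable_injective (QuotientGroup.kerLift_injective s)
    exact solvable_extension s.ker
  have hle : alternatingGroup (Fin 5) ≤ H := Subgroup.subgroupOf_eq_top.mp hKtop
  have hd := Subgroup.index_dvd_of_le hle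
  rw [alternatingGroup.index_eq_two] at hd
  rcases (Nat.dvd_prime Nat.prime_two).mp hd with h | h
  · exact Or.inr ⟨(e.trans (MulEquiv.subgroupCongr (Subgroup.index_eq_one.mp h))).trans Subgroup.topEquiv⟩
  · exact Or.inl ⟨e.trans (MulEquiv.subgroupCongr (Equiv.Perm.eq_alternatingGroup_of_index_eq_two h))⟩

include hι in
theorem three_core (hns : ¬ Group.IsSolvable Q) (T : Subgroup Q) [T.Normal] (h3 : Nat.card ↥T = 3) :
    Nonempty (Q ⧸ T ≃* ↥(alternatingGroup (Fin 5))) ∨ Nonempty (Q ⧸ T ≃* Equiv.Perm (Fin 5)) := by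
  classical
  haveI : Fact (Nat.Prime 3) := ⟨Nat.prime_three⟩
  obtain ⟨z, hz⟩ := exists_prime_orderOf_dvd_card' (G := T) 3 (by rw [h3])
  have hz3 : (z : Q) ^ 3 = 1 := by rw [← Subgroup.coe_pow, ← hz, pow_orderOf_eq_one, Subgroup.coe_one]
  have hzgen : ∀ t ∈ T, t = 1 ∨ t = (z : Q) ∨ t = (z : Q)⁻¹ := by
    intro t ht
    haveI := Fintype.ofFinite ↥T
    have hz1 : z ≠ 1 := fun h => by rw [h, orderOf_one] at hz; norm_num at hz
    have hzz : z⁻¹ ≠ z := fun h => by
      have : z ^ 2 = 1 := by rw [pow_two]; nth_rw 1 [← h]; exact inv_mul_cancel z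
      have := orderOf_dvd_of_pow_eq_one this
      rw [hz] at this; norm_num at this
    have : ({1, z, z⁻¹} : Finset T) = Finset.univ := Finset.eq_univ_of_card _ (by
      rw [← Nat.card_eq_fintype_card, h3, Finset.card_insert_of_notMem, Finset.card_pair hzz.symm]
      simp [hz1, hz1.symm])
    have h := Finset.mem_univ (⟨t, ht⟩ : T)
    rw [← this] at h
    simp only [Finset.mem_insert, Finset.mem_singleton] at h
    rcases h with h | h | h
    · exact Or.inl (congrArg Subtype.val h)
    · exact Or.inr (Or.inl (congrArg Subtype.val h))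
    · exact Or.inr (Or.inr (congrArg Subtype.val h))
  have hordz : orderOf (ι z : Equiv.Perm (Fin 8)) = 3 := by
    rw [Subgroup.orderOf_coe, orderOf_injective ι hι, Subgroup.orderOf_coe, hz]
  generalize hw : (ι z : Equiv.Perm (Fin 8)) = w at hordz
  obtain ⟨n, hn⟩ := Equiv.Perm.cycleType_prime_order (σ := w) (hordz ▸ Nat.prime_three)
  rw [hordz] at hn
  have hn1 : n ≤ 1 := by
    have hs := Equiv.Perm.sum_cycleType w
    have hle := Finset.card_le_univ w.support
    rw [hn, Multiset.sum_replicate, smul_eq_mul] at hs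
    rw [← hs, Fintype.card_fin] at hle
    omega
  have hsupp : w.support.card = (n + 1) * 3 := by
    rw [← Equiv.Perm.sum_cycleType, hn, Multiset.sum_replicate, smul_eq_mul]
  interval_cases n
  · -- a 3-cycle
    let B := {x : Fin 8 // x ∉ w.support}
    have hinv : ∀ (q : Q) (x : Fin 8), (ι q : Equiv.Perm (Fin 8)) x ∉ w.support ↔ x ∉ w.support := by
      intro q x
      have hc : q⁻¹ * z * q ∈ T := by simpa using (inferInstance : T.Normal).conj_mem _ z.2 q⁻¹
      have hmove : ∀ y, (ι (q⁻¹ * z * q) : Equiv.Perm (Fin 8)) y = y ↔ w ((ι q : Equiv.Perm (Fin 8)) y) = (ι q : Equiv.Perm (Fin 8)) y := by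
        intro y
        rw [← hw, map_mul, map_mul, map_inv, Subgroup.coe_mul, Subgroup.coe_mul, Subgroup.coe_inv,
          Equiv.Perm.mul_apply, Equiv.Perm.mul_apply, Equiv.Perm.inv_eq_iff_eq]
      rw [Equiv.Perm.notMem_support, Equiv.Perm.notMem_support, ← hmove x]
      rcases hzgen _ hc with h | h | h
      · exfalso
        have : (z : Q) = 1 := by
          calc (z : Q) = q * (q⁻¹ * z * q) * q⁻¹ := by group
            _ = 1 := by rw [h]; group
        rw [this, map_one, Subgroup.coe_one] at hw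
        rw [← hw, orderOf_one] at hordz
        norm_num at hordz
      · rw [h, hw]
      · rw [h, map_inv, Subgroup.coe_inv, hw, Equiv.Perm.inv_eq_iff_eq]
        exact eq_comm
    let f0 : Q →* Equiv.Perm B :=
      { toFun := fun q => (ι q : Equiv.Perm (Fin 8)).subtypePerm (hinv q)
        map_one' := Equiv.ext fun x => Subtype.ext (by simp)
        map_mul' := fun a b => Equiv.ext fun x => Subtype.ext (by simp) }
    have hB : Fintype.card B = 5 := by
      rw [Fintype.card_subtype_compl, Fintype.card_fin, Fintype.card_coe, hsupp]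
    let f : Q →* Equiv.Perm (Fin 5) := (Fintype.equivFinOfCardEq hB).permCongrHom.toMonoidHom.comp f0
    have hker : f.ker = T := by
      have hk : ∀ q, f q = 1 ↔ f0 q = 1 := fun q =>
        map_eq_one_iff _ (Fintype.equivFinOfCardEq hB).permCongrHom.injective
      have hTle : T ≤ f.ker := by
        intro t ht
        rw [MonoidHom.mem_ker, hk]
        refine Equiv.ext fun x => Subtype.ext ?_
        have hx : w x.1 = x.1 := Equiv.Perm.notMem_support.mp x.2
        show (ι t : Equiv.Perm (Fin 8)) x.1 = x.1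
        rcases hzgen t ht with rfl | rfl | rfl
        · simp
        · rw [hw, hx]
        · rw [map_inv, Subgroup.coe_inv, hw, Equiv.Perm.inv_eq_iff_eq, hx]
      symm
      refine Subgroup.eq_of_le_of_card_ge hTle ?_
      rw [h3]
      let g : f.ker → alternatingGroup {x : Fin 8 // x ∈ w.support} := fun k =>
        ⟨(ι k.1 : Equiv.Perm (Fin 8)).subtypePerm (fun x => not_iff_not.mp (hinv k.1 x)), by
          rw [Equiv.Perm.mem_alternatingGroup]
          refine (?_ : _ = _).trans (ι k.1).2
          convert Equiv.Perm.sign_subtypePerm (ι k.1 : Equiv.Perm (Fin 8)) (p := fun x => x ∈ w.support)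
            (fun x => not_iff_not.mp (hinv k.1 x)) (fun x hx => by
              by_contra hns'
              exact hx (congrArg Subtype.val (Equiv.congr_fun ((hk _).mp k.2) ⟨x, hns'⟩)))⟩
      have hg : Function.Injective g := by
        intro a b hab
        refine Subtype.ext (hι (Subtype.ext (Equiv.ext fun x => ?_)))
        by_cases hx : x ∈ w.support
        · exact congrArg Subtype.val (Equiv.congr_fun (congrArg Subtype.val hab) ⟨x, hx⟩)
        · rw [show (ι a.1 : Equiv.Perm (Fin 8)) x = x from congrArg Subtype.val (Equiv.congr_fun ((hk _).mp a.2) ⟨x, hx⟩),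
            show (ι b.1 : Equiv.Perm (Fin 8)) x = x from congrArg Subtype.val (Equiv.congr_fun ((hk _).mp b.2) ⟨x, hx⟩)]
      refine (Nat.card_le_card_of_injective g hg).trans ?_
      haveI : Nontrivial {x : Fin 8 // x ∈ w.support} := Fintype.one_lt_card_iff_nontrivial.mp (by
        rw [Fintype.card_coe, hsupp]; norm_num)
      rw [nat_card_alternatingGroup, Nat.card_eq_fintype_card, Fintype.card_coe, hsupp]
      decide
    subst hker
    refine nonsolvable_five (QuotientGroup.kerLift f) (QuotientGroup.kerLift_injective f) fun h => hns ?_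
    haveI := h
    haveI : Group.IsSolvable f.ker := by
      haveI : Fact (Nat.Prime 3) := ⟨Nat.prime_three⟩
      haveI := (IsPGroup.of_card (p := 3) (n := 1) (by rw [h3, pow_one]) : IsPGroup 3 f.ker).isNilpotent
      infer_instance
    exact solvable_extension f.ker
  · -- two 3-cycles: the centraliser is too small
    exfalso
    apply hns
    let φ : Q →* MulAut T := MulAut.conjNormal
    have hC : Nat.card φ.ker ∣ 2 ^ 2 * 3 ^ 2 := by
      let j : φ.ker →* Subgroup.centralizer ({w} : Set (Equiv.Perm (Fin 8))) :=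
        (((alternatingGroup (Fin 8)).subtype.comp ι).comp φ.ker.subtype).codRestrict _ (fun k => by
          rw [Subgroup.mem_centralizer_iff]
          intro y hy
          rw [Set.mem_singleton_iff.mp hy]
          have := congrArg Subtype.val (DFunLike.congr_fun (k.2 : φ k.1 = 1) z)
          simp only [φ, MulAut.conjNormal_apply, MulAut.one_apply] at this
          have h2 : (k.1 : Q) * z = z * k.1 := mul_inv_eq_iff_eq_mul.mp this
          show w * ((alternatingGroup (Fin 8)).subtype (ι k.1)) = _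
          rw [← hw, Subgroup.coe_subtype]
          show ((ι z : A) : Equiv.Perm (Fin 8)) * _ = _
          rw [← Subgroup.coe_mul, ← map_mul, ← h2, map_mul]
          rfl)
      have hj : Function.Injective j := fun a b h =>
        Subtype.ext (hι (Subtype.ext (congrArg (fun x : Subgroup.centralizer ({w} : Set (Equiv.Perm (Fin 8))) => x.1) h)))
      refine (Subgroup.card_dvd_of_injective j hj).trans (dvd_of_eq ?_)
      rw [Equiv.Perm.nat_card_centralizer, hn]
      decide
    haveI := solvable_of_dvd (G := φ.ker) 2 2 hC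
    haveI : Group.IsSolvable (Q ⧸ φ.ker) := by
      refine solvable_of_dvd 1 0 ?_
      rw [Nat.card_congr (QuotientGroup.quotientKerEquivRange φ).toEquiv]
      have hle : Nat.card φ.range ≤ 2 := by
        let v : φ.range → ({z, z⁻¹} : Finset T) := fun a => ⟨a.1 z, by
          have hne : a.1 z ≠ 1 := fun h => by
            have := (map_eq_one_iff a.1 a.1.injective).mp h
            rw [this, orderOf_one] at hz; norm_num at hz
          rcases hzgen _ (a.1 z).2 with h | h | h
          · exact absurd (Subtype.ext h) hne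
          · simp [show a.1 z = z from Subtype.ext h]
          · simp [show a.1 z = z⁻¹ from Subtype.ext h]⟩
        have hv : Function.Injective v := fun a b h => by
          have h1 : a.1 z = b.1 z := congrArg Subtype.val h
          refine Subtype.ext (MulEquiv.ext fun t => ?_)
          rcases hzgen _ t.2 with ht | ht | ht
          · rw [show t = 1 from Subtype.ext ht, map_one, map_one]
          · rw [show t = z from Subtype.ext ht, h1]
          · rw [show t = z⁻¹ from Subtype.ext ht, map_inv, map_inv, h1]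
        refine (Nat.card_le_card_of_injective v hv).trans ?_
        rw [Nat.card_eq_fintype_card, Fintype.card_coe]
        exact Finset.card_le_two
      have := Nat.card_pos (α := φ.range)
      interval_cases (Nat.card φ.range) <;> norm_num
    exact solvable_extension φ.ker

include hι in
theorem oddCore_eq_bot (hns : ¬ Group.IsSolvable Q) (h3 : Cfsg.pCore 3 Q = ⊥) : Cfsg.pPrimeCore 2 Q = ⊥ := by
  by_contra hne
  haveI : (Cfsg.pPrimeCore 2 Q).Normal := Thompson.instPPrimeCoreNormal
  obtain ⟨M, ⟨hMn, hM0, hMO⟩, hMmin⟩ :=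
    (Set.toFinite {L : Subgroup Q | L.Normal ∧ L ≠ ⊥ ∧ L ≤ Cfsg.pPrimeCore 2 Q}).exists_minimal
      ⟨_, inferInstance, hne, le_rfl⟩
  haveI := hMn
  have hodd : (Nat.card M).Coprime 2 :=
    Nat.Coprime.coprime_dvd_left (Subgroup.card_dvd_of_le hMO) Thompson.card_pPrimeCore_coprime
  haveI : Nontrivial M := (Subgroup.nontrivial_iff_ne_bot M).mpr hM0
  obtain ⟨T, hT, m, hm, ⟨e⟩⟩ := Cfsg.Agent.PermB.exists_simple_power (K := M) fun S hS => by
    have hn : (S.map M.subtype).Normal := ⟨by
      rintro _ ⟨a, ha, rfl⟩ g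
      exact ⟨MulAut.conjNormal g a, hS _ (Set.mem_univ _) a ha, MulAut.conjNormal_apply g a⟩⟩
    by_cases h0 : S.map M.subtype = ⊥
    · exact Or.inl ((Subgroup.map_eq_bot_iff_of_injective _ M.subtype_injective).mp h0)
    · refine Or.inr (Subgroup.map_injective M.subtype_injective ?_)
      rw [← MonoidHom.range_eq_map, Subgroup.range_subtype]
      exact le_antisymm (Subgroup.map_subtype_le S)
        (hMmin ⟨hn, h0, (Subgroup.map_subtype_le S).trans hMO⟩ (Subgroup.map_subtype_le S))
  have hTc : IsMulCommutative T := by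
    by_contra hnc
    have h2T : 2 ∣ Nat.card T := by
      rcases card_mem ((ι.comp M.subtype).comp T.subtype) ((hι.comp M.subtype_injective).comp T.subtype_injective) hnc
        with h | h | h | h | h <;> rw [h] <;> norm_num
    exact absurd (Nat.eq_one_of_dvd_coprimes hodd (h2T.trans (Subgroup.card_subgroup_dvd_card T)) dvd_rfl) (by norm_num)
  have hMc : ∀ a b : M, a * b = b * a := fun a b => e.injective (by
    rw [map_mul, map_mul]; exact funext fun i => hTc.is_comm.comm _ _)
  obtain ⟨p, hp, hpd⟩ := Nat.exists_prime_and_dvd (Finite.one_lt_card (α := M)).ne'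
  haveI : Fact p.Prime := ⟨hp⟩
  let S : Subgroup Q :=
    { carrier := {x | x ∈ M ∧ x ^ p = 1}
      one_mem' := ⟨one_mem M, one_pow p⟩
      mul_mem' := fun {a b} ha hb => ⟨mul_mem ha.1 hb.1, by
        have hab : Commute a b := congrArg Subtype.val (hMc ⟨a, ha.1⟩ ⟨b, hb.1⟩)
        rw [hab.mul_pow, ha.2, hb.2, one_mul]⟩
      inv_mem' := fun {a} ha => ⟨inv_mem ha.1, by rw [inv_pow, ha.2, inv_one]⟩ }
  have hSn : S.Normal := ⟨fun a ha g => ⟨Subgroup.Normal.conj_mem inferInstance a ha.1 g, by
    rw [conj_pow, ha.2, mul_one, mul_inv_cancel]⟩⟩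
  have hSp : IsPGroup p S := fun a => ⟨1, by
    rw [pow_one]; exact Subtype.ext (by rw [SubmonoidClass.coe_pow]; exact a.2.2)⟩
  obtain ⟨x, hx⟩ := exists_prime_orderOf_dvd_card' (G := M) p hpd
  have hxS : (x : Q) ∈ S := ⟨x.2, by rw [← Subgroup.coe_pow, ← hx, pow_orderOf_eq_one, Subgroup.coe_one]⟩
  have hx1 : (x : Q) ≠ 1 := fun h => hp.ne_one (by rw [← hx, show x = 1 from Subtype.ext h, orderOf_one])
  suffices hbot : Cfsg.pCore p Q = ⊥ from hx1 (Subgroup.mem_bot.mp (hbot ▸ Thompson.le_pCore hSn hSp hxS))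
  have hpA : p ∣ 20160 := hpd.trans ((Subgroup.card_subgroup_dvd_card M).trans (dvd_card ι hι))
  have hp2 : p ≠ 2 := fun h => absurd (Nat.eq_one_of_dvd_coprimes hodd (h ▸ hpd) dvd_rfl) (by norm_num)
  have hp7 : p = 3 ∨ p = 5 ∨ p = 7 := by
    have hh : p ∣ 2 ^ 6 * (3 ^ 2 * (5 * 7)) := by norm_num; exact hpA
    rcases hp.dvd_mul.mp hh with h | h
    · exact absurd ((Nat.prime_dvd_prime_iff_eq hp Nat.prime_two).mp (hp.dvd_of_dvd_pow h)) hp2
    rcases hp.dvd_mul.mp h with h | h
    · exact Or.inl ((Nat.prime_dvd_prime_iff_eq hp Nat.prime_three).mp (hp.dvd_of_dvd_pow h))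
    rcases hp.dvd_mul.mp h with h | h
    · exact Or.inr (Or.inl ((Nat.prime_dvd_prime_iff_eq hp (by norm_num)).mp h))
    · exact Or.inr (Or.inr ((Nat.prime_dvd_prime_iff_eq hp (by norm_num)).mp h))
  rcases hp7 with rfl | rfl | rfl
  · exact h3
  · exact pCore_big_prime ι hι hns 5 60 (by norm_num) card_normalizer_five fun n hn => by
      have : 5 * n ∣ 5 * (2 ^ 2 * 3) := by norm_num; exact hn
      exact Nat.dvd_of_mul_dvd_mul_left (by norm_num) this
  · exact pCore_big_prime ι hι hns 7 21 (by norm_num) card_normalizer_seven fun n hn => by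
      have : 7 * n ∣ 7 * 3 := by norm_num; exact hn
      exact (Nat.dvd_of_mul_dvd_mul_left (by norm_num) this).trans (by norm_num)

include hι in
theorem classify (hns : ¬ Group.IsSolvable Q) (h2 : Cfsg.pCore 2 Q = ⊥) :
    (∃ n : ℕ, 5 ≤ n ∧ n ≤ 8 ∧ Nonempty (Q ≃* ↥(alternatingGroup (Fin n)))) ∨
    Nonempty (Q ≃* Equiv.Perm (Fin 5)) ∨ Nonempty (Q ≃* Equiv.Perm (Fin 6)) ∨
    Nonempty (Q ≃* GL (Fin 3) (ZMod 2)) ∨
    (Nat.card ↥(Cfsg.pCore 3 Q) = 3 ∧ (Nonempty (Q ⧸ Cfsg.pCore 3 Q ≃* ↥(alternatingGroup (Fin 5))) ∨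
      Nonempty (Q ⧸ Cfsg.pCore 3 Q ≃* Equiv.Perm (Fin 5)))) := by
  rcases pCore_three_le ι hι hns with h | h
  · have h3 := Subgroup.eq_bot_of_card_eq _ h
    have hO := oddCore_eq_bot ι hι hns h3
    let H := ι.range
    let e : Q ≃* H := MonoidHom.ofInjective hι
    haveI : Nontrivial H := by
      by_contra hc
      haveI : Subsingleton H := not_nontrivial_iff_subsingleton.mp hc
      haveI : Subsingleton Q := e.toEquiv.subsingleton
      exact hns inferInstance
    have hcomap : ∀ (M : Subgroup H), Nat.card (M.comap e.toMonoidHom) = Nat.card M := fun M => by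
      exact Nat.card_congr (e.toEquiv.subtypeEquiv fun _ => Iff.rfl)
    have hOH : Cfsg.pPrimeCore 2 H = ⊥ := by
      haveI : (Cfsg.pPrimeCore 2 ↥H).Normal := Thompson.instPPrimeCoreNormal
      have hle := Thompson.le_pPrimeCore (G := Q) (p := 2)
        (inferInstance : ((Cfsg.pPrimeCore 2 ↥H).comap e.toMonoidHom).Normal)
        (by rw [hcomap]; exact Thompson.card_pPrimeCore_coprime)
      rw [hO, le_bot_iff] at hle
      exact Subgroup.comap_injective e.surjective (hle.trans (e.toMonoidHom.comap_bot.trans (e.toMonoidHom.ker_eq_bot_iff.mpr e.injective)).symm)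
    have h2H : Cfsg.pCore 2 H = ⊥ := by
      haveI : (Cfsg.pCore 2 ↥H).Normal := Thompson.instPCoreNormal
      have hle := Thompson.le_pCore (G := Q) (p := 2)
        (inferInstance : ((Cfsg.pCore 2 ↥H).comap e.toMonoidHom).Normal)
        (Thompson.isPGroup_pCore.comap_of_injective _ e.injective)
      rw [h2, le_bot_iff] at hle
      exact Subgroup.comap_injective e.surjective (hle.trans (e.toMonoidHom.comap_bot.trans (e.toMonoidHom.ker_eq_bot_iff.mpr e.injective)).symm)
    rcases S2553.main hOH h2H H.subtype H.subtype_injective with ⟨n, h5, h8, ⟨a⟩⟩ | ⟨⟨a⟩⟩ | ⟨⟨a⟩⟩ | ⟨⟨a⟩⟩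
    · exact Or.inl ⟨n, h5, h8, ⟨e.trans a⟩⟩
    · exact Or.inr (Or.inl ⟨e.trans a⟩)
    · exact Or.inr (Or.inr (Or.inl ⟨e.trans a⟩))
    · exact Or.inr (Or.inr (Or.inr (Or.inl ⟨e.trans a⟩)))
  · exact Or.inr (Or.inr (Or.inr (Or.inr ⟨h, three_core ι hι hns _ h⟩)))

end Cfsg.Agent.InvChar.EightRadical
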