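import Cfsg.Agent.Lib.SuzukiTwo.Algebra

/-!
Biadditive maps of a field with `2^n` elements to itself that commute with all scalars.
-/

set_option autoImplicit false

namespace Cfsg.Agent.InvChar

variable {F : Type*} [Field F]

/-- Equivariance for a generator of the multiplicative group gives equivariance for all scalars. -/
theorem map_mul_of_generator {f : F → F} {θ : F} (hgen : ∀ u : F, u ≠ 0 → ∃ k : ℕ, θ ^ k = u)
    (hθ : ∀ a, f (θ * a) = θ * f a) (u a : F) (hu : u ≠ 0) : f (u * a) = u * f a := by
  obtain ⟨k, rfl⟩ := hgen u hu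
  clear hu
  induction k generalizing a with
  | zero => simp
  | succ k ih => rw [pow_succ, mul_assoc, ih, hθ, mul_assoc]

theorem linear_of_generator {f : F → F} {θ : F} (hgen : ∀ u : F, u ≠ 0 → ∃ k : ℕ, θ ^ k = u)
    (hadd : ∀ a b, f (a + b) = f a + f b) (hθ : ∀ a, f (θ * a) = θ * f a) (a : F) :
    f a = a * f 1 := by
  rcases eq_or_ne a 0 with rfl | ha
  · have := hadd 0 0
    rw [add_zero, left_eq_add] at this
    rw [this, zero_mul]
  · simpa using map_mul_of_generator hgen hθ a 1 ha

theorem pairing_scalar_of_generator {β : F → F → F} {θ : F}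
    (hgen : ∀ u : F, u ≠ 0 → ∃ k : ℕ, θ ^ k = u)
    (hθ : ∀ a b, β (θ * a) (θ * b) = θ * β a b) (u a b : F) (hu : u ≠ 0) :
    β (u * a) (u * b) = u * β a b := by
  obtain ⟨k, rfl⟩ := hgen u hu
  clear hu
  induction k generalizing a b with
  | zero => simp
  | succ k ih => rw [pow_succ, mul_assoc, mul_assoc, ih, hθ, mul_assoc]

variable [Fintype F] [CharP F 2]

/-- An alternating equivariant biadditive map vanishes. -/
theorem pairing_zero_of_generator (β : F → F → F) {θ : F}
    (hgen : ∀ u : F, u ≠ 0 → ∃ k : ℕ, θ ^ k = u)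
    (hl : ∀ a b c, β (a + b) c = β a c + β b c) (hr : ∀ a b c, β a (b + c) = β a b + β a c)
    (hθ : ∀ a b, β (θ * a) (θ * b) = θ * β a b) (halt : ∀ a, β a a = 0) (a b : F) : β a b = 0 :=
  SuzukiTwo.pairing_zero β hl hr (pairing_scalar_of_generator hgen hθ) halt a b

/-- An equivariant biadditive map is a multiple of the square root of the product. -/
theorem pairing_eq_of_generator (β : F → F → F) {θ : F}
    (hgen : ∀ u : F, u ≠ 0 → ∃ k : ℕ, θ ^ k = u)
    (hl : ∀ a b c, β (a + b) c = β a c + β b c) (hr : ∀ a b c, β a (b + c) = β a b + β a c)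
    (hθ : ∀ a b, β (θ * a) (θ * b) = θ * β a b) (a b : F) :
    β (a * a) (b * b) = β 1 1 * (a * b) := by
  let r : F → F := fun x => Classical.choose (SuzukiTwo.exists_sq x)
  have hr' : ∀ x, r x * r x = x := fun x => Classical.choose_spec (SuzukiTwo.exists_sq x)
  have huniq : ∀ {x y : F}, x * x = y * y → x = y := fun {x y} h => by
    rcases mul_self_eq_mul_self_iff.1 h with h | h
    · exact h
    · rwa [CharTwo.neg_eq] at h
  have hradd : ∀ x y, r (x + y) = r x + r y := fun x y => huniq (by
    rw [hr']; linear_combination -(hr' x) - hr' y -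
      CharTwo.add_self_eq_zero (R := F) (r x * r y))
  have hrmul : ∀ x y, r (x * y) = r x * r y := fun x y => huniq (by
    rw [hr', mul_mul_mul_comm, hr', hr'])
  have hsc := pairing_scalar_of_generator hgen hθ
  set k := β 1 1 with hk
  have key := SuzukiTwo.pairing_zero (fun x y => β x y + k * r (x * y))
    (fun x y z => by
      show β (x + y) z + k * r ((x + y) * z) = _
      rw [hl, add_mul, hradd]; ring)
    (fun x y z => by
      show β x (y + z) + k * r (x * (y + z)) = _
      rw [hr, mul_add, hradd]; ring)
    (fun u x y hu => by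
      show β (u * x) (u * y) + k * r (u * x * (u * y)) = u * (β x y + k * r (x * y))
      have e : r (u * x * (u * y)) = u * r (x * y) := by
        rw [show u * x * (u * y) = u * u * (x * y) by ring, hrmul,
          huniq (x := r (u * u)) (y := u) (hr' _)]
      rw [hsc u x y hu, e]; ring)
    (fun x => by
      show β x x + k * r (x * x) = 0
      rw [huniq (x := r (x * x)) (y := x) (hr' _)]
      rcases eq_or_ne x 0 with rfl | hx
      · have := hl 0 0 0
        rw [add_zero, left_eq_add] at this
        rw [this, mul_zero, add_zero]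
      · have := hsc x 1 1 hx
        rw [mul_one] at this
        rw [this, ← hk, mul_comm, CharTwo.add_self_eq_zero]) (a * a) (b * b)
  rw [CharTwo.add_eq_zero.1 key, show a * a * (b * b) = (a * b) * (a * b) by ring,
    huniq (x := r (a * b * (a * b))) (y := a * b) (hr' _)]

end Cfsg.Agent.InvChar
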