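import Mathlib

/-!
An abelian group with an automorphism whose powers are transitive on the non-identity elements is
the additive group of a field, the automorphism being multiplication by a scalar.
-/

set_option autoImplicit false

namespace Cfsg.Agent.InvChar

/-- The field of the endomorphisms commuting with a transitive automorphism. -/
theorem exists_field_of_transitive {M : Type*} [AddCommGroup M] [Finite M] (r : AddMonoid.End M)
    (hr : Function.Injective r) (hM : ∃ x : M, x ≠ 0)
    (htr : ∀ x y : M, x ≠ 0 → y ≠ 0 → ∃ k : ℕ, (r ^ k) x = y) {n : ℕ} (hn : n ≠ 0)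
    (hcard : Nat.card M = 2 ^ n) :
    ∃ (θ : GaloisField 2 n) (e : GaloisField 2 n ≃+ M),
      (∀ a, r (e a) = e (θ * a)) ∧ (∀ u, u ≠ 0 → ∃ k : ℕ, θ ^ k = u) := by
  classical
  obtain ⟨c₀, hc₀⟩ := hM
  let R := Subring.centralizer ({r} : Set (AddMonoid.End M))
  have hmem : ∀ {f : AddMonoid.End M}, f ∈ R → ∀ k x, f ((r ^ k) x) = (r ^ k) (f x) := by
    intro f hf k x
    have h : Commute f (r ^ k) := by
      refine Commute.pow_right ?_ k
      exact ((Subring.mem_centralizer_iff.1 hf) r rfl).symm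
    exact DFunLike.congr_fun h.eq x
  have hext : ∀ {f g : R}, f.1 c₀ = g.1 c₀ → f = g := by
    intro f g h
    refine Subtype.ext (AddMonoidHom.ext fun x => ?_)
    rcases eq_or_ne x 0 with rfl | hx
    · exact (map_zero f.1).trans (map_zero g.1).symm
    · obtain ⟨k, rfl⟩ := htr c₀ x hc₀ hx
      exact ((hmem f.2 k c₀).trans (congrArg _ h)).trans (hmem g.2 k c₀).symm
  let rR : R := ⟨r, Subring.mem_centralizer_iff.2 fun g hg => by
    rw [Set.mem_singleton_iff.1 hg]⟩
  have hpow : ∀ f : R, f.1 c₀ ≠ 0 → ∃ k : ℕ, f = rR ^ k := by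
    intro f hf
    obtain ⟨k, hk⟩ := htr c₀ (f.1 c₀) hc₀ hf
    exact ⟨k, hext (by rw [SubmonoidClass.coe_pow]; exact hk.symm)⟩
  have hzero : ∀ f : R, f.1 c₀ = 0 → f = 0 := fun f hf => hext (by rw [hf]; rfl)
  have hcases : ∀ f : R, f = 0 ∨ ∃ k : ℕ, f = rR ^ k := fun f => by
    rcases eq_or_ne (f.1 c₀) 0 with h | h
    · exact Or.inl (hzero f h)
    · exact Or.inr (hpow f h)
  have hinj : ∀ k, Function.Injective (r ^ k : AddMonoid.End M) := fun k => by
    induction k with
    | zero => exact fun x y h => h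
    | succ k ih => exact fun x y h => hr (ih (by rw [pow_succ] at h; exact h))
  have hbij : Function.Bijective (fun f : R => f.1 c₀) := by
    refine ⟨fun f g h => hext h, fun x => ?_⟩
    rcases eq_or_ne x 0 with rfl | hx
    · exact ⟨0, rfl⟩
    · obtain ⟨k, hk⟩ := htr c₀ x hc₀ hx
      exact ⟨rR ^ k, by show ((rR ^ k : R) : AddMonoid.End M) c₀ = x; rw [SubmonoidClass.coe_pow]; exact hk⟩
  let E : R ≃+ M := AddEquiv.ofBijective
    (AddMonoidHom.mk' (fun f : R => f.1 c₀) fun f g => rfl) hbij
  let hR : CommRing R :=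
    { (inferInstance : Ring R) with
      mul_comm := fun f g => by
        rcases hcases f with rfl | ⟨k, rfl⟩
        · rw [zero_mul, mul_zero]
        rcases hcases g with rfl | ⟨l, rfl⟩
        · rw [zero_mul, mul_zero]
        rw [← pow_add, ← pow_add, add_comm] }
  haveI : Finite R := Finite.of_equiv M E.toEquiv.symm
  haveI : Nontrivial R := ⟨⟨0, rR ^ 0, fun h => hc₀ (by
    have := congrArg (fun f : R => f.1 c₀) h
    rw [pow_zero] at this
    exact this.symm)⟩⟩
  haveI : NoZeroDivisors R := ⟨fun {f g} h => by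
    rcases hcases f with rfl | ⟨k, rfl⟩
    · exact Or.inl rfl
    refine Or.inr (hzero g (hinj k ?_))
    have h' := congrArg (fun f : R => f.1 c₀) h
    rw [map_zero]
    rw [← SubmonoidClass.coe_pow rR k] at *
    exact h'⟩
  haveI : IsDomain R := NoZeroDivisors.to_isDomain R
  letI : Field R := (Finite.isField_of_domain R).toField
  haveI : Fintype R := Fintype.ofFinite R
  haveI : Fintype (GaloisField 2 n) := Fintype.ofFinite _
  have hcR : Fintype.card (GaloisField 2 n) = Fintype.card R := by
    rw [← Nat.card_eq_fintype_card, ← Nat.card_eq_fintype_card, GaloisField.card 2 n hn,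
      Nat.card_congr E.toEquiv, hcard]
  let φ : GaloisField 2 n ≃+* R := FiniteField.ringEquivOfCardEq hcR
  refine ⟨φ.symm rR, φ.toAddEquiv.trans E, fun a => ?_, fun u hu => ?_⟩
  · show r ((φ a).1 c₀) = (φ (φ.symm rR * a)).1 c₀
    rw [map_mul, RingEquiv.apply_symm_apply]
    rfl
  · rcases hcases (φ u) with h | ⟨k, hk⟩
    · exact absurd ((map_eq_zero_iff φ φ.injective).1 h) hu
    · exact ⟨k, φ.injective (by rw [map_pow, RingEquiv.apply_symm_apply, ← hk])⟩

end Cfsg.Agent.InvChar
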