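import Cfsg.Agent.InvChar.EquivariantPairing
import Cfsg.Agent.InvChar.TransitiveField

/-!
2-groups with an involutory automorphism whose fixed points are elementary abelian and are
permuted transitively by a commuting automorphism.
-/

set_option autoImplicit false

namespace Cfsg.Agent.InvChar

open scoped commutatorElement

universe u

/-- The hypotheses. -/
structure FixedDatum (Q : Type u) [Group Q] (n : ℕ) where
  α : MulAut Q
  ρ : MulAut Q
  C : Subgroup Q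
  αα : ∀ x, α (α x) = x
  comm : ∀ x, α (ρ x) = ρ (α x)
  memC : ∀ x, x ∈ C ↔ α x = x
  sqC : ∀ x ∈ C, x * x = 1
  cardC : Nat.card C = 2 ^ n
  trans : ∀ x y, x ∈ C → y ∈ C → x ≠ 1 → y ≠ 1 → ∃ k : ℕ, (ρ ^ k) x = y
  period : ρ ^ (2 ^ n - 1) = 1

namespace FixedDatum

variable {Q : Type u} [Group Q] {n : ℕ} (D : FixedDatum Q n)

theorem rho_pow_mem {H : Subgroup Q} (hH : ∀ x ∈ H, D.ρ x ∈ H) :
    ∀ (k : ℕ) {x : Q}, x ∈ H → (D.ρ ^ k) x ∈ H := by
  intro k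
  induction k with
  | zero => exact fun {x} hx => hx
  | succ k ih => exact fun {x} hx => by rw [pow_succ, MulAut.mul_apply]; exact ih (hH x hx)

theorem rho_C {x : Q} (hx : x ∈ D.C) : D.ρ x ∈ D.C :=
  (D.memC _).2 (by rw [D.comm, (D.memC x).1 hx])

theorem alpha_C {x : Q} (hx : x ∈ D.C) : D.α x = x := (D.memC x).1 hx

theorem C_comm {x y : Q} (hx : x ∈ D.C) (hy : y ∈ D.C) : x * y = y * x := by
  have h1 : ∀ {z : Q}, z ∈ D.C → z⁻¹ = z := fun hz => inv_eq_of_mul_eq_one_left (D.sqC _ hz)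
  rw [← h1 (mul_mem hx hy), mul_inv_rev, h1 hx, h1 hy]

variable [Finite Q]

theorem exists_fixed {X : Type*} [Group X] [Finite X] (hX : IsPGroup 2 X) (hne : Nontrivial X)
    (a : X ≃* X) (ha : ∀ x, a (a x) = x) : ∃ x, x ≠ 1 ∧ a x = x := by
  classical
  haveI := Fintype.ofFinite X
  haveI : Fact (Nat.Prime 2) := ⟨Nat.prime_two⟩
  let σ : Equiv.Perm X := a.toEquiv
  have hσ : σ ^ 2 ^ 1 = 1 := Equiv.ext fun x => by
    rw [pow_one, pow_two, Equiv.Perm.mul_apply]; exact ha x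
  have h := Equiv.Perm.card_compl_support_modEq hσ
  obtain ⟨k, hk⟩ := IsPGroup.iff_card.1 hX
  have hk0 : k ≠ 0 := fun e => by
    rw [e, pow_zero] at hk
    exact absurd hk (ne_of_gt Finite.one_lt_card)
  have hev : Fintype.card X % 2 = 0 := by
    rw [← Nat.card_eq_fintype_card, hk]
    have := dvd_pow_self 2 hk0
    omega
  have h1 : (1 : X) ∈ σ.supportᶜ := by simp [σ]
  have h2 : 1 < σ.supportᶜ.card := by
    have hpos : 0 < σ.supportᶜ.card := Finset.card_pos.2 ⟨1, h1⟩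
    rw [Nat.ModEq, hev] at h
    omega
  obtain ⟨x, hx, hx1⟩ := Finset.exists_mem_ne h2 1
  exact ⟨x, hx1, by simpa [σ] using hx⟩

theorem C_le (h2 : IsPGroup 2 Q) {H : Subgroup Q} (hα : ∀ x ∈ H, D.α x ∈ H)
    (hρ : ∀ x ∈ H, D.ρ x ∈ H) (hne : H ≠ ⊥) : D.C ≤ H := by
  let a : H ≃* H :=
    { toFun := fun x => ⟨D.α x, hα _ x.2⟩
      invFun := fun x => ⟨D.α x, hα _ x.2⟩
      left_inv := fun x => Subtype.ext (D.αα _)
      right_inv := fun x => Subtype.ext (D.αα _)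
      map_mul' := fun x y => Subtype.ext (map_mul D.α _ _) }
  obtain ⟨x, hx1, hx⟩ := exists_fixed (h2.to_subgroup H) ((Subgroup.nontrivial_iff_ne_bot H).2 hne) a
    fun x => Subtype.ext (D.αα _)
  have hxC : (x : Q) ∈ D.C := (D.memC _).2 (congrArg Subtype.val hx)
  intro y hy
  rcases eq_or_ne y 1 with rfl | hy1
  · exact one_mem _
  obtain ⟨k, rfl⟩ := D.trans x y hxC hy (fun e => hx1 (Subtype.ext e)) hy1
  exact D.rho_pow_mem hρ k x.2

theorem C_central (h2 : IsPGroup 2 Q) {x : Q} (hx : x ∈ D.C) (y : Q) : y * x = x * y := by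
  rcases subsingleton_or_nontrivial Q with h | h
  · exact Subsingleton.elim _ _
  haveI : Fact (Nat.Prime 2) := ⟨Nat.prime_two⟩
  have hne : Subgroup.center Q ≠ ⊥ := (Subgroup.nontrivial_iff_ne_bot _).1 h2.center_nontrivial
  have hchar : ∀ f : MulAut Q, ∀ z ∈ Subgroup.center Q, f z ∈ Subgroup.center Q := fun f z hz =>
    Subgroup.mem_center_iff.2 fun g => by
      obtain ⟨g, rfl⟩ := f.surjective g
      rw [← map_mul, Subgroup.mem_center_iff.1 hz g, map_mul]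
  exact Subgroup.mem_center_iff.1 (D.C_le h2 (hchar _) (hchar _) hne hx) y

/-- The derivative `x⁻¹ α(x)`. -/
def d (x : Q) : Q := x⁻¹ * D.α x

omit [Finite Q] in
theorem d_mul (x y : Q) : D.d (x * y) = y⁻¹ * D.d x * y * D.d y := by
  simp only [d, map_mul]; group

omit [Finite Q] in
theorem alpha_eq (x : Q) : D.α x = x * D.d x := by simp only [d]; group

omit [Finite Q] in
theorem d_rho (x : Q) : D.d (D.ρ x) = D.ρ (D.d x) := by simp only [d, D.comm, map_mul, map_inv]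

omit [Finite Q] in
theorem d_eq_one {x : Q} : D.d x = 1 ↔ x ∈ D.C := by
  rw [D.memC, d, inv_mul_eq_one, eq_comm]

/-- The preimage of the fixed points on `Q / C`. -/
def W (h2 : IsPGroup 2 Q) : Subgroup Q where
  carrier := {x | D.d x ∈ D.C}
  one_mem' := by simp [d]
  mul_mem' {x y} hx hy := by
    show D.d (x * y) ∈ D.C
    rw [d_mul, mul_assoc y⁻¹, ← D.C_central h2 hx y, inv_mul_cancel_left]
    exact mul_mem hx hy
  inv_mem' {x} hx := by
    show D.d x⁻¹ ∈ D.C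
    have h := D.d_mul x x⁻¹
    rw [mul_inv_cancel, inv_inv, show D.d 1 = 1 by simp [d], D.C_central h2 hx x,
      mul_inv_cancel_right] at h
    rw [← inv_eq_of_mul_eq_one_right h.symm]
    exact inv_mem hx

theorem C_le_W (h2 : IsPGroup 2 Q) : D.C ≤ D.W h2 := fun x hx => by
  show D.d x ∈ D.C
  rw [D.d_eq_one.2 hx]; exact one_mem _

theorem mem_W {h2 : IsPGroup 2 Q} {x : Q} : x ∈ D.W h2 ↔ D.d x ∈ D.C := Iff.rfl

theorem W_rho (h2 : IsPGroup 2 Q) {x : Q} (hx : x ∈ D.W h2) : D.ρ x ∈ D.W h2 := by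
  show D.d (D.ρ x) ∈ D.C
  rw [d_rho]; exact D.rho_C hx

theorem d_W_mul (h2 : IsPGroup 2 Q) {x y : Q} (hx : x ∈ D.W h2) :
    D.d (x * y) = D.d x * D.d y := by
  rw [d_mul, mul_assoc y⁻¹, ← D.C_central h2 (D.mem_W.1 hx) y, inv_mul_cancel_left]

end FixedDatum

/-- A field structure on the fixed points. -/
structure FixedModel {Q : Type u} [Group Q] {n : ℕ} (D : FixedDatum Q n) (F : Type*) [Field F] where
  θ : F
  emb : F → Q
  emb_add : ∀ a b, emb (a + b) = emb a * emb b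
  emb_inj : Function.Injective emb
  emb_range : ∀ x, x ∈ D.C ↔ ∃ a, emb a = x
  emb_rho : ∀ a, D.ρ (emb a) = emb (θ * a)
  gen : ∀ u : F, u ≠ 0 → ∃ k : ℕ, θ ^ k = u

theorem FixedDatum.exists_model {Q : Type u} [Group Q] [Finite Q] {n : ℕ} (D : FixedDatum Q n)
    (hn : n ≠ 0) : Nonempty (FixedModel D (GaloisField 2 n)) := by
  classical
  letI : CommGroup D.C :=
    { (inferInstance : Group D.C) with mul_comm := fun a b => Subtype.ext (D.C_comm a.2 b.2) }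
  let r : AddMonoid.End (Additive D.C) := AddMonoidHom.mk'
    (fun x => Additive.ofMul ⟨D.ρ (Additive.toMul x).1, D.rho_C (Additive.toMul x).2⟩)
    (fun a b => Additive.toMul.injective (Subtype.ext (map_mul D.ρ _ _)))
  have hr : ∀ (k : ℕ) (x : Additive D.C),
      (Additive.toMul ((r ^ k) x)).1 = (D.ρ ^ k) (Additive.toMul x).1 := by
    intro k
    induction k with
    | zero => exact fun x => rfl
    | succ k ih =>
      intro x
      rw [pow_succ, pow_succ, MulAut.mul_apply]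
      exact ih (r x)
  obtain ⟨θ, e, he, hgen⟩ := exists_field_of_transitive r
    (fun x y h => Additive.toMul.injective (Subtype.ext (D.ρ.injective
      (congrArg (fun z => (Additive.toMul z).1) h))))
    (by
      haveI : Nontrivial D.C := Finite.one_lt_card_iff_nontrivial.1
        (by rw [D.cardC]; exact Nat.one_lt_two_pow hn)
      obtain ⟨c, hc⟩ := exists_ne (1 : D.C)
      exact ⟨Additive.ofMul c, hc⟩)
    (fun x y hx hy => by
      obtain ⟨k, hk⟩ := D.trans (Additive.toMul x).1 (Additive.toMul y).1 (Additive.toMul x).2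
        (Additive.toMul y).2 (fun e => hx (Additive.toMul.injective (Subtype.ext e)))
        (fun e => hy (Additive.toMul.injective (Subtype.ext e)))
      exact ⟨k, Additive.toMul.injective (Subtype.ext ((hr k x).trans hk))⟩)
    hn (show Nat.card (Additive D.C) = 2 ^ n from D.cardC)
  exact ⟨{
    θ := θ
    emb := fun a => (Additive.toMul (e a)).1
    emb_add := fun a b => by rw [map_add]; rfl
    emb_inj := fun a b h => e.injective (Additive.toMul.injective (Subtype.ext h))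
    emb_range := fun x => ⟨fun hx => ⟨e.symm (Additive.ofMul ⟨x, hx⟩), by
      rw [AddEquiv.apply_symm_apply]; rfl⟩, fun ⟨a, ha⟩ => ha ▸ (Additive.toMul (e a)).2⟩
    emb_rho := fun a => congrArg (fun z => (Additive.toMul z).1) (he a)
    gen := hgen }⟩

namespace FixedModel

variable {Q : Type u} [Group Q] {n : ℕ} {D : FixedDatum Q n} {F : Type*} [Field F]
  (M : FixedModel D F)

/-- The logarithm. -/
noncomputable def lg (x : Q) : F := Function.invFun M.emb x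

theorem lg_emb (a : F) : M.lg (M.emb a) = a := Function.leftInverse_invFun M.emb_inj a

theorem emb_lg {x : Q} (hx : x ∈ D.C) : M.emb (M.lg x) = x :=
  Function.invFun_eq ((M.emb_range x).1 hx)

theorem emb_zero : M.emb 0 = 1 := by
  have := M.emb_add 0 0
  rwa [add_zero, left_eq_mul] at this

theorem lg_one : M.lg 1 = 0 := by rw [← M.emb_zero, M.lg_emb]

theorem lg_mul {x y : Q} (hx : x ∈ D.C) (hy : y ∈ D.C) : M.lg (x * y) = M.lg x + M.lg y := by
  conv_lhs => rw [← M.emb_lg hx, ← M.emb_lg hy, ← M.emb_add, M.lg_emb]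

theorem lg_rho {x : Q} (hx : x ∈ D.C) : M.lg (D.ρ x) = M.θ * M.lg x := by
  conv_lhs => rw [← M.emb_lg hx, M.emb_rho, M.lg_emb]

theorem lg_eq_zero {x : Q} (hx : x ∈ D.C) : M.lg x = 0 ↔ x = 1 :=
  ⟨fun h => by rw [← M.emb_lg hx, h, M.emb_zero], fun h => by rw [h, M.lg_one]⟩

theorem lg_inv {x : Q} (hx : x ∈ D.C) : M.lg x⁻¹ = M.lg x := by
  rw [inv_eq_of_mul_eq_one_left (D.sqC x hx)]

include M in
theorem surj_of_equivariant {μ : Q → F} {V : Subgroup Q} (hV : ∀ x ∈ V, D.ρ x ∈ V)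
    (hρ : ∀ x ∈ V, μ (D.ρ x) = M.θ * μ x) (h1 : μ 1 = 0) (hex : ∃ x ∈ V, μ x ≠ 0) (a : F) :
    ∃ x ∈ V, μ x = a := by
  obtain ⟨x, hx, hne⟩ := hex
  rcases eq_or_ne a 0 with rfl | ha
  · exact ⟨1, one_mem V, h1⟩
  obtain ⟨k, hk⟩ := M.gen (a / μ x) (div_ne_zero ha hne)
  refine ⟨(D.ρ ^ k) x, D.rho_pow_mem hV k hx, ?_⟩
  have : ∀ (j : ℕ), μ ((D.ρ ^ j) x) = M.θ ^ j * μ x := by
    intro j
    induction j with
    | zero => simp
    | succ j ih =>
      rw [pow_succ' D.ρ, MulAut.mul_apply, hρ _ (D.rho_pow_mem hV j hx), ih, pow_succ', mul_assoc]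
  rw [this, hk, div_mul_cancel₀ _ hne]

include M in
/-- Commutators between two invariant subgroups give an equivariant biadditive map. -/
theorem exists_pairing [CharP F 2] (U V T : Subgroup Q) (μ ν val : Q → F)
    (hUρ : ∀ x ∈ U, D.ρ x ∈ U) (hVρ : ∀ x ∈ V, D.ρ x ∈ V)
    (hμm : ∀ x ∈ U, ∀ y ∈ U, μ (x * y) = μ x + μ y) (hμρ : ∀ x ∈ U, μ (D.ρ x) = M.θ * μ x)
    (hμs : ∀ a, ∃ x ∈ U, μ x = a)
    (hνm : ∀ x ∈ V, ∀ y ∈ V, ν (x * y) = ν x + ν y) (hνρ : ∀ x ∈ V, ν (D.ρ x) = M.θ * ν x)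
    (hνs : ∀ a, ∃ x ∈ V, ν x = a)
    (hT : ∀ x ∈ U, ∀ y ∈ V, ⁅x, y⁆ ∈ T)
    (hvm : ∀ x ∈ T, ∀ y ∈ T, val (x * y) = val x + val y)
    (hvρ : ∀ x ∈ T, val (D.ρ x) = M.θ * val x)
    (hconjU : ∀ g ∈ U, ∀ x ∈ T, g * x * g⁻¹ ∈ T ∧ val (g * x * g⁻¹) = val x)
    (hconjV : ∀ g ∈ V, ∀ x ∈ T, g * x * g⁻¹ ∈ T ∧ val (g * x * g⁻¹) = val x)
    (hkU : ∀ x ∈ U, μ x = 0 → ∀ y ∈ V, val ⁅x, y⁆ = 0)
    (hkV : ∀ y ∈ V, ν y = 0 → ∀ x ∈ U, val ⁅x, y⁆ = 0) :
    ∃ β : F → F → F, (∀ a b c, β (a + b) c = β a c + β b c) ∧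
      (∀ a b c, β a (b + c) = β a b + β a c) ∧
      (∀ a b, β (M.θ * a) (M.θ * b) = M.θ * β a b) ∧
      ∀ x ∈ U, ∀ y ∈ V, val ⁅x, y⁆ = β (μ x) (ν y) := by
  have hl : ∀ x ∈ U, ∀ x' ∈ U, ∀ y ∈ V, val ⁅x * x', y⁆ = val ⁅x, y⁆ + val ⁅x', y⁆ := by
    intro x hx x' hx' y hy
    have e : ⁅x * x', y⁆ = x * ⁅x', y⁆ * x⁻¹ * ⁅x, y⁆ := by simp only [commutatorElement_def]; group
    obtain ⟨h1, h2⟩ := hconjU x hx _ (hT x' hx' y hy)
    rw [e, hvm _ h1 _ (hT x hx y hy), h2, add_comm]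
  have hr : ∀ x ∈ U, ∀ y ∈ V, ∀ y' ∈ V, val ⁅x, y * y'⁆ = val ⁅x, y⁆ + val ⁅x, y'⁆ := by
    intro x hx y hy y' hy'
    have e : ⁅x, y * y'⁆ = ⁅x, y⁆ * (y * ⁅x, y'⁆ * y⁻¹) := by
      simp only [commutatorElement_def]; group
    obtain ⟨h1, h2⟩ := hconjV y hy _ (hT x hx y' hy')
    rw [e, hvm _ (hT x hx y hy) _ h1, h2]
  have hμ1 : μ 1 = 0 := by
    have := hμm 1 (one_mem U) 1 (one_mem U)
    rwa [mul_one, left_eq_add] at this
  have hν1 : ν 1 = 0 := by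
    have := hνm 1 (one_mem V) 1 (one_mem V)
    rwa [mul_one, left_eq_add] at this
  have wd : ∀ x ∈ U, ∀ x' ∈ U, ∀ y ∈ V, ∀ y' ∈ V, μ x = μ x' → ν y = ν y' →
      val ⁅x, y⁆ = val ⁅x', y'⁆ := by
    intro x hx x' hx' y hy y' hy' h h'
    have hd : μ (x'⁻¹ * x) = 0 := by
      have := hμm x' hx' (x'⁻¹ * x) (mul_mem (inv_mem hx') hx)
      rw [mul_inv_cancel_left, h, left_eq_add] at this
      exact this
    have hd' : ν (y'⁻¹ * y) = 0 := by
      have := hνm y' hy' (y'⁻¹ * y) (mul_mem (inv_mem hy') hy)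
      rw [mul_inv_cancel_left, h', left_eq_add] at this
      exact this
    have e1 := hl x' hx' _ (mul_mem (inv_mem hx') hx) y hy
    rw [mul_inv_cancel_left, hkU _ (mul_mem (inv_mem hx') hx) hd y hy, add_zero] at e1
    have e2 := hr x' hx' y' hy' _ (mul_mem (inv_mem hy') hy)
    rw [mul_inv_cancel_left, hkV _ (mul_mem (inv_mem hy') hy) hd' x' hx', add_zero] at e2
    rw [e1, e2]
  choose s hs hsμ using hμs
  choose t ht htν using hνs
  refine ⟨fun a b => val ⁅s a, t b⁆, fun a b c => ?_, fun a b c => ?_, fun a b => ?_,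
    fun x hx y hy => wd x hx _ (hs _) y hy _ (ht _) (hsμ _).symm (htν _).symm⟩
  · show val ⁅s (a + b), t c⁆ = _
    rw [← hl _ (hs a) _ (hs b) _ (ht c)]
    exact wd _ (hs _) _ (mul_mem (hs a) (hs b)) _ (ht c) _ (ht c)
      (by rw [hμm _ (hs a) _ (hs b), hsμ, hsμ, hsμ]) rfl
  · show val ⁅s a, t (b + c)⁆ = _
    rw [← hr _ (hs a) _ (ht b) _ (ht c)]
    exact wd _ (hs a) _ (hs a) _ (ht _) _ (mul_mem (ht b) (ht c)) rfl
      (by rw [hνm _ (ht b) _ (ht c), htν, htν, htν])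
  · show val ⁅s (M.θ * a), t (M.θ * b)⁆ = M.θ * val ⁅s a, t b⁆
    rw [← hvρ _ (hT _ (hs a) _ (ht b)), map_commutatorElement]
    exact wd _ (hs _) _ (hUρ _ (hs a)) _ (ht _) _ (hVρ _ (ht b))
      (by rw [hμρ _ (hs a), hsμ, hsμ]) (by rw [hνρ _ (ht b), htν, htν])

include M in
/-- The alternating case. -/
theorem pairing_vanish [Fintype F] [CharP F 2] (V T : Subgroup Q) (μ val : Q → F)
    (hVρ : ∀ x ∈ V, D.ρ x ∈ V)
    (hμm : ∀ x ∈ V, ∀ y ∈ V, μ (x * y) = μ x + μ y) (hμρ : ∀ x ∈ V, μ (D.ρ x) = M.θ * μ x)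
    (hμne : ∃ x ∈ V, μ x ≠ 0)
    (hT : ∀ x ∈ V, ∀ y ∈ V, ⁅x, y⁆ ∈ T)
    (hvm : ∀ x ∈ T, ∀ y ∈ T, val (x * y) = val x + val y)
    (hvρ : ∀ x ∈ T, val (D.ρ x) = M.θ * val x)
    (hconj : ∀ g ∈ V, ∀ x ∈ T, g * x * g⁻¹ ∈ T ∧ val (g * x * g⁻¹) = val x)
    (hk : ∀ x ∈ V, μ x = 0 → ∀ y ∈ V, val ⁅x, y⁆ = 0) :
    ∀ x ∈ V, ∀ y ∈ V, val ⁅x, y⁆ = 0 := by
  have hμ1 : μ 1 = 0 := by
    have := hμm 1 (one_mem V) 1 (one_mem V)
    rwa [mul_one, left_eq_add] at this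
  have hv1 : val 1 = 0 := by
    have := hvm 1 (one_mem T) 1 (one_mem T)
    rwa [mul_one, left_eq_add] at this
  have hsurj := M.surj_of_equivariant hVρ hμρ hμ1 hμne
  have hinv : ∀ x ∈ T, val x⁻¹ = val x := fun x hx => by
    have := hvm x hx x⁻¹ (inv_mem hx)
    rw [mul_inv_cancel, hv1] at this
    exact (CharTwo.add_eq_zero.1 this.symm).symm
  obtain ⟨β, hl, hr, hθ, hβ⟩ := M.exists_pairing V V T μ μ val hVρ hVρ hμm hμρ hsurj hμm hμρ hsurj
    hT hvm hvρ hconj hconj hk (fun y hy h x hx => by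
      rw [← hinv _ (hT x hx y hy), commutatorElement_inv, hk y hy h x hx])
  intro x hx y hy
  rw [hβ x hx y hy]
  refine pairing_zero_of_generator β M.gen hl hr hθ (fun a => ?_) _ _
  obtain ⟨z, hz, rfl⟩ := hsurj a
  rw [← hβ z hz z hz, commutatorElement_self, hv1]

end FixedModel

end Cfsg.Agent.InvChar
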