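import Cfsg.Agent.InvChar.FixedTransitiveStruct

/-!
The induction: such a non-abelian group has class two and squares in the fixed points.
-/

set_option autoImplicit false

namespace Cfsg.Agent.InvChar

open scoped commutatorElement

universe u

/-- What the structure theorem gives. -/
structure FixedDatum.IsFlat {Q : Type u} [Group Q] {n : ℕ} (D : FixedDatum Q n) : Prop where
  center : ∀ x : Q, (∀ y, x * y = y * x) → x ∈ D.C
  sq : ∀ x : Q, x * x ∈ D.C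
  cm : ∀ x y : Q, ⁅x, y⁆ ∈ D.C
  dd : ∀ x : Q, D.d (D.d x) ∈ D.C
  out : ∃ x : Q, D.d x ∉ D.C

namespace FixedDatum

variable {Q : Type u} [Group Q] [Finite Q] {n : ℕ} (D : FixedDatum Q n) (h2 : IsPGroup 2 Q)

include h2

/-- The case in which the quotient by the fixed points is abelian. -/
theorem isFlat_of_abelian_quot (hn : n ≠ 0) (hnc : ∃ x y : Q, x * y ≠ y * x)
    (hcm : ∀ x y : Q, ⁅x, y⁆ ∈ D.C) : D.IsFlat := by
  classical
  haveI hN : D.C.Normal := ⟨fun c hc g => by rwa [D.C_central h2 hc g, mul_inv_cancel_right]⟩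
  have hnot : ∃ x, ¬ x * D.α x ∈ D.C := by
    by_contra! hall
    obtain ⟨x, y, h⟩ := hnc
    exact h (D.abelian_of_inverted h2 hn hcm hall x y)
  have hcenter : ∀ x : Q, (∀ y, x * y = y * x) → x ∈ D.C := by
    by_contra! hcon
    obtain ⟨z, hz, hzC⟩ := hcon
    obtain ⟨D', ha, hC', hr⟩ := D.exists_quot h2 hn ⟨z, hzC⟩
    let Zs : Subgroup (Q ⧸ D.C) := (Subgroup.center Q).map (QuotientGroup.mk' D.C)
    have hchar : ∀ f : MulAut Q, ∀ w ∈ Subgroup.center Q, f w ∈ Subgroup.center Q := fun f w hw =>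
      Subgroup.mem_center_iff.2 fun g => by
        obtain ⟨g, rfl⟩ := f.surjective g
        rw [← map_mul, Subgroup.mem_center_iff.1 hw g, map_mul]
    have hle : D'.C ≤ Zs := D'.C_le (h2.to_quotient D.C)
      (fun _ hw => by
        obtain ⟨w, hw, rfl⟩ := hw
        exact ⟨D.α w, hchar D.α w hw, (ha w).symm⟩)
      (fun _ hw => by
        obtain ⟨w, hw, rfl⟩ := hw
        exact ⟨D.ρ w, hchar D.ρ w hw, (hr w).symm⟩)
      (fun e => hzC (by
        have : ((z : Q) : Q ⧸ D.C) ∈ Zs :=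
          ⟨z, Subgroup.mem_center_iff.2 fun g => (hz g).symm, rfl⟩
        rw [e, Subgroup.mem_bot, QuotientGroup.eq_one_iff] at this
        exact this))
    have hWZ : ∀ w ∈ D.W h2, w ∈ Subgroup.center Q := by
      intro w hw
      obtain ⟨v, hv, he⟩ := hle ((hC' w).2 hw)
      have h1 : v⁻¹ * w ∈ D.C := QuotientGroup.eq.1 he
      have h3 : v⁻¹ * w ∈ Subgroup.center Q :=
        Subgroup.mem_center_iff.2 fun g => D.C_central h2 h1 g
      have := mul_mem hv h3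
      rwa [mul_inv_cancel_left] at this
    obtain ⟨x, hx⟩ := hnot
    refine hx ((D.memC _).2 ?_)
    have hwW : x * D.α x ∈ D.W h2 := by
      show D.d (x * D.α x) ∈ D.C
      have e : D.d (x * D.α x) = ⁅(D.α x)⁻¹, x⁻¹⁆ := by
        simp only [d, map_mul, D.αα, commutatorElement_def]; group
      rw [e]; exact hcm _ _
    rw [map_mul, D.αα]
    calc D.α x * x = x⁻¹ * (x * D.α x * x) := by group
      _ = x⁻¹ * (x * (x * D.α x)) := by rw [Subgroup.mem_center_iff.1 (hWZ _ hwW) x]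
      _ = x * D.α x := inv_mul_cancel_left _ _
  have hsq : ∀ x : Q, x * x ∈ D.C := fun x => hcenter _ fun y => by
    rw [← comm_eq_one]
    have e : ⁅x * x, y⁆ = x * ⁅x, y⁆ * x⁻¹ * ⁅x, y⁆ := by simp only [commutatorElement_def]; group
    rw [e, D.C_central h2 (hcm x y) x, mul_inv_cancel_right, D.sqC _ (hcm x y)]
  refine ⟨hcenter, hsq, hcm, fun x => ?_, ?_⟩
  · have e : D.d (D.d x) = ((D.d x)⁻¹) * ((D.d x)⁻¹) := by
      simp only [d, map_mul, map_inv, D.αα]; group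
    rw [e]; exact hsq _
  · obtain ⟨x, hx⟩ := hnot
    refine ⟨x, fun h => hx ?_⟩
    rw [D.alpha_eq, ← mul_assoc]
    exact mul_mem (hsq x) h

/-- The quotient cannot itself be non-abelian. -/
theorem false_of_flat_quot (hn : 2 ≤ n) [hN : D.C.Normal] (D' : FixedDatum (Q ⧸ D.C) n)
    (ha : ∀ x : Q, D'.α (x : Q ⧸ D.C) = (D.α x : Q))
    (hC' : ∀ x : Q, (x : Q ⧸ D.C) ∈ D'.C ↔ x ∈ D.W h2) (hflat : D'.IsFlat) : False := by
  classical
  obtain ⟨M⟩ := D.exists_model (by omega : n ≠ 0)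
  haveI : Fintype (GaloisField 2 n) := Fintype.ofFinite _
  have hd : ∀ x : Q, D'.d (x : Q ⧸ D.C) = (D.d x : Q) := fun x => by
    show ((x : Q ⧸ D.C))⁻¹ * D'.α (x : Q ⧸ D.C) = _
    rw [ha]; rfl
  have hcmW : ∀ x y : Q, ⁅x, y⁆ ∈ D.W h2 := fun x y => (hC' _).1 (hflat.cm (x : Q ⧸ D.C) y)
  have hddW : ∀ x : Q, D.d (D.d x) ∈ D.W h2 := fun x => by
    have := hflat.dd (x : Q ⧸ D.C)
    rw [hd, hd, hC'] at this
    exact this
  obtain ⟨x₀, hx₀⟩ : ∃ x₀ : Q, D.d x₀ ∉ D.W h2 := by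
    obtain ⟨x, hx⟩ := hflat.out
    obtain ⟨x, rfl⟩ := QuotientGroup.mk_surjective x
    rw [hd, hC'] at hx
    exact ⟨x, hx⟩
  -- the valuation on `W`
  let δ : Q → GaloisField 2 n := fun x => M.lg (D.d x)
  have hδm : ∀ x ∈ D.W h2, ∀ y ∈ D.W h2, δ (x * y) = δ x + δ y := fun x hx y hy => by
    show M.lg _ = _
    rw [D.d_W_mul h2 hx, M.lg_mul hx hy]
  have hδρ : ∀ x ∈ D.W h2, δ (D.ρ x) = M.θ * δ x := fun x hx => by
    show M.lg _ = _
    rw [d_rho, M.lg_rho hx]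
  have hδ0 : ∀ x ∈ D.W h2, (δ x = 0 ↔ x ∈ D.C) := fun x hx => by
    rw [M.lg_eq_zero hx, D.d_eq_one]
  have hδinv : ∀ x ∈ D.W h2, δ x⁻¹ = δ x := fun x hx => by
    have := hδm x hx x⁻¹ (inv_mem hx)
    rw [mul_inv_cancel, (hδ0 1 (one_mem _)).2 (one_mem _)] at this
    exact (CharTwo.add_eq_zero.1 this.symm).symm
  have hconjW : ∀ g : Q, ∀ x ∈ D.W h2,
      g * x * g⁻¹ ∈ D.W h2 ∧ δ (g * x * g⁻¹) = δ x := by
    intro g x hx
    have e1 : ⁅g, x⁆ ∈ D.C := by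
      have h := D'.C_central (h2.to_quotient D.C) ((hC' x).2 hx) (g : Q ⧸ D.C)
      rw [← comm_eq_one] at h
      exact (QuotientGroup.eq_one_iff _).1 h
    have e : g * x * g⁻¹ = ⁅g, x⁆ * x := by simp only [commutatorElement_def]; group
    rw [e]
    exact ⟨mul_mem (D.C_le_W h2 e1) hx,
      by rw [hδm _ (D.C_le_W h2 e1) _ hx, (hδ0 _ (D.C_le_W h2 e1)).2 e1, zero_add]⟩
  have hWcm : ∀ w ∈ D.W h2, ∀ x : Q, ⁅w, x⁆ ∈ D.C := by
    intro w hw x
    have h := D'.C_central (h2.to_quotient D.C) ((hC' w).2 hw) (x : Q ⧸ D.C)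
    exact (QuotientGroup.eq_one_iff _).1 (comm_eq_one.2 h.symm :
      ⁅(w : Q ⧸ D.C), (x : Q ⧸ D.C)⁆ = 1)
  have hconjC : ∀ g : Q, ∀ x ∈ D.C, g * x * g⁻¹ ∈ D.C ∧ M.lg (g * x * g⁻¹) = M.lg x := by
    intro g x hx
    rw [D.C_central h2 hx g, mul_inv_cancel_right]
    exact ⟨hx, rfl⟩
  -- the second layer
  let V : Subgroup Q :=
    { carrier := {x | D.d x ∈ D.W h2}
      one_mem' := by simp [d]
      mul_mem' := fun {x y} hx hy => by
        show D.d (x * y) ∈ D.W h2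
        rw [d_mul]
        refine mul_mem ?_ hy
        simpa using (hconjW y⁻¹ _ hx).1
      inv_mem' := fun {x} hx => by
        show D.d x⁻¹ ∈ D.W h2
        have h := D.d_mul x x⁻¹
        rw [mul_inv_cancel, show D.d 1 = 1 by simp [d]] at h
        rw [← inv_eq_of_mul_eq_one_right h.symm]
        refine inv_mem ?_
        simpa using (hconjW x _ hx).1 }
  have hVρ : ∀ x ∈ V, D.ρ x ∈ V := fun x hx => by
    show D.d (D.ρ x) ∈ D.W h2
    rw [d_rho]; exact D.W_rho h2 hx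
  have hdV : ∀ x : Q, D.d x ∈ V := hddW
  let ν : Q → GaloisField 2 n := fun x => δ (D.d x)
  have hνm : ∀ x ∈ V, ∀ y ∈ V, ν (x * y) = ν x + ν y := by
    intro x hx y hy
    show δ _ = _
    have h1 := hconjW y⁻¹ _ hx
    rw [inv_inv] at h1
    rw [d_mul, hδm _ h1.1 _ hy, h1.2]
  have hνρ : ∀ x ∈ V, ν (D.ρ x) = M.θ * ν x := fun x hx => by
    show δ _ = _
    rw [d_rho, hδρ _ hx]
  have hν0 : ∀ x ∈ V, ν x = 0 → x ∈ D.W h2 := fun x hx h => (hδ0 _ hx).1 h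
  have hν1 : ν 1 = 0 := by simp [ν, δ, d, M.lg_one]
  have hνne : ν (D.d x₀) ≠ 0 := fun h => hx₀ (hν0 _ (hdV x₀) h)
  -- the top layer
  let Λ : Q → GaloisField 2 n := fun x => ν (D.d x)
  have hΛρ : ∀ x, Λ (D.ρ x) = M.θ * Λ x := fun x => by
    show ν _ = _
    rw [d_rho, hνρ _ (hdV x)]
  have hΛm : ∀ x y, Λ (x * y) = Λ x + Λ y := by
    intro x y
    show ν _ = _
    have e : y⁻¹ * D.d x * y = ⁅y⁻¹, D.d x⁆ * D.d x := by simp only [commutatorElement_def]; group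
    have hcV : ⁅y⁻¹, D.d x⁆ ∈ V := by
      show D.d _ ∈ D.W h2
      exact D.C_le_W h2 (hcmW _ _)
    rw [d_mul, e, hνm _ (mul_mem hcV (hdV x)) _ (hdV y), hνm _ hcV _ (hdV x)]
    have : ν ⁅y⁻¹, D.d x⁆ = 0 := (hδ0 _ (D.C_le_W h2 (hcmW _ _))).2 (hcmW y⁻¹ (D.d x))
    rw [this, zero_add]
  have hΛ0 : ∀ x, Λ x = 0 → x ∈ V := fun x h => hν0 _ (hdV x) h
  have hΛs : ∀ a, ∃ x ∈ (⊤ : Subgroup Q), Λ x = a :=
    M.surj_of_equivariant (fun _ _ => trivial) (fun x _ => hΛρ x)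
      (show ν (D.d 1) = 0 by rw [show D.d 1 = 1 by simp [d]]; exact hν1) ⟨x₀, trivial, hνne⟩
  have hνs : ∀ a, ∃ x ∈ V, ν x = a := fun a => by
    obtain ⟨x, -, hx⟩ := hΛs a
    exact ⟨D.d x, hdV x, hx⟩
  have hδs : ∀ a, ∃ x ∈ D.W h2, δ x = a := fun a => by
    obtain ⟨x, hx, hxa⟩ := hνs a
    exact ⟨D.d x, hx, hxa⟩
  -- `W` is abelian and centralises `V`
  have hWW : ∀ w ∈ D.W h2, ∀ w' ∈ D.W h2, ⁅w, w'⁆ = 1 := fun w hw w' hw' =>
    (M.lg_eq_zero (hWcm w hw w')).1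
      (M.pairing_vanish (D.W h2) D.C δ M.lg (fun x hx => D.W_rho h2 hx) hδm hδρ
        ⟨D.d (D.d x₀), hddW x₀, hνne⟩ (fun x hx y _ => hWcm x hx y)
        (fun x hx y hy => M.lg_mul hx hy) (fun x hx => M.lg_rho hx) (fun g _ x hx => hconjC g x hx)
        (fun x hx h y _ => by
          rw [(comm_eq_one.2 (D.C_central h2 ((hδ0 x hx).1 h) y).symm : ⁅x, y⁆ = 1), M.lg_one])
        w hw w' hw')
  have hWV : ∀ w ∈ D.W h2, ∀ v ∈ V, ⁅w, v⁆ = 1 := by
    intro w hw v hv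
    obtain ⟨x, -, hx⟩ := hΛs (ν v)
    -- `[w, d x] = 1`
    have h1 : ⁅w, D.d x⁆ = 1 := by
      have e1 : ⁅D.α w, D.α x⁆ = ⁅w, x⁆ := by
        rw [← map_commutatorElement, D.alpha_C (hWcm w hw x)]
      have e2 : ⁅D.α w, D.α x⁆ = ⁅w, D.α x⁆ := by
        have hc := D.C_central h2 (show D.d w ∈ D.C from hw)
        rw [D.alpha_eq w]
        simp only [commutatorElement_def, mul_inv_rev]
        calc w * D.d w * D.α x * ((D.d w)⁻¹ * w⁻¹) * (D.α x)⁻¹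
            = w * (D.d w * D.α x) * (D.d w)⁻¹ * w⁻¹ * (D.α x)⁻¹ := by group
          _ = w * (D.α x * D.d w) * (D.d w)⁻¹ * w⁻¹ * (D.α x)⁻¹ := by rw [hc]
          _ = _ := by group
      rw [e2, D.alpha_eq x] at e1
      have e3 : ⁅w, x * D.d x⁆ = ⁅w, x⁆ * (x * ⁅w, D.d x⁆ * x⁻¹) := by
        simp only [commutatorElement_def]; group
      rw [e3, mul_eq_left, conj_eq_one_iff] at e1
      exact e1
    have hdiff : (D.d x)⁻¹ * v ∈ D.W h2 := hν0 _ (mul_mem (inv_mem (hdV x)) hv) (by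
      have h := hνm _ (hdV x) _ (mul_mem (inv_mem (hdV x)) hv)
      rw [mul_inv_cancel_left, show ν (D.d x) = ν v from hx, left_eq_add] at h
      exact h)
    have h3 := hWW w hw _ hdiff
    rw [comm_eq_one] at h1 h3 ⊢
    have h4 : Commute w (D.d x * ((D.d x)⁻¹ * v)) := Commute.mul_right h1 h3
    rwa [mul_inv_cancel_left] at h4
  -- `V` is abelian
  have hVVC : ∀ v ∈ V, ∀ v' ∈ V, ⁅v, v'⁆ ∈ D.C := fun v hv v' hv' =>
    (hδ0 _ (hcmW v v')).1 (M.pairing_vanish V (D.W h2) ν δ hVρ hνm hνρ ⟨D.d x₀, hdV x₀, hνne⟩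
      (fun x _ y _ => hcmW x y) hδm hδρ (fun g _ x hx => hconjW g x hx)
      (fun x hx h y hy => by
        rw [hWV x (hν0 x hx h) y hy]; exact (hδ0 1 (one_mem _)).2 (one_mem _)) v hv v' hv')
  have hVV : ∀ v ∈ V, ∀ v' ∈ V, ⁅v, v'⁆ = 1 := fun v hv v' hv' =>
    (M.lg_eq_zero (hVVC v hv v' hv')).1
      (M.pairing_vanish V D.C ν M.lg hVρ hνm hνρ ⟨D.d x₀, hdV x₀, hνne⟩ hVVC
        (fun x hx y hy => M.lg_mul hx hy) (fun x hx => M.lg_rho hx) (fun g _ x hx => hconjC g x hx)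
        (fun x hx h y hy => by rw [hWV x (hν0 x hx h) y hy, M.lg_one]) v hv v' hv')
  -- the two pairings
  obtain ⟨β, βl, βr, βθ, hβ⟩ := M.exists_pairing V ⊤ (D.W h2) ν Λ δ hVρ (fun _ _ => trivial)
    hνm hνρ hνs (fun x _ y _ => hΛm x y) (fun x _ => hΛρ x) hΛs (fun x _ y _ => hcmW x y) hδm hδρ
    (fun g _ x hx => hconjW g x hx) (fun g _ x hx => hconjW g x hx)
    (fun x hx h y _ => (hδ0 _ (hcmW x y)).2 (hWcm x (hν0 x hx h) y))
    (fun y _ h x hx => by rw [hVV x hx y (hΛ0 y h)]; exact (hδ0 1 (one_mem _)).2 (one_mem _))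
  obtain ⟨γ, γl, γr, γθ, hγ⟩ := M.exists_pairing (D.W h2) ⊤ D.C δ Λ M.lg
    (fun x hx => D.W_rho h2 hx) (fun _ _ => trivial)
    hδm hδρ hδs (fun x _ y _ => hΛm x y) (fun x _ => hΛρ x) hΛs (fun x hx y _ => hWcm x hx y)
    (fun x hx y hy => M.lg_mul hx hy) (fun x hx => M.lg_rho hx)
    (fun g _ x hx => hconjC g x hx) (fun g _ x hx => hconjC g x hx)
    (fun x hx h y _ => by
      rw [(comm_eq_one.2 (D.C_central h2 ((hδ0 x hx).1 h) y).symm : ⁅x, y⁆ = 1), M.lg_one])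
    (fun y _ h x hx => by rw [hWV x hx y (hΛ0 y h), M.lg_one])
  set k := β 1 1
  set k₂ := γ 1 1
  have hβf := pairing_eq_of_generator β M.gen βl βr βθ
  have hγf := pairing_eq_of_generator γ M.gen γl γr γθ
  have hβ0 : k = 0 → ∀ z ∈ V, ∀ x : Q, ⁅z, x⁆ ∈ D.C := by
    intro hk z hz x
    refine (hδ0 _ (hcmW z x)).1 ?_
    obtain ⟨a, ha⟩ := SuzukiTwo.exists_sq (ν z)
    obtain ⟨b, hb⟩ := SuzukiTwo.exists_sq (Λ x)
    rw [hβ z hz x trivial, ← ha, ← hb, hβf, show β 1 1 = 0 from hk, zero_mul]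
  have hk : k ≠ 0 := by
    intro hk
    refine hx₀ ((hC' _).1 (hflat.center _ fun y => ?_))
    obtain ⟨y, rfl⟩ := QuotientGroup.mk_surjective y
    rw [← comm_eq_one]
    exact (QuotientGroup.eq_one_iff _).2 (hβ0 hk _ (hdV x₀) y)
  -- the symmetry
  have hsym : ∀ z ∈ V, ∀ x y, γ (δ ⁅z, x⁆) (Λ y) = γ (δ ⁅z, y⁆) (Λ x) := by
    intro z hz x y
    set w := ⁅z, x⁆ with hw
    set w2 := ⁅y, z⁆ with hw2
    set w3 := ⁅y, x⁆ with hw3
    have e1 : y * w * y⁻¹ = ⁅w2 * z, w3 * x⁆ := by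
      simp only [hw, hw2, hw3, commutatorElement_def]; group
    have hz2 : w2 * z ∈ V := mul_mem (show D.d w2 ∈ D.W h2 from D.C_le_W h2 (hcmW y z)) hz
    have e2 : ⁅w2 * z, w3 * x⁆ = ⁅w2 * z, w3⁆ * (w3 * ⁅w2 * z, x⁆ * w3⁻¹) := by
      simp only [commutatorElement_def]; group
    have e3 : ⁅w2 * z, w3⁆ = 1 := by
      rw [← inv_inj, commutatorElement_inv, inv_one, hWV _ (hcmW y x) _ hz2]
    have e4 : w3 * ⁅w2 * z, x⁆ * w3⁻¹ = ⁅w2 * z, x⁆ := by
      rw [mul_inv_eq_iff_eq_mul]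
      exact comm_eq_one.1 (hWW _ (hcmW y x) _ (hcmW _ _))
    have e5 : ⁅w2 * z, x⁆ = w * ⁅w2, x⁆ := by
      have e : ⁅w2 * z, x⁆ = w2 * w * w2⁻¹ * ⁅w2, x⁆ := by
        simp only [hw, commutatorElement_def]; group
      rw [e, comm_eq_one.1 (hWW _ (hcmW y z) _ (hcmW z x)), mul_inv_cancel_right]
    have e6 : ⁅y, w⁆ = ⁅w2, x⁆ := by
      rw [show ⁅y, w⁆ = y * w * y⁻¹ * w⁻¹ from commutatorElement_def y w, e1, e2, e3, one_mul, e4,
        e5, D.C_central h2 (hWcm w2 (hcmW y z) x) w, mul_inv_cancel_right]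
    have e7 : γ (δ w) (Λ y) = M.lg ⁅y, w⁆ := by
      rw [← hγ w (hcmW z x) y trivial, ← M.lg_inv (hWcm w (hcmW z x) y), commutatorElement_inv]
    rw [e7, e6, hγ w2 (hcmW y z) x trivial, hw2, ← commutatorElement_inv, hδinv _ (hcmW z y)]
  have hk2 : k₂ = 0 := by
    by_contra hk2
    obtain ⟨l, hl⟩ := SuzukiTwo.exists_sq k
    have hl0 : l ≠ 0 := fun e => hk (by rw [← hl, e, mul_zero])
    obtain ⟨t, ht0, ht1⟩ : ∃ t : GaloisField 2 n, t ≠ 0 ∧ t ≠ 1 := by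
      have hc : 2 < Fintype.card (GaloisField 2 n) := by
        rw [← Nat.card_eq_fintype_card, GaloisField.card 2 n (by omega)]
        exact lt_of_lt_of_le (by norm_num) (Nat.pow_le_pow_right (by norm_num) hn)
      have : ∃ t ∈ (Finset.univ : Finset (GaloisField 2 n)),
          t ∉ ({0, 1} : Finset (GaloisField 2 n)) := by
        apply Finset.exists_mem_notMem_of_card_lt_card
        rw [Finset.card_univ]
        exact lt_of_le_of_lt Finset.card_le_two hc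
      simpa using this
    obtain ⟨z, hz, hz1⟩ := hνs 1
    obtain ⟨x, -, hx⟩ := hΛs (t * t * (t * t))
    obtain ⟨y, -, hy⟩ := hΛs 1
    have h := hsym z hz x y
    rw [hβ z hz x trivial, hβ z hz y trivial, hz1, hx, hy] at h
    have a1 : β 1 (t * t * (t * t)) = (l * t) * (l * t) := by
      have := hβf 1 (t * t)
      rw [mul_one, one_mul] at this
      rw [this, show β 1 1 = l * l from hl.symm]; ring
    have a2 : β 1 1 = l * l := hl.symm
    rw [a1, a2] at h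
    have h3 := hγf (l * t) 1
    rw [one_mul, mul_one] at h3
    rw [h3, hγf l (t * t)] at h
    have h4 : l * t * (t + 1) = 0 := by
      have := mul_left_cancel₀ hk2 h
      linear_combination this + CharTwo.add_self_eq_zero (R := GaloisField 2 n) (l * (t * t))
    simp only [mul_eq_zero, hl0, ht0, false_or, CharTwo.add_eq_zero] at h4
    exact ht1 h4
  have hWcent : ∀ w ∈ D.W h2, ∀ x : Q, ⁅w, x⁆ = 1 := by
    intro w hw x
    refine (M.lg_eq_zero (hWcm w hw x)).1 ?_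
    obtain ⟨a, ha⟩ := SuzukiTwo.exists_sq (δ w)
    obtain ⟨b, hb⟩ := SuzukiTwo.exists_sq (Λ x)
    rw [hγ w hw x trivial, ← ha, ← hb, hγf, show γ 1 1 = 0 from hk2, zero_mul]
  obtain ⟨z, hz, x, hzx⟩ : ∃ z ∈ V, ∃ x : Q, ⁅z, x⁆ ∉ D.C := by
    by_contra! hall
    refine hx₀ ((hC' _).1 (hflat.center _ fun y => ?_))
    obtain ⟨y, rfl⟩ := QuotientGroup.mk_surjective y
    rw [← comm_eq_one]
    exact (QuotientGroup.eq_one_iff _).2 (hall _ (hdV x₀) y)
  refine hzx ((D.memC _).2 ?_)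
  rw [map_commutatorElement, D.alpha_eq z, D.alpha_eq x]
  have e1 : ⁅z * D.d z, x * D.d x⁆ = ⁅z, x * D.d x⁆ := by
    have e : ⁅z * D.d z, x * D.d x⁆ =
        z * ⁅D.d z, x * D.d x⁆ * z⁻¹ * ⁅z, x * D.d x⁆ := by
      simp only [commutatorElement_def]; group
    rw [e, hWcent _ hz, mul_one, mul_inv_cancel, one_mul]
  rw [e1, show ⁅z, x * D.d x⁆ = ⁅z, x⁆ * (x * ⁅z, D.d x⁆ * x⁻¹) by
    simp only [commutatorElement_def]; group, hVV z hz _ (hdV x), mul_one, mul_inv_cancel, mul_one]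

end FixedDatum

/-- The structure theorem. -/
theorem FixedDatum.isFlat {n : ℕ} (hn : 2 ≤ n) : ∀ {Q : Type u} [Group Q] [Finite Q]
    (D : FixedDatum Q n), IsPGroup 2 Q → (∃ x y : Q, x * y ≠ y * x) → D.IsFlat := by
  classical
  suffices h : ∀ (N : ℕ) {Q : Type u} [Group Q] [Finite Q] (D : FixedDatum Q n), Nat.card Q = N →
      IsPGroup 2 Q → (∃ x y : Q, x * y ≠ y * x) → D.IsFlat from
    fun {Q} _ _ D => h _ D rfl
  intro N
  induction N using Nat.strong_induction_on with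
  | _ N ih =>
    intro Q _ _ D hQ h2 hnc
    by_cases hcm : ∀ x y : Q, ⁅x, y⁆ ∈ D.C
    · exact D.isFlat_of_abelian_quot h2 (by omega) hnc hcm
    · push Not at hcm
      obtain ⟨x, y, hxy⟩ := hcm
      haveI hN : D.C.Normal := ⟨fun c hc g => by rwa [D.C_central h2 hc g, mul_inv_cancel_right]⟩
      obtain ⟨D', ha, hC', -⟩ := D.exists_quot h2 (by omega) ⟨_, hxy⟩
      have hlt : Nat.card (Q ⧸ D.C) < N := by
        rw [← hQ, D.C.card_eq_card_quotient_mul_card_subgroup, D.cardC]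
        exact lt_mul_of_one_lt_right Nat.card_pos (Nat.one_lt_two_pow (by omega))
      refine (D.false_of_flat_quot h2 hn D' ha hC' (ih _ hlt D' rfl (h2.to_quotient D.C) ?_)).elim
      exact ⟨(x : Q ⧸ D.C), (y : Q ⧸ D.C), fun e => hxy
        ((QuotientGroup.eq_one_iff _).1 (FixedDatum.comm_eq_one.2 e :
          ⁅(x : Q ⧸ D.C), (y : Q ⧸ D.C)⁆ = 1))⟩

end Cfsg.Agent.InvChar
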