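import Cfsg.Agent.InvChar.FixedTransitiveClassTwo

/-!
Coordinates in which the squaring map is a binary quadratic form `k (u² + u v + ε v²)`.
-/

set_option autoImplicit false

namespace Cfsg.Agent.InvChar

open scoped commutatorElement

/-- The squaring map in coordinates. -/
theorem FixedDatum.exists_form {Q : Type*} [Group Q] [Finite Q] {n : ℕ} (hn : 2 ≤ n)
    (D : FixedDatum Q n) (h2 : IsPGroup 2 Q) (hnc : ∃ x y : Q, x * y ≠ y * x) :
    ∃ (u v : Q → GaloisField 2 n) (emb : GaloisField 2 n → Q) (k ε : GaloisField 2 n),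
      (∀ x y, u (x * y) = u x + u y) ∧ (∀ x y, v (x * y) = v x + v y) ∧
      (∀ a b, ∃ x, u x = a ∧ v x = b) ∧ (∀ x, (u x = 0 ∧ v x = 0) ↔ ∃ c, emb c = x) ∧
      (∀ a b, emb (a + b) = emb a * emb b) ∧ Function.Injective emb ∧
      (∀ c g, g * emb c = emb c * g) ∧ k ≠ 0 ∧
      ∀ x, x * x = emb (k * (u x * u x + u x * v x + ε * (v x * v x))) := by
  classical
  have hn0 : n ≠ 0 := by omega
  obtain ⟨M⟩ := D.exists_model hn0
  haveI : Fintype (GaloisField 2 n) := Fintype.ofFinite _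
  have hflat := FixedDatum.isFlat hn D h2 hnc
  have hcm : ∀ x y : Q, ⁅x, y⁆ ∈ D.C := hflat.cm
  haveI hN : D.C.Normal := ⟨fun c hc g => by rwa [D.C_central h2 hc g, mul_inv_cancel_right]⟩
  have hconjC : ∀ g : Q, ∀ x ∈ D.C, g * x * g⁻¹ ∈ D.C ∧ M.lg (g * x * g⁻¹) = M.lg x := by
    intro g x hx
    rw [D.C_central h2 hx g, mul_inv_cancel_right]
    exact ⟨hx, rfl⟩
  have hkC : ∀ {x : Q}, x ∈ D.C → ∀ y, M.lg ⁅x, y⁆ = 0 := fun {x} hx y => by
    rw [(FixedDatum.comm_eq_one.2 (D.C_central h2 hx y).symm : ⁅x, y⁆ = 1), M.lg_one]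
  -- the valuation on `W`
  let δ : Q → GaloisField 2 n := fun x => M.lg (D.d x)
  have hδm : ∀ x ∈ D.W h2, ∀ y ∈ D.W h2, δ (x * y) = δ x + δ y := fun x hx y hy => by
    show M.lg _ = _
    rw [D.d_W_mul h2 hx, M.lg_mul hx hy]
  have hδρ : ∀ x ∈ D.W h2, δ (D.ρ x) = M.θ * δ x := fun x hx => by
    show M.lg _ = _
    rw [D.d_rho, M.lg_rho hx]
  have hδ0 : ∀ x ∈ D.W h2, (δ x = 0 ↔ x ∈ D.C) := fun x hx => by
    rw [M.lg_eq_zero hx, D.d_eq_one]
  have hdW : ∀ x, D.d x ∈ D.W h2 := hflat.dd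
  let Λ : Q → GaloisField 2 n := fun x => δ (D.d x)
  have hΛρ : ∀ x, Λ (D.ρ x) = M.θ * Λ x := fun x => by
    show δ _ = _
    rw [D.d_rho, hδρ _ (hdW x)]
  have hΛm : ∀ x y, Λ (x * y) = Λ x + Λ y := by
    intro x y
    show δ _ = _
    have e : y⁻¹ * D.d x * y = ⁅y⁻¹, D.d x⁆ * D.d x := by simp only [commutatorElement_def]; group
    have hc : ⁅y⁻¹, D.d x⁆ ∈ D.W h2 := D.C_le_W h2 (hcm _ _)
    rw [D.d_mul, e, hδm _ (mul_mem hc (hdW x)) _ (hdW y), hδm _ hc _ (hdW x),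
      (hδ0 _ hc).2 (hcm _ _), zero_add]
  have hΛ0 : ∀ x, (Λ x = 0 ↔ x ∈ D.W h2) := fun x => hδ0 _ (hdW x)
  obtain ⟨x₀, hx₀⟩ := hflat.out
  have hΛne : Λ x₀ ≠ 0 := fun h => hx₀ ((hΛ0 x₀).1 h)
  have hΛs : ∀ a, ∃ x ∈ (⊤ : Subgroup Q), Λ x = a :=
    M.surj_of_equivariant (fun _ _ => trivial) (fun x _ => hΛρ x)
      ((hΛ0 1).2 (one_mem _)) ⟨x₀, trivial, hΛne⟩
  have hδs : ∀ a, ∃ x ∈ D.W h2, δ x = a := fun a => by
    obtain ⟨x, -, hx⟩ := hΛs a
    exact ⟨D.d x, hdW x, hx⟩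
  choose sW hsW hsWδ using hδs
  -- a retraction on `W` modulo `C`
  let A := Q ⧸ D.C
  letI hA : CommGroup A :=
    { (inferInstance : Group A) with
      mul_comm := fun a b => by
        obtain ⟨a, rfl⟩ := QuotientGroup.mk_surjective a
        obtain ⟨b, rfl⟩ := QuotientGroup.mk_surjective b
        rw [← QuotientGroup.mk_mul, ← QuotientGroup.mk_mul, QuotientGroup.eq]
        have := hcm b⁻¹ a⁻¹
        simpa [commutatorElement_def, mul_assoc] using this }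
  letI : Module (ZMod 2) (Additive A) := AddCommGroup.zmodModule fun a => by
    rw [two_nsmul]
    obtain ⟨z, hz⟩ := QuotientGroup.mk_surjective (Additive.toMul a)
    refine Additive.toMul.injective ?_
    show Additive.toMul a * Additive.toMul a = 1
    rw [← hz, ← QuotientGroup.mk_mul, QuotientGroup.eq_one_iff]
    exact hflat.sq z
  letI : Algebra (ZMod 2) (GaloisField 2 n) := ZMod.algebra _ 2
  have hmk : ∀ x ∈ D.W h2, ∀ y ∈ D.W h2, δ x = δ y → (x : A) = (y : A) := by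
    intro x hx y hy h
    refine QuotientGroup.eq.2 ((hδ0 _ (mul_mem (inv_mem hx) hy)).1 ?_)
    have e := hδm x hx (x⁻¹ * y) (mul_mem (inv_mem hx) hy)
    rw [mul_inv_cancel_left, ← h, left_eq_add] at e
    exact e
  let ιW : GaloisField 2 n →+ Additive A := AddMonoidHom.mk' (fun a => Additive.ofMul (sW a : A))
    fun a b => by
      rw [← ofMul_mul, ← QuotientGroup.mk_mul]
      refine congrArg Additive.ofMul (hmk _ (hsW _) _ (mul_mem (hsW a) (hsW b)) ?_)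
      rw [hsWδ, hδm _ (hsW a) _ (hsW b), hsWδ, hsWδ]
  obtain ⟨r₀, hr₀⟩ := LinearMap.exists_leftInverse_of_injective (ιW.toZModLinearMap 2)
    (LinearMap.ker_eq_bot.2 fun a b h => by
      have h' : (sW a : A) = (sW b : A) := Additive.ofMul.injective h
      have h1 : (sW a)⁻¹ * sW b ∈ D.C := QuotientGroup.eq.1 h'
      have e := hδm _ (hsW a) _ (D.C_le_W h2 h1)
      rw [mul_inv_cancel_left, (hδ0 _ (D.C_le_W h2 h1)).2 h1, add_zero, hsWδ, hsWδ] at e
      exact e.symm)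
  let r : Q → GaloisField 2 n := fun x => r₀ (Additive.ofMul (x : A))
  have hrm : ∀ x y, r (x * y) = r x + r y := fun x y => by
    show r₀ _ = _
    rw [QuotientGroup.mk_mul, ofMul_mul, map_add]
  have hrW : ∀ w ∈ D.W h2, r w = δ w := by
    intro w hw
    show r₀ _ = _
    rw [hmk w hw _ (hsW (δ w)) (hsWδ (δ w)).symm]
    exact LinearMap.congr_fun hr₀ (δ w)
  -- averaging
  set m := 2 ^ n - 1 with hm
  have hθ0 : M.θ ≠ 0 := fun h => by
    have h1 := M.emb_rho 1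
    rw [h, zero_mul, M.emb_zero, map_eq_one_iff _ D.ρ.injective, ← M.emb_zero] at h1
    exact one_ne_zero (M.emb_inj h1)
  have hρpow : ∀ (k : ℕ) (a : GaloisField 2 n), (D.ρ ^ k) (M.emb a) = M.emb (M.θ ^ k * a) := by
    intro k
    induction k with
    | zero => intro a; simp
    | succ k ih => intro a; rw [pow_succ', MulAut.mul_apply, ih, M.emb_rho, pow_succ', mul_assoc]
  have hθm : M.θ ^ m = 1 := by
    have h1 := hρpow m 1
    rw [hm, D.period, MulAut.one_apply, mul_one] at h1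
    exact (M.emb_inj h1).symm
  let π : Q → GaloisField 2 n := fun x =>
    ∑ k ∈ Finset.range m, (M.θ ^ k)⁻¹ * r ((D.ρ ^ k) x)
  have hπm : ∀ x y, π (x * y) = π x + π y := fun x y => by
    simp only [π, map_mul, hrm, mul_add, Finset.sum_add_distrib]
  have hπW : ∀ w ∈ D.W h2, π w = δ w := by
    intro w hw
    have hk : ∀ k, δ ((D.ρ ^ k) w) = M.θ ^ k * δ w := by
      intro k
      induction k with
      | zero => simp
      | succ k ih =>
        rw [pow_succ' D.ρ, MulAut.mul_apply, hδρ _ (D.rho_pow_mem (fun z hz => D.W_rho h2 hz) k hw),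
          ih, pow_succ', mul_assoc]
    show ∑ k ∈ Finset.range m, _ = _
    rw [Finset.sum_congr rfl fun k _ => by
      rw [hrW _ (D.rho_pow_mem (fun z hz => D.W_rho h2 hz) k hw), hk,
        inv_mul_cancel_left₀ (pow_ne_zero k hθ0)],
      Finset.sum_const, Finset.card_range, nsmul_eq_mul]
    have hodd : Odd m := Nat.Even.sub_odd (Nat.one_le_two_pow) (Nat.even_pow.2 ⟨even_two, hn0⟩) odd_one
    obtain ⟨j, hj⟩ := hodd
    rw [hj]
    push_cast
    linear_combination ((j : GaloisField 2 n) * δ w) * (CharTwo.two_eq_zero (R := GaloisField 2 n))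
  have hπρ : ∀ x, π (D.ρ x) = M.θ * π x := by
    intro x
    let g : ℕ → GaloisField 2 n := fun k => (M.θ ^ k)⁻¹ * r ((D.ρ ^ k) x)
    have h1 : ∀ k, (M.θ ^ k)⁻¹ * r ((D.ρ ^ k) (D.ρ x)) = M.θ * g (k + 1) := fun k => by
      show _ = M.θ * ((M.θ ^ (k + 1))⁻¹ * r ((D.ρ ^ (k + 1)) x))
      rw [pow_succ D.ρ, MulAut.mul_apply, pow_succ' M.θ, mul_inv, ← mul_assoc M.θ, ← mul_assoc M.θ,
        mul_inv_cancel₀ hθ0, one_mul]
    show ∑ k ∈ Finset.range m, _ = M.θ * ∑ k ∈ Finset.range m, g k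
    rw [Finset.sum_congr rfl fun k _ => h1 k, ← Finset.mul_sum]
    congr 1
    have hg : g m = g 0 := by
      show (M.θ ^ m)⁻¹ * r ((D.ρ ^ m) x) = (M.θ ^ 0)⁻¹ * r ((D.ρ ^ 0) x)
      rw [hθm, show D.ρ ^ m = 1 from D.period, pow_zero, pow_zero]
    have h3 := Finset.sum_range_succ g m
    rw [Finset.sum_range_succ', hg] at h3
    exact add_right_cancel h3
  have hker : ∀ x, (π x = 0 ∧ Λ x = 0) ↔ x ∈ D.C := by
    intro x
    constructor
    · rintro ⟨h, h'⟩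
      rw [← hδ0 x ((hΛ0 x).1 h'), ← hπW x ((hΛ0 x).1 h')]
      exact h
    · intro hx
      exact ⟨by rw [hπW x (D.C_le_W h2 hx), (hδ0 x (D.C_le_W h2 hx)).2 hx],
        (hΛ0 x).2 (D.C_le_W h2 hx)⟩
  have hπα : ∀ x, π (D.α x) = π x + Λ x := fun x => by
    rw [D.alpha_eq, hπm, hπW _ (hdW x)]
  have hΛα : ∀ x, Λ (D.α x) = Λ x := fun x => by
    rw [D.alpha_eq, hΛm, show Λ (D.d x) = 0 from (hΛ0 _).2 (hdW x), add_zero]
  -- the squaring map
  let q : Q → GaloisField 2 n := fun x => M.lg (x * x)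
  have hqρ : ∀ x, q (D.ρ x) = M.θ * q x := fun x => by
    show M.lg _ = _
    rw [← map_mul, M.lg_rho (hflat.sq x)]
  have hqm : ∀ x y, q (x * y) = q x + q y + M.lg ⁅y, x⁆ := by
    intro x y
    have e : (x * y) * (x * y) = x * ⁅y, x⁆ * x⁻¹ * ((x * x) * (y * y)) := by
      simp only [commutatorElement_def]; group
    show M.lg _ = _
    rw [e, M.lg_mul (hconjC x _ (hcm y x)).1 (mul_mem (hflat.sq x) (hflat.sq y)),
      (hconjC x _ (hcm y x)).2, M.lg_mul (hflat.sq x) (hflat.sq y)]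
    ring
  have hqC : ∀ c ∈ D.C, q c = 0 := fun c hc => by
    show M.lg _ = 0
    rw [D.sqC c hc, M.lg_one]
  have hlin : ∀ (V : Subgroup Q) (μ : Q → GaloisField 2 n), (∀ x ∈ V, D.ρ x ∈ V) →
      (∀ x ∈ V, ∀ y ∈ V, μ (x * y) = μ x + μ y) → (∀ x ∈ V, μ (D.ρ x) = M.θ * μ x) →
      (∀ a, ∃ x ∈ V, μ x = a) → (∀ x ∈ V, μ x = 0 → x ∈ D.C) →
      (∃ x ∈ V, μ x ≠ 0) →
      (∀ x ∈ V, ∀ y ∈ V, M.lg ⁅x, y⁆ = 0) ∧ ∃ l, ∀ x ∈ V, q x = μ x * l := by
    intro V μ hVρ hμm hμρ hμs hμ0 hμne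
    have hz : ∀ x ∈ V, ∀ y ∈ V, M.lg ⁅x, y⁆ = 0 :=
      M.pairing_vanish V D.C μ M.lg hVρ hμm hμρ hμne (fun x _ y _ => hcm x y)
        (fun x hx y hy => M.lg_mul hx hy) (fun x hx => M.lg_rho hx) (fun g _ x hx => hconjC g x hx)
        (fun x hx h y _ => hkC (hμ0 x hx h) y)
    refine ⟨hz, ?_⟩
    choose s hs hsμ using hμs
    have wd : ∀ x ∈ V, ∀ y ∈ V, μ x = μ y → q x = q y := by
      intro x hx y hy h
      have e := hμm x hx (x⁻¹ * y) (mul_mem (inv_mem hx) hy)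
      rw [mul_inv_cancel_left, ← h, left_eq_add] at e
      have hc := hμ0 _ (mul_mem (inv_mem hx) hy) e
      conv_rhs => rw [← mul_inv_cancel_left x y]
      rw [hqm, hkC hc, hqC _ hc, add_zero, add_zero]
    refine ⟨q (s 1), fun x hx => ?_⟩
    have := linear_of_generator M.gen (f := fun a => q (s a))
      (fun a b => by
        show q (s (a + b)) = _
        rw [wd _ (hs _) _ (mul_mem (hs a) (hs b)) (by rw [hsμ, hμm _ (hs a) _ (hs b), hsμ, hsμ]),
          hqm, hz _ (hs b) _ (hs a), add_zero])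
      (fun a => by
        show q (s (M.θ * a)) = _
        rw [wd _ (hs _) _ (hVρ _ (hs a)) (by rw [hsμ, hμρ _ (hs a), hsμ]), hqρ])
      (μ x)
    rw [wd x hx _ (hs (μ x)) (hsμ _).symm]
    exact this
  obtain ⟨hWW, k0, hk0⟩ := hlin (D.W h2) δ (fun x hx => D.W_rho h2 hx) hδm hδρ
    (fun a => ⟨sW a, hsW a, hsWδ a⟩) (fun x hx h => (hδ0 x hx).1 h)
    ⟨sW 1, hsW 1, by rw [hsWδ]; exact one_ne_zero⟩
  have hπ1 : π 1 = 0 := ((hker 1).2 (one_mem _)).1
  let N : Subgroup Q :=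
    { carrier := {x | π x = 0}
      one_mem' := hπ1
      mul_mem' := fun {x y} hx hy => by
        show π (x * y) = 0
        rw [hπm, show π x = 0 from hx, show π y = 0 from hy, add_zero]
      inv_mem' := fun {x} hx => by
        show π x⁻¹ = 0
        have := hπm x x⁻¹
        rw [mul_inv_cancel, hπ1, show π x = 0 from hx, zero_add] at this
        exact this.symm }
  have hNs : ∀ b, ∃ x ∈ N, Λ x = b := by
    intro b
    obtain ⟨x, -, hx⟩ := hΛs b
    refine ⟨sW (π x) * x, ?_, ?_⟩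
    · show π _ = 0
      rw [hπm, hπW _ (hsW _), hsWδ, CharTwo.add_self_eq_zero]
    · rw [hΛm, (hΛ0 _).2 (hsW _), zero_add, hx]
  obtain ⟨-, k2, hk2⟩ := hlin N Λ (fun x hx => by
      show π (D.ρ x) = 0
      rw [hπρ, show π x = 0 from hx, mul_zero])
    (fun x _ y _ => hΛm x y) (fun x _ => hΛρ x) hNs (fun x hx h => (hker x).1 ⟨hx, h⟩)
    (by obtain ⟨x, hx, h⟩ := hNs 1; exact ⟨x, hx, by rw [h]; exact one_ne_zero⟩)
  obtain ⟨β, βl, βr, βθ, hβ⟩ := M.exists_pairing ⊤ (D.W h2) D.C Λ δ M.lg (fun _ _ => trivial)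
    (fun x hx => D.W_rho h2 hx) (fun x _ y _ => hΛm x y) (fun x _ => hΛρ x) hΛs hδm hδρ
    (fun a => ⟨sW a, hsW a, hsWδ a⟩) (fun x _ y _ => hcm x y)
    (fun x hx y hy => M.lg_mul hx hy) (fun x hx => M.lg_rho hx)
    (fun g _ x hx => hconjC g x hx) (fun g _ x hx => hconjC g x hx)
    (fun x _ h y hy => hWW x ((hΛ0 x).1 h) y hy)
    (fun y hy h x _ => by
      rw [← M.lg_inv (hcm x y), commutatorElement_inv, hkC ((hδ0 y hy).1 h)])
  have hβf := pairing_eq_of_generator β M.gen βl βr βθ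
  set k1 := β 1 1 with hk1
  let sr : GaloisField 2 n → GaloisField 2 n := fun a => Classical.choose (SuzukiTwo.exists_sq a)
  have hsr : ∀ a, sr a * sr a = a := fun a => Classical.choose_spec (SuzukiTwo.exists_sq a)
  have huniq : ∀ {a b : GaloisField 2 n}, a * a = b * b → a = b := fun {a b} h => by
    rcases mul_self_eq_mul_self_iff.1 h with h | h
    · exact h
    · rwa [CharTwo.neg_eq] at h
  have hsradd : ∀ a b, sr (a + b) = sr a + sr b := fun a b => huniq (by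
    rw [hsr]; linear_combination -(hsr a) - hsr b -
      CharTwo.add_self_eq_zero (R := GaloisField 2 n) (sr a * sr b))
  have hform : ∀ x, q x = k0 * (sr (π x) * sr (π x)) + k1 * (sr (π x) * sr (Λ x)) +
      k2 * (sr (Λ x) * sr (Λ x)) := by
    intro x
    have hy : π ((sW (π x))⁻¹ * x) = 0 := by
      have e := hπm (sW (π x)) ((sW (π x))⁻¹ * x)
      rw [mul_inv_cancel_left, hπW _ (hsW _), hsWδ, left_eq_add] at e
      exact e
    have hΛy : Λ ((sW (π x))⁻¹ * x) = Λ x := by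
      rw [hΛm, (hΛ0 _).2 (inv_mem (hsW _)), zero_add]
    conv_lhs => rw [← mul_inv_cancel_left (sW (π x)) x]
    rw [hqm, hk0 _ (hsW _), hk2 _ hy, hβ _ trivial _ (hsW _), hsWδ, hΛy]
    conv_lhs => arg 2; rw [← hsr (Λ x), ← hsr (π x), hβf]
    rw [hsr, hsr]
    ring
  have hsr0 : sr 0 = 0 := huniq (by rw [hsr, mul_zero])
  have hsr1 : sr 1 = 1 := huniq (by rw [hsr, mul_one])
  have hk01 : k1 = k0 := by
    obtain ⟨x, hx, hxΛ⟩ := hNs 1
    have hx' : π x = 0 := hx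
    have e : q (D.α x) = q x := by
      show M.lg _ = M.lg _
      rw [← map_mul, D.alpha_C (hflat.sq x)]
    rw [hform, hform, hπα, hΛα, hx', hxΛ, zero_add, hsr1, hsr0] at e
    exact CharTwo.add_eq_zero.1 (by linear_combination e : k1 + k0 = 0)
  have hk00 : k0 ≠ 0 := by
    intro h
    obtain ⟨x, y, hxy⟩ := hnc
    refine hxy (FixedDatum.comm_eq_one.1 ((M.lg_eq_zero (hcm x y)).1 ?_))
    have e := hqm y x
    rw [hform, hform, hform, hπm, hΛm, hsradd, hsradd, hk01, h] at e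
    linear_combination -e +
      k2 * CharTwo.add_self_eq_zero (R := GaloisField 2 n) (sr (Λ x) * sr (Λ y))
  refine ⟨fun x => sr (π x), fun x => sr (Λ x), M.emb, k0, k2 / k0,
    fun x y => by show sr _ = _; rw [hπm, hsradd],
    fun x y => by show sr _ = _; rw [hΛm, hsradd], fun a b => ?_, fun x => ?_,
    M.emb_add, M.emb_inj, fun c g => D.C_central h2 ((M.emb_range _).2 ⟨c, rfl⟩) g, hk00,
    fun x => ?_⟩
  · obtain ⟨y, hy, hyΛ⟩ := hNs (b * b)
    refine ⟨sW (a * a) * y, huniq ?_, huniq ?_⟩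
    · rw [hsr, hπm, hπW _ (hsW _), hsWδ, show π y = 0 from hy, add_zero]
    · rw [hsr, hΛm, (hΛ0 _).2 (hsW _), zero_add, hyΛ]
  · rw [← M.emb_range, ← hker]
    show (sr (π x) = 0 ∧ sr (Λ x) = 0) ↔ _
    refine and_congr ⟨fun h => ?_, fun h => by rw [h, hsr0]⟩ ⟨fun h => ?_, fun h => by rw [h, hsr0]⟩
    · rw [← hsr (π x), h, mul_zero]
    · rw [← hsr (Λ x), h, mul_zero]
  · conv_lhs => rw [← M.emb_lg (hflat.sq x)]
    congr 1
    show q x = _
    rw [hform, hk01]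
    field_simp

end Cfsg.Agent.InvChar
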