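import Cfsg.Agent.InvChar.FixedTransitive

/-!
The structure theorem: class two, squares in the fixed points.
-/

set_option autoImplicit false

namespace Cfsg.Agent.InvChar

open scoped commutatorElement

universe u

namespace FixedDatum

variable {Q : Type u} [Group Q] [Finite Q] {n : ℕ} (D : FixedDatum Q n) (h2 : IsPGroup 2 Q)

omit [Finite Q] in
theorem comm_eq_one {x y : Q} : ⁅x, y⁆ = 1 ↔ x * y = y * x :=
  commutatorElement_eq_one_iff_mul_comm

include h2 in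
/-- The quotient by the fixed points. -/
theorem exists_quot [hN : D.C.Normal] (hn : n ≠ 0) (hne : ∃ x, x ∉ D.C) :
    ∃ D' : FixedDatum (Q ⧸ D.C) n,
      (∀ x : Q, D'.α (x : Q ⧸ D.C) = (D.α x : Q)) ∧
      (∀ x : Q, (x : Q ⧸ D.C) ∈ D'.C ↔ x ∈ D.W h2) ∧
      (∀ x : Q, D'.ρ (x : Q ⧸ D.C) = (D.ρ x : Q)) := by
  classical
  obtain ⟨M⟩ := D.exists_model hn
  have hmapα : D.C.map (D.α.toMonoidHom) = D.C := by
    ext x
    constructor
    · rintro ⟨y, hy, rfl⟩
      show D.α y ∈ D.C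
      rw [D.alpha_C hy]; exact hy
    · exact fun hx => ⟨x, hx, D.alpha_C hx⟩
  have hmapρ : D.C.map (D.ρ.toMonoidHom) = D.C := by
    refine Subgroup.eq_of_le_of_card_ge ?_ ?_
    · rintro _ ⟨y, hy, rfl⟩
      exact D.rho_C hy
    · rw [Subgroup.card_map_of_injective D.ρ.injective]
  let a : MulAut (Q ⧸ D.C) := QuotientGroup.congr D.C D.C D.α hmapα
  let r : MulAut (Q ⧸ D.C) := QuotientGroup.congr D.C D.C D.ρ hmapρ
  have ha : ∀ x : Q, a (x : Q ⧸ D.C) = (D.α x : Q) := fun x => rfl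
  have hr : ∀ x : Q, r (x : Q ⧸ D.C) = (D.ρ x : Q) := fun x => rfl
  have hrk : ∀ (k : ℕ) (x : Q), (r ^ k) (x : Q ⧸ D.C) = ((D.ρ ^ k) x : Q) := by
    intro k
    induction k with
    | zero => exact fun x => rfl
    | succ k ih => intro x; rw [pow_succ, pow_succ, MulAut.mul_apply, MulAut.mul_apply, hr, ih]
  let C' := (D.W h2).map (QuotientGroup.mk' D.C)
  have hC' : ∀ x : Q, (x : Q ⧸ D.C) ∈ C' ↔ x ∈ D.W h2 := by
    intro x
    refine ⟨?_, fun h => ⟨x, h, rfl⟩⟩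
    rintro ⟨w, hw, he⟩
    have h1 : w⁻¹ * x ∈ D.C := QuotientGroup.eq.1 he
    have := mul_mem hw (D.C_le_W h2 h1)
    rwa [mul_inv_cancel_left] at this
  -- the derivative identifies `W / C` with the fixed points
  let δ : Q → GaloisField 2 n := fun x => M.lg (D.d x)
  have hδρ : ∀ x ∈ D.W h2, δ (D.ρ x) = M.θ * δ x := fun x hx => by
    show M.lg _ = _
    rw [d_rho, M.lg_rho hx]
  have hδ1 : δ 1 = 0 := by simp [δ, d, M.lg_one]
  have hδC : ∀ x ∈ D.W h2, (δ x = 0 ↔ x ∈ D.C) := fun x hx => by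
    rw [M.lg_eq_zero hx, D.d_eq_one]
  have hex : ∃ x ∈ D.W h2, δ x ≠ 0 := by
    obtain ⟨x₀, hx₀⟩ := hne
    haveI : Nontrivial (Q ⧸ D.C) := ⟨⟨x₀, 1, fun h => hx₀ ((QuotientGroup.eq_one_iff _).1 h)⟩⟩
    obtain ⟨y, hy1, hy⟩ := exists_fixed (h2.to_quotient D.C) inferInstance a fun x => by
      obtain ⟨x, rfl⟩ := QuotientGroup.mk_surjective x
      rw [ha, ha, D.αα]
    obtain ⟨x, rfl⟩ := QuotientGroup.mk_surjective y
    rw [ha] at hy
    have hxW : D.d x ∈ D.C := QuotientGroup.eq.1 hy.symm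
    exact ⟨x, hxW, fun h => hy1 ((QuotientGroup.eq_one_iff _).2 ((hδC x hxW).1 h))⟩
  have hsurj := M.surj_of_equivariant (fun x hx => D.W_rho h2 hx) hδρ hδ1 hex
  have heq : ∀ x ∈ D.W h2, ∀ y ∈ D.W h2, δ x = δ y → (x : Q ⧸ D.C) = y := by
    intro x hx y hy h
    refine QuotientGroup.eq.2 ((hδC _ (mul_mem (inv_mem hx) hy)).1 ?_)
    have e : δ (x * (x⁻¹ * y)) = δ x + δ (x⁻¹ * y) := by
      show M.lg _ = _
      rw [D.d_W_mul h2 hx, M.lg_mul hx (mul_mem (inv_mem hx) hy : x⁻¹ * y ∈ D.W h2)]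
    rw [mul_inv_cancel_left, ← h, left_eq_add] at e
    exact e
  refine ⟨⟨a, r, C', fun x => ?_, fun x => ?_, fun x => ?_, ?_, ?_, ?_, ?_⟩, ha, hC', hr⟩
  · obtain ⟨x, rfl⟩ := QuotientGroup.mk_surjective x
    rw [ha, ha, D.αα]
  · obtain ⟨x, rfl⟩ := QuotientGroup.mk_surjective x
    rw [hr, ha, ha, hr, D.comm]
  · obtain ⟨x, rfl⟩ := QuotientGroup.mk_surjective x
    rw [hC', ha, eq_comm, QuotientGroup.eq]
    rfl
  · rintro _ ⟨w, hw, rfl⟩
    rw [← map_mul]
    refine (QuotientGroup.eq_one_iff _).2 ((hδC _ (mul_mem hw hw)).1 ?_)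
    show M.lg _ = 0
    rw [D.d_W_mul h2 hw, M.lg_mul hw hw, CharTwo.add_self_eq_zero]
  · choose s hs hsδ using hsurj
    haveI : Fintype (GaloisField 2 n) := Fintype.ofFinite _
    rw [← GaloisField.card 2 n hn]
    refine (Nat.card_eq_of_bijective
      (fun c => (⟨(s c : Q ⧸ D.C), (hC' _).2 (hs c)⟩ : C')) ⟨fun c c' h => ?_, ?_⟩).symm
    · have h' : ((s c : Q) : Q ⧸ D.C) = s c' := congrArg Subtype.val h
      have h1 : (s c)⁻¹ * s c' ∈ D.C := QuotientGroup.eq.1 h'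
      have e : δ (s c * ((s c)⁻¹ * s c')) = δ (s c) + δ ((s c)⁻¹ * s c') := by
        show M.lg _ = _
        rw [D.d_W_mul h2 (hs c), M.lg_mul (hs c) (D.C_le_W h2 h1)]
      rw [mul_inv_cancel_left, (hδC _ (D.C_le_W h2 h1)).2 h1, add_zero, hsδ, hsδ] at e
      exact e.symm
    · rintro ⟨_, w, hw, rfl⟩
      exact ⟨δ w, Subtype.ext (heq _ (hs _) _ hw (hsδ _))⟩
  · intro x y hx hy hx1 hy1
    obtain ⟨x, rfl⟩ := QuotientGroup.mk_surjective x
    obtain ⟨y, rfl⟩ := QuotientGroup.mk_surjective y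
    rw [hC'] at hx hy
    have hne' : ∀ {z : Q}, z ∈ D.W h2 → (z : Q ⧸ D.C) ≠ 1 → D.d z ≠ 1 := fun {z} hz h he =>
      h ((QuotientGroup.eq_one_iff _).2 (D.d_eq_one.1 he))
    obtain ⟨k, hk⟩ := D.trans (D.d x) (D.d y) hx hy (hne' hx hx1) (hne' hy hy1)
    refine ⟨k, (hrk k x).trans (heq _ (D.rho_pow_mem (fun z hz => D.W_rho h2 hz) k hx) _ hy ?_)⟩
    show M.lg _ = M.lg _
    rw [← hk]
    congr 1
    clear hk
    induction k with
    | zero => rfl
    | succ k ih => rw [pow_succ', MulAut.mul_apply, d_rho, ih]; rfl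
  · refine MulEquiv.ext fun x => ?_
    obtain ⟨x, rfl⟩ := QuotientGroup.mk_surjective x
    rw [hrk, D.period]
    rfl

include h2 in
/-- If `α` inverts `Q` modulo `C` then `Q` is abelian. -/
theorem abelian_of_inverted (hn : n ≠ 0) (hcomm : ∀ x y : Q, ⁅x, y⁆ ∈ D.C)
    (hinv : ∀ x, x * D.α x ∈ D.C) (x y : Q) : x * y = y * x := by
  classical
  haveI hN : D.C.Normal := ⟨fun c hc g => by rwa [D.C_central h2 hc g, mul_inv_cancel_right]⟩
  obtain ⟨M⟩ := D.exists_model hn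
  haveI : Fintype (GaloisField 2 n) := Fintype.ofFinite _
  have hsqW : ∀ z, z ∈ D.W h2 ↔ z * z ∈ D.C := by
    intro z
    have h1 := hinv z
    rw [D.alpha_eq z, ← mul_assoc] at h1
    rw [D.mem_W]
    exact ⟨fun h => (mul_mem_cancel_right h).1 h1, fun h => (mul_mem_cancel_left h).1 h1⟩
  by_cases hall : ∀ z, z ∈ D.C
  · exact D.C_comm (hall x) (hall y)
  push Not at hall
  obtain ⟨z₀, hz₀⟩ := hall
  have hP : ∃ j : ℕ, ∀ z : Q, z ^ 2 ^ j ∈ D.C := by
    obtain ⟨K, hK⟩ := IsPGroup.iff_card.1 h2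
    exact ⟨K, fun z => by rw [← hK, pow_card_eq_one']; exact one_mem _⟩
  obtain ⟨j, hj, hmin⟩ : ∃ j, (∀ z : Q, z ^ 2 ^ (j + 1) ∈ D.C) ∧ ∃ z : Q, z ^ 2 ^ j ∉ D.C := by
    have h0 : Nat.find hP ≠ 0 := fun h => hz₀ (by
      have := Nat.find_spec hP z₀; rwa [h, pow_zero, pow_one] at this)
    refine ⟨Nat.find hP - 1, fun z => ?_, ?_⟩
    · rw [Nat.sub_add_cancel (Nat.one_le_iff_ne_zero.2 h0)]; exact Nat.find_spec hP z
    · have := Nat.find_min hP (show Nat.find hP - 1 < Nat.find hP by omega)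
      push Not at this
      exact this
  have hW : ∀ z : Q, z ^ 2 ^ j ∈ D.W h2 := fun z => by
    rw [hsqW, ← pow_add, ← two_mul, ← pow_succ']; exact hj z
  let μ : Q → GaloisField 2 n := fun z => M.lg (D.d (z ^ 2 ^ j))
  let A := Q ⧸ D.C
  letI : CommGroup A :=
    { (inferInstance : Group A) with
      mul_comm := fun a b => by
        obtain ⟨a, rfl⟩ := QuotientGroup.mk_surjective a
        obtain ⟨b, rfl⟩ := QuotientGroup.mk_surjective b
        rw [← QuotientGroup.mk_mul, ← QuotientGroup.mk_mul, QuotientGroup.eq]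
        have := hcomm b⁻¹ a⁻¹
        simpa [commutatorElement_def, mul_assoc] using this }
  have hμeq : ∀ u v : Q, u ∈ D.W h2 → (u : A) = v → M.lg (D.d u) = M.lg (D.d v) := by
    intro u v hu h
    have h1 : u⁻¹ * v ∈ D.C := QuotientGroup.eq.1 h
    have e : D.d (u * (u⁻¹ * v)) = D.d u * D.d (u⁻¹ * v) := D.d_W_mul h2 hu
    rw [mul_inv_cancel_left, D.d_eq_one.2 h1, mul_one] at e
    rw [e]
  have hμm : ∀ u v : Q, μ (u * v) = μ u + μ v := by
    intro u v
    have e : ((((u * v) ^ 2 ^ j : Q)) : A) = ((u ^ 2 ^ j * v ^ 2 ^ j : Q) : A) := by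
      simp only [QuotientGroup.mk_pow, QuotientGroup.mk_mul, mul_pow]
    show M.lg _ = _
    rw [hμeq _ _ (hW _) e, D.d_W_mul h2 (hW u), M.lg_mul (hW u) (hW v)]
  have hμρ : ∀ u, μ (D.ρ u) = M.θ * μ u := fun u => by
    show M.lg _ = _
    rw [← map_pow, d_rho, M.lg_rho (hW u)]
  have hμC : ∀ c ∈ D.C, μ c = 0 := fun c hc => by
    show M.lg _ = 0
    rw [D.d_eq_one.2 (pow_mem hc _), M.lg_one]
  have hex : ∃ u ∈ (⊤ : Subgroup Q), μ u ≠ 0 := by
    obtain ⟨u, hu⟩ := hmin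
    exact ⟨u, trivial, fun h => hu (D.d_eq_one.1 ((M.lg_eq_zero (hW u)).1 h))⟩
  -- the kernel of `μ` consists of squares modulo `C`
  have hker : ∀ u, μ u = 0 → ∃ v, (v * v)⁻¹ * u ∈ D.C := by
    let μA : A →* Multiplicative (GaloisField 2 n) := QuotientGroup.lift D.C
      (MonoidHom.mk' (fun u => Multiplicative.ofAdd (μ u)) fun u v => by rw [hμm]; rfl)
      (fun c hc => MonoidHom.mem_ker.2 (by
        show Multiplicative.ofAdd (μ c) = 1
        rw [hμC c hc]; rfl))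
    let sq : A →* A := powMonoidHom 2
    have hle : sq.range ≤ μA.ker := by
      rintro _ ⟨a, rfl⟩
      rw [MonoidHom.mem_ker]
      show μA (a ^ 2) = 1
      rw [map_pow, pow_two]
      exact Multiplicative.toAdd.injective (CharTwo.add_self_eq_zero _)
    have hμsurj : μA.range = ⊤ := by
      refine eq_top_iff.2 fun c _ => ?_
      obtain ⟨u, -, hu⟩ := M.surj_of_equivariant (fun z _ => Subgroup.mem_top (D.ρ z))
        (fun z _ => hμρ z) (hμC 1 (one_mem _)) hex c.toAdd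
      exact ⟨(u : A), congrArg Multiplicative.ofAdd hu⟩
    have hsqker : Nat.card sq.ker ≤ 2 ^ n := by
      obtain ⟨D', -, hC', -⟩ := D.exists_quot h2 hn ⟨z₀, hz₀⟩
      rw [← D'.cardC]
      refine Subgroup.card_le_of_le fun a ha => ?_
      obtain ⟨a, rfl⟩ := QuotientGroup.mk_surjective a
      rw [hC', hsqW]
      rw [MonoidHom.mem_ker] at ha
      have ha' : ((a : A)) ^ 2 = 1 := ha
      rw [pow_two, ← QuotientGroup.mk_mul, QuotientGroup.eq_one_iff] at ha'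
      exact ha'
    have h1 : Nat.card μA.ker * 2 ^ n = Nat.card A := by
      have : μA.ker.index = 2 ^ n := by
        rw [Subgroup.index_ker, hμsurj, Subgroup.card_top, Nat.card_congr Multiplicative.toAdd,
          GaloisField.card 2 n hn]
      rw [← this, Subgroup.card_mul_index]
    have h2' : Nat.card sq.ker * Nat.card sq.range = Nat.card A := by
      rw [← Subgroup.index_ker, Subgroup.card_mul_index]
    have heq : sq.range = μA.ker := by
      refine Subgroup.eq_of_le_of_card_ge hle (Nat.le_of_mul_le_mul_right (c := 2 ^ n) ?_ (by positivity))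
      rw [h1, ← h2', mul_comm (Nat.card sq.ker)]
      exact Nat.mul_le_mul_left _ hsqker
    intro u hu
    have : (u : A) ∈ μA.ker := MonoidHom.mem_ker.2 (congrArg Multiplicative.ofAdd hu)
    rw [← heq] at this
    obtain ⟨a, ha⟩ := this
    obtain ⟨v, rfl⟩ := QuotientGroup.mk_surjective a
    refine ⟨v, QuotientGroup.eq.1 ?_⟩
    rw [QuotientGroup.mk_mul, ← pow_two]
    exact ha
  rw [← comm_eq_one, ← M.lg_eq_zero (hcomm x y)]
  refine M.pairing_vanish ⊤ D.C μ M.lg (fun _ _ => trivial) (fun u _ v _ => hμm u v)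
    (fun u _ => hμρ u) hex (fun u _ v _ => hcomm u v) (fun u hu v hv => M.lg_mul hu hv)
    (fun u hu => M.lg_rho hu) (fun g _ u hu => ?_) (fun u _ hu v _ => ?_) x trivial y trivial
  · rw [D.C_central h2 hu g, mul_inv_cancel_right]; exact ⟨hu, rfl⟩
  · obtain ⟨w, hw⟩ := hker u hu
    have e : ⁅u, v⁆ = ⁅w * w, v⁆ := by
      conv_lhs => rw [← mul_inv_cancel_left (w * w) u]
      set c := (w * w)⁻¹ * u
      simp only [commutatorElement_def, mul_inv_rev]
      rw [mul_assoc (w * w) c v, ← D.C_central h2 hw v, ← mul_assoc (w * w) v c,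
        mul_assoc (w * w * v) c, mul_inv_cancel_left]
    have e2 : ⁅w * w, v⁆ = w * ⁅w, v⁆ * w⁻¹ * ⁅w, v⁆ := by simp only [commutatorElement_def]; group
    rw [e, e2, D.C_central h2 (hcomm w v) w, mul_inv_cancel_right, D.sqC _ (hcomm w v), M.lg_one]

end FixedDatum

end Cfsg.Agent.InvChar
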