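import Cfsg.Agent.InvChar.CentralSquareIso
import Cfsg.Agent.TwoFusionB.SU3Ext
import Cfsg.Agent.Lib.Unitary.Center
import Cfsg.Agent.Lib.LinearGroup.Card
import Cfsg.Agent.Lib.SuzukiTwo.Algebra

/-!
Groups whose squaring map is `k (u² + u v + ε v²)` are Sylow 2-subgroups of `PSL₃(q)` or `PSU₃(q)`.
-/

set_option autoImplicit false

namespace Cfsg.Agent.InvChar

open Matrix

variable {Q : Type*} [Group Q] [Finite Q] {F : Type} [Field F] [Fintype F] [CharP F 2]
  {u v : Q → F} {emb : F → Q} {k ε : F}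

/-- The data of a quadratic squaring map. -/
structure SquareForm (u v : Q → F) (emb : F → Q) (k ε : F) : Prop where
  hu : ∀ x y, u (x * y) = u x + u y
  hv : ∀ x y, v (x * y) = v x + v y
  surj : ∀ a b, ∃ x, u x = a ∧ v x = b
  ker : ∀ x, (u x = 0 ∧ v x = 0) ↔ ∃ c, emb c = x
  add : ∀ a b, emb (a + b) = emb a * emb b
  inj : Function.Injective emb
  cent : ∀ c g, g * emb c = emb c * g
  k_ne : k ≠ 0
  sq : ∀ x, x * x = emb (k * (u x * u x + u x * v x + ε * (v x * v x)))

/-- A triangular unipotent matrix. -/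
def triMat (a b c : F) : SpecialLinearGroup (Fin 3) F :=
  ⟨!![1, a, c; 0, 1, b; 0, 0, 1], by simp [Matrix.det_fin_three]⟩

omit [Fintype F] [CharP F 2] in
theorem triMat_mul (a b c a' b' c' : F) :
    triMat a b c * triMat a' b' c' = triMat (a + a') (b + b') (c + c' + a * b') := by
  apply Subtype.ext
  show _ * _ = (triMat (a + a') (b + b') (c + c' + a * b')).1
  simp only [triMat]
  ext i j
  fin_cases i <;> fin_cases j <;> simp [Matrix.mul_apply, Fin.sum_univ_three] <;> ring

omit [Fintype F] [CharP F 2] in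
theorem triMat_inj {a b c a' b' c' : F} (h : triMat a b c = triMat a' b' c') :
    a = a' ∧ b = b' ∧ c = c' := by
  have h' := congrArg (fun g : SpecialLinearGroup (Fin 3) F => (g : Matrix (Fin 3) (Fin 3) F)) h
  exact ⟨congrFun (congrFun h' 0) 1, congrFun (congrFun h' 1) 2, congrFun (congrFun h' 0) 2⟩

omit [Fintype F] [CharP F 2] in
theorem triMat_zero : triMat (0 : F) 0 0 = 1 := by
  apply Subtype.ext
  ext i j
  fin_cases i <;> fin_cases j <;> simp [triMat]

/-- The unitriangular subgroup. -/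
def triGroup (F : Type) [Field F] : Subgroup (SpecialLinearGroup (Fin 3) F) where
  carrier := {g | ∃ a b c, g = triMat a b c}
  one_mem' := ⟨0, 0, 0, triMat_zero.symm⟩
  mul_mem' := by
    rintro _ _ ⟨a, b, c, rfl⟩ ⟨a', b', c', rfl⟩
    exact ⟨_, _, _, triMat_mul a b c a' b' c'⟩
  inv_mem' := by
    rintro _ ⟨a, b, c, rfl⟩
    refine ⟨-a, -b, a * b - c, inv_eq_of_mul_eq_one_right ?_⟩
    rw [triMat_mul, ← triMat_zero]
    congr 1 <;> ring

theorem SquareForm.psl (hS : SquareForm u v emb k ε) (r : F) (hr : r * r + r = ε) :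
    ∃ S : Sylow 2 (ProjectiveSpecialLinearGroup (Fin 3) F),
      Nonempty (Q ≃* ↥(S : Subgroup (ProjectiveSpecialLinearGroup (Fin 3) F))) := by
  classical
  haveI : Fact (Nat.Prime 2) := ⟨Nat.prime_two⟩
  choose pa pb pc hp using fun x : triGroup F => x.2
  let mk : F → F → F → triGroup F := fun a b c => ⟨triMat a b c, a, b, c, rfl⟩
  have huniq : ∀ (x : triGroup F) a b c, (x : SpecialLinearGroup (Fin 3) F) = triMat a b c →
      pa x = a ∧ pb x = b ∧ pc x = c := fun x a b c h => triMat_inj ((hp x).symm.trans h)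
  have hval : ∀ x, x = mk (pa x) (pb x) (pc x) := fun x => Subtype.ext (hp x)
  have hmul : ∀ x y : triGroup F, pa (x * y) = pa x + pa y ∧ pb (x * y) = pb x + pb y ∧
      pc (x * y) = pc x + pc y + pa x * pb y := fun x y => huniq _ _ _ _ (by
    rw [Subgroup.coe_mul, hp x, hp y, triMat_mul])
  let cA : triGroup F → F × F := fun x => (pa x, pb x)
  let eA : F → triGroup F := fun c => mk 0 0 c
  let cP : Q → F × F := fun x => (u x + r * v x, u x + r * v x + v x)
  let eP : F → Q := fun c => emb (k * c)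
  obtain ⟨f, -⟩ := exists_iso_over_squares cP cA eP eA
    (fun x y => by
      simp only [cP, hS.hu, hS.hv, Prod.mk_add_mk]
      exact Prod.ext (by ring) (by ring))
    (fun x y => Prod.ext (hmul x y).1 (hmul x y).2.1)
    (fun p => by
      obtain ⟨x, hxu, hxv⟩ := hS.surj (p.1 + r * (p.1 + p.2)) (p.1 + p.2)
      refine ⟨x, Prod.ext ?_ ?_⟩
      · show u x + r * v x = p.1
        rw [hxu, hxv, add_assoc, CharTwo.add_self_eq_zero, add_zero]
      · show u x + r * v x + v x = p.2
        rw [hxu, hxv, add_assoc p.1, CharTwo.add_self_eq_zero, add_zero, CharTwo.add_cancel_left])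
    (fun p => ⟨mk p.1 p.2 0, Prod.ext (huniq _ _ _ _ rfl).1 (huniq _ _ _ _ rfl).2.1⟩)
    (fun x => by
      constructor
      · intro h
        have h1 : u x + r * v x = 0 := congrArg Prod.fst h
        have h2 : u x + r * v x + v x = 0 := congrArg Prod.snd h
        rw [h1, zero_add] at h2
        rw [h2, mul_zero, add_zero] at h1
        obtain ⟨c, rfl⟩ := (hS.ker x).1 ⟨h1, h2⟩
        exact ⟨c / k, by simp only [eP]; rw [mul_div_cancel₀ _ hS.k_ne]⟩
      · rintro ⟨c, rfl⟩
        obtain ⟨h1, h2⟩ := (hS.ker (eP c)).2 ⟨k * c, rfl⟩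
        simp [cP, h1, h2])
    (fun x => by
      constructor
      · intro h
        refine ⟨pc x, ?_⟩
        simp only [eA]
        conv_rhs => rw [hval x, show pa x = 0 from congrArg Prod.fst h,
          show pb x = 0 from congrArg Prod.snd h]
      · rintro ⟨c, rfl⟩
        exact Prod.ext (huniq _ _ _ _ rfl).1 (huniq _ _ _ _ rfl).2.1)
    (fun a b => by simp only [eP, mul_add, hS.add])
    (fun a b => Subtype.ext (by
      show triMat 0 0 _ = triMat 0 0 _ * triMat 0 0 _
      rw [triMat_mul]; simp))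
    (fun a b h => mul_left_cancel₀ hS.k_ne (hS.inj h))
    (fun a b h => (triMat_inj (congrArg Subtype.val h)).2.2)
    (fun c g => hS.cent _ g)
    (fun c g => Subtype.ext (by
      rw [Subgroup.coe_mul, Subgroup.coe_mul, hp g]
      show triMat _ _ _ * triMat 0 0 _ = triMat 0 0 _ * triMat _ _ _
      rw [triMat_mul, triMat_mul]
      congr 1 <;> ring))
    (fun p => p.1 * p.2)
    (fun x => by
      rw [hS.sq]
      show emb _ = emb (k * ((u x + r * v x) * (u x + r * v x + v x)))
      congr 2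
      rw [← hr]
      linear_combination -(CharTwo.add_self_eq_zero (R := F) (r * u x * v x)))
    (fun x => Subtype.ext (by
      rw [Subgroup.coe_mul, hp x, triMat_mul]
      show _ = triMat 0 0 (pa x * pb x)
      congr 1
      · exact CharTwo.add_self_eq_zero _
      · exact CharTwo.add_self_eq_zero _
      · rw [CharTwo.add_self_eq_zero, zero_add]))
  let π : triGroup F →* ProjectiveSpecialLinearGroup (Fin 3) F :=
    (QuotientGroup.mk' (Subgroup.center (SpecialLinearGroup (Fin 3) F))).comp (triGroup F).subtype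
  have hinj : Function.Injective π := by
    rw [injective_iff_map_eq_one]
    intro x hx
    obtain ⟨s, -, hs⟩ := Matrix.SpecialLinearGroup.mem_center_iff.mp
      ((QuotientGroup.eq_one_iff _).mp hx : (x : SpecialLinearGroup (Fin 3) F) ∈ _)
    rw [hp x] at hs
    have h01 := congrFun (congrFun hs 0) 1
    have h02 := congrFun (congrFun hs 0) 2
    have h12 := congrFun (congrFun hs 1) 2
    simp [Matrix.scalar_apply, triMat] at h01 h02 h12
    refine Subtype.ext ?_
    rw [hp x, ← h01, ← h02, ← h12]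
    exact triMat_zero
  set q := Nat.card F with hq
  have hcard : Nat.card π.range = q ^ 3 := by
    rw [← Nat.card_congr (MonoidHom.ofInjective hinj).toEquiv]
    let g : F × F × F → triGroup F := fun p => mk p.1 p.2.1 p.2.2
    have hg : Function.Bijective g := ⟨fun p p' h => by
      obtain ⟨h1, h2, h3⟩ := triMat_inj (congrArg Subtype.val h)
      exact Prod.ext h1 (Prod.ext h2 h3), fun x => ⟨(pa x, pb x, pc x), (hval x).symm⟩⟩
    rw [← Nat.card_eq_of_bijective g hg, Nat.card_prod, Nat.card_prod]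
    ring
  obtain ⟨m, hm⟩ : ∃ m, q = 2 ^ m := by
    obtain ⟨m, -, hm⟩ := FiniteField.card F 2
    exact ⟨m, by rw [hq, Nat.card_eq_fintype_card, hm]⟩
  have hq2 : 2 ≤ q := Finite.one_lt_card
  obtain ⟨S, hSle⟩ := (IsPGroup.of_card (n := m * 3) (by rw [hcard, hm, ← pow_mul])).exists_le_sylow
  have hev : Even q := by
    rw [hm]; refine Nat.even_pow.2 ⟨even_two, fun e => ?_⟩
    rw [e, pow_zero] at hm; omega
  have hSd : Nat.card (S : Subgroup (ProjectiveSpecialLinearGroup (Fin 3) F)) ∣ q ^ 3 := by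
    obtain ⟨j, hj⟩ := IsPGroup.iff_card.1 S.isPGroup'
    have h1 : Nat.card (S : Subgroup (ProjectiveSpecialLinearGroup (Fin 3) F)) ∣
        Nat.card (SpecialLinearGroup (Fin 3) F) :=
      (Subgroup.card_subgroup_dvd_card _).trans (Subgroup.card_quotient_dvd_card _)
    rw [LinearGroup.card_SL_eq_pow_mul_prod (F := F) 2, ← hq, Fin.sum_univ_three] at h1
    refine Nat.Coprime.dvd_of_dvd_mul_right ?_ h1
    rw [hj]
    refine Nat.Coprime.pow_left _ (Nat.coprime_two_left.2 ?_)
    have ho : ∀ i : ℕ, Odd (q ^ (i + 2) - 1) := fun i => Nat.Even.sub_odd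
      (Nat.one_le_pow _ _ (by omega)) (Nat.even_pow.2 ⟨hev, by omega⟩) odd_one
    simp only [Finset.prod_range_succ, Finset.prod_range_zero, one_mul]
    exact (ho 0).mul (ho 1)
  refine ⟨S, ⟨(f.trans (MonoidHom.ofInjective hinj)).trans (MulEquiv.subgroupCongr
    (Subgroup.eq_of_le_of_card_ge hSle ?_))⟩⟩
  rw [hcard]
  exact Nat.le_of_dvd (pow_pos (by omega) _) hSd

end Cfsg.Agent.InvChar
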