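import Cfsg.Agent.InvChar.FormModels

/-!
The anisotropic case: `PSU₃(q)`.
-/

set_option autoImplicit false

namespace Cfsg.Agent.InvChar

open Cfsg.Agent.TwoFusionB Polynomial

variable {Q : Type*} [Group Q] [Finite Q] {F : Type} [Field F] [Fintype F] [CharP F 2]
  {u v : Q → F} {emb : F → Q} {k ε : F}

theorem SquareForm.psu (hS : SquareForm u v emb k ε) {n : ℕ} (hn : 1 ≤ n)
    (hF : Fintype.card F = 2 ^ n) (hnr : ∀ r : F, r * r + r ≠ ε) :
    ∃ (E : Type) (_ : Field E) (_ : Fintype E), Fintype.card E = 4 ^ n ∧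
      ∃ S : Sylow 2 (Cfsg.PSU 3 E (2 ^ n)),
        Nonempty (Q ≃* ↥(S : Subgroup (Cfsg.PSU 3 E (2 ^ n)))) := by
  classical
  haveI : Fact (Nat.Prime 2) := ⟨Nat.prime_two⟩
  let p : F[X] := X ^ 2 + X + C ε
  have hdeg : p.natDegree = 2 := by simp only [p]; compute_degree!
  have hp : p.Monic := by simp only [p]; monicity!
  haveI hirr : Fact (Irreducible p) := ⟨by
    rw [irreducible_iff_roots_eq_zero_of_degree_le_three (by omega) (by omega)]
    refine Multiset.eq_zero_of_forall_notMem fun r hr => hnr r ?_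
    have h0 := isRoot_of_mem_roots hr
    simp only [p, IsRoot.def, eval_add, eval_pow, eval_X, eval_C] at h0
    linear_combination h0 - CharTwo.add_self_eq_zero (R := F) ε⟩
  let E := AdjoinRoot p
  let pb := AdjoinRoot.powerBasis hp.ne_zero
  haveI : Module.Finite F E := pb.finite
  haveI : Finite E := Module.finite_of_finite F
  letI : Fintype E := Fintype.ofFinite E
  have hrank : Module.finrank F E = 2 := by
    rw [pb.finrank, AdjoinRoot.powerBasis_dim, hdeg]
  have hE : Fintype.card E = (2 ^ n) ^ 2 := by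
    rw [← Nat.card_eq_fintype_card, Module.natCard_eq_pow_finrank (K := F), hrank,
      Nat.card_eq_fintype_card, hF]
  haveI : CharP E 2 := charP_of_injective_algebraMap (algebraMap F E).injective 2
  refine ⟨E, inferInstance, inferInstance, by rw [hE, ← pow_mul, mul_comm, pow_mul]; norm_num, ?_⟩
  set q := 2 ^ n with hq
  let e : F →+* E := algebraMap F E
  let ω : E := AdjoinRoot.root p
  have hω : ω * ω + ω = e ε := by
    have h0 := AdjoinRoot.eval₂_root p
    simp only [p, eval₂_add, eval₂_X_pow, eval₂_X, eval₂_C] at h0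
    rw [← AdjoinRoot.algebraMap_eq] at h0
    linear_combination h0 - CharTwo.add_self_eq_zero (R := E) (e ε)
  have heq : ∀ x, e x ^ q = e x := fun x => by
    rw [← map_pow, ← hF, FiniteField.pow_card]
  have hKsurj : ∀ y : E, y ^ q = y → ∃ x, e x = y := by
    have hb : Function.Bijective (fun x : F => (⟨e x, heq x⟩ : {y : E // y ^ q = y})) := by
      refine (Nat.bijective_iff_injective_and_card _).2
        ⟨fun a b h => e.injective (congrArg Subtype.val h), ?_⟩
      rw [Unitary.card_fixed hE, Nat.card_eq_fintype_card, hF]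
    intro y hy
    obtain ⟨x, hx⟩ := hb.2 ⟨y, hy⟩
    exact ⟨x, congrArg Subtype.val hx⟩
  have hωK : ω ^ q ≠ ω := fun h => by
    obtain ⟨x, hx⟩ := hKsurj ω h
    exact hnr x (e.injective (by rw [map_add, map_mul, hx, hω]))
  have hωq : ω ^ q = ω + 1 := by
    have h1 : (ω * ω + ω) ^ q = e ε := by rw [hω, heq]
    rw [Unitary.add_pow_q hE, mul_pow, ← hω] at h1
    have h2 : (ω ^ q + ω) * (ω ^ q + ω + 1) = 0 := by
      linear_combination h1 + (ω ^ q + 1) * CharTwo.add_self_eq_zero (R := E) ω +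
        CharTwo.add_self_eq_zero (R := E) (ω * ω)
    rcases mul_eq_zero.1 h2 with h | h
    · exact absurd (CharTwo.add_eq_zero.1 h) hωK
    · rw [add_assoc] at h; exact CharTwo.add_eq_zero.1 h
  obtain ⟨P, φ, ι, ν, hM, -⟩ := exists_hModel hE hn rfl
  let cP : Q → E := fun x => e (u x) + e (v x) * ω
  have hnorm : ∀ x, cP x * cP x ^ q = e (u x * u x + u x * v x + ε * (v x * v x)) := by
    intro x
    show (_ + _) * (_ + _) ^ q = _
    rw [Unitary.add_pow_q hE, mul_pow, heq, heq, hωq]
    simp only [map_add, map_mul, ← hω]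
    linear_combination CharTwo.add_self_eq_zero (R := E) (e (u x) * e (v x) * ω)
  have hinvF : ∀ y : F, Function.invFun e (e y) = y := Function.leftInverse_invFun e.injective
  obtain ⟨f, -⟩ := exists_iso_over_squares cP φ (fun c : F => emb (k * c))
    (fun c : F => ι (ν * e c))
    (fun x y => by simp only [cP, hS.hu, hS.hv, map_add]; ring)
    hM.φ_mul
    (fun y => by
      obtain ⟨b, hb⟩ := hKsurj (y + y ^ q) (by
        rw [Unitary.add_pow_q hE, Unitary.pow_q_pow_q hE, add_comm])
      obtain ⟨a, ha⟩ := hKsurj (y + e b * ω) (by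
        rw [Unitary.add_pow_q hE, mul_pow, heq, hωq]
        linear_combination -hb + CharTwo.add_self_eq_zero (R := E) (e b) -
          CharTwo.add_self_eq_zero (R := E) y)
      obtain ⟨x, hxu, hxv⟩ := hS.surj a b
      exact ⟨x, by simp only [cP, hxu, hxv, ha, add_assoc, CharTwo.add_self_eq_zero, add_zero]⟩)
    hM.φ_surj
    (fun x => by
      constructor
      · intro h
        have hv0 : v x = 0 := by
          by_contra hne
          obtain hω' : ω = e (u x / v x) := by
            rw [map_div₀, eq_div_iff ((map_ne_zero e).2 hne), mul_comm]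
            exact (CharTwo.add_eq_zero.1 h).symm
          exact hωK (by rw [hω', heq])
        have hu0 : u x = 0 := by
          simp only [cP, hv0, map_zero, zero_mul, add_zero] at h
          exact (map_eq_zero e).1 h
        obtain ⟨c, rfl⟩ := (hS.ker x).1 ⟨hu0, hv0⟩
        exact ⟨c / k, by rw [mul_div_cancel₀ _ hS.k_ne]⟩
      · rintro ⟨c, rfl⟩
        obtain ⟨h1, h2⟩ := (hS.ker (emb (k * c))).2 ⟨k * c, rfl⟩
        simp [cP, h1, h2])
    (fun x => by
      rw [hM.φ_zero]
      constructor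
      · rintro ⟨c, hc, rfl⟩
        obtain ⟨d, hd⟩ := hKsurj (c / ν) (by rw [div_pow, hc, hM.ν_fix])
        exact ⟨d, by rw [hd, mul_div_cancel₀ _ hM.ν_ne]⟩
      · rintro ⟨c, rfl⟩
        exact ⟨_, by rw [mul_pow, hM.ν_fix, heq], rfl⟩)
    (fun a b => by simp only [mul_add, hS.add])
    (fun a b => by
      rw [map_add, mul_add]
      exact hM.ι_mul _ _ (by rw [mul_pow, hM.ν_fix, heq]) (by rw [mul_pow, hM.ν_fix, heq]))
    (fun a b h => mul_left_cancel₀ hS.k_ne (hS.inj h))
    (fun a b h => e.injective (mul_left_cancel₀ hM.ν_ne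
      (hM.ι_inj _ _ (by rw [mul_pow, hM.ν_fix, heq]) (by rw [mul_pow, hM.ν_fix, heq]) h)))
    (fun c g => hS.cent _ g)
    (fun c g => Subgroup.mem_center_iff.1 (hM.ι_cent _ (by rw [mul_pow, hM.ν_fix, heq])) g)
    (fun y => Function.invFun e (y * y ^ q))
    (fun x => by rw [hS.sq]; show _ = emb (k * _); rw [hnorm, hinvF])
    (fun a => by
      rw [hM.sq]
      show _ = ι (ν * e (Function.invFun e (φ a * φ a ^ q)))
      rw [Function.invFun_eq (hKsurj (φ a * φ a ^ q) (by
        rw [mul_pow, Unitary.pow_q_pow_q hE, mul_comm]))])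
  let π := QuotientGroup.mk' (Subgroup.center (Cfsg.SU 3 E q))
  have hinj : Function.Injective (π.comp (P : Subgroup (Cfsg.SU 3 E q)).subtype) := by
    rw [injective_iff_map_eq_one]
    intro x hx
    have hxC : (x : Cfsg.SU 3 E q) ∈ Subgroup.center (Cfsg.SU 3 E q) :=
      (QuotientGroup.eq_one_iff _).1 hx
    have h1 : orderOf (x : Cfsg.SU 3 E q) ∣ 3 := by
      have := orderOf_dvd_natCard (⟨x, hxC⟩ : Subgroup.center (Cfsg.SU 3 E q))
      rw [Unitary.card_center hE (by norm_num : 2 ≤ 3), Subgroup.orderOf_mk] at this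
      exact this.trans (Nat.gcd_dvd_left _ _)
    obtain ⟨j, hj⟩ := IsPGroup.iff_orderOf.1 P.isPGroup' x
    rw [Subgroup.orderOf_coe, hj] at h1
    have h3 : j = 0 := by
      by_contra hj0
      exact absurd ((dvd_pow_self 2 hj0).trans h1) (by norm_num)
    rw [h3, pow_zero, orderOf_eq_one_iff] at hj
    exact hj
  let S : Sylow 2 (Cfsg.PSU 3 E q) := P.mapSurjective (QuotientGroup.mk'_surjective _)
  refine ⟨S, ⟨(f.trans (MonoidHom.ofInjective hinj)).trans (MulEquiv.subgroupCongr ?_)⟩⟩
  rw [MonoidHom.range_comp, Subgroup.range_subtype]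
  rfl

end Cfsg.Agent.InvChar
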