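import Mathlib.GroupTheory.Index
import Mathlib.GroupTheory.QuotientGroup.Basic
import Cfsg.Prelude.Def_Transfer

/-!
# A group with a large elementary abelian normal subgroup with small fixed subgroups
-/

set_option autoImplicit false

open Subgroup
open scoped commutatorElement

namespace Cfsg.Agent.InvChar.M24Syl

variable {S : Type*} [Group S] [Finite S]

/-- The properties of the quotient of the Sylow 2-subgroup of `M24` by its centre that are used. -/
structure Shape (A : Subgroup S) : Prop where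
  normal : A.Normal
  elem : IsElementaryAbelian 2 A
  card : Nat.card A = 64
  cardS : Nat.card S = 512
  one : ∀ u, u ∉ A → Nat.card ↥(A ⊓ centralizer {u}) ≤ 16
  two : ∀ u v, u ∉ A → v ∉ A → u⁻¹ * v ∉ A →
    Nat.card ↥(A ⊓ centralizer {u} ⊓ centralizer {v}) ≤ 8
  noncomm : ∃ u v : S, ⁅u, v⁆ ∉ A

theorem card_le_two_mul {A M : Subgroup S} {u : S}
    (h : ∀ v ∈ M, v ∈ A ∨ u⁻¹ * v ∈ A) : Nat.card M ≤ 2 * Nat.card ↥(A ⊓ M) ∨ u ∉ M := by
  by_cases hu : u ∈ M
  · refine Or.inl ?_
    classical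
    let f : M → Bool × ↥(A ⊓ M) := fun v =>
      if hv : (v : S) ∈ A then (false, ⟨v, hv, v.2⟩)
      else (true, ⟨u⁻¹ * v, mem_inf.mpr ⟨(h v v.2).resolve_left hv, mul_mem (inv_mem hu) v.2⟩⟩)
    have hf : Function.Injective f := by
      intro v w hvw
      by_cases hv : (v : S) ∈ A <;> by_cases hw : (w : S) ∈ A <;> simp [f, hv, hw] at hvw
      · exact Subtype.ext (congrArg Subtype.val hvw :)
      · exact hvw
    have := Nat.card_le_card_of_injective f hf
    simpa [Nat.card_prod] using this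
  · exact Or.inr hu

theorem Shape.card_center_le {A : Subgroup S} (h : Shape A) {M : Subgroup S} (hM : IsCoatom M)
    (hidx : M.index = 2) : Nat.card ↥(center ↥M) ≤ 8 := by
  have hM256 : Nat.card M = 256 := by
    have := M.card_mul_index
    rw [hidx, h.cardS] at this
    omega
  have hAM : 32 ≤ Nat.card ↥(A ⊓ M) := by
    have h1 : M.relIndex A ≤ 2 := by
      rw [← hidx, ← relIndex_top_right M]
      exact relIndex_le_of_le_right le_top (by rw [relIndex_top_right, hidx]; norm_num)
    have h2 := relIndex_mul_relIndex (⊥ : Subgroup S) (A ⊓ M) A bot_le inf_le_left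
    rw [relIndex_bot_left, relIndex_bot_left, h.card, inf_relIndex_left] at h2
    nlinarith
  have hAM64 : Nat.card ↥(A ⊓ M) ≤ 64 := h.card ▸ card_le_of_le inf_le_left
  have hcz : ∀ z ∈ (center ↥M).map M.subtype, A ⊓ M ≤ centralizer {z} := by
    rintro _ ⟨z, hz, rfl⟩ a ha
    exact mem_centralizer_singleton_iff.mpr
      (congrArg Subtype.val (mem_center_iff.mp hz ⟨a, ha.2⟩))
  have hZA : (center ↥M).map M.subtype ≤ A := by
    intro z hz
    by_contra hzA
    have := card_le_of_le (le_inf (inf_le_left : A ⊓ M ≤ A) (hcz z hz))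
    have := h.one z hzA
    omega
  obtain ⟨u, hu, huA⟩ : ∃ u ∈ M, u ∉ A := by
    by_contra hc
    push Not at hc
    have := card_le_of_le (show M ≤ A from hc)
    rw [hM256, h.card] at this
    omega
  obtain ⟨v, hv, hvA, hvu⟩ : ∃ v ∈ M, v ∉ A ∧ u⁻¹ * v ∉ A := by
    by_contra hc
    push Not at hc
    rcases card_le_two_mul (A := A) (M := M) (u := u)
      (fun v hv => or_iff_not_imp_left.mpr (hc v hv)) with hle | hle
    · omega
    · exact hle hu
  have hle : (center ↥M).map M.subtype ≤ A ⊓ centralizer {u} ⊓ centralizer {v} := by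
    intro z hz
    refine ⟨⟨hZA hz, ?_⟩, ?_⟩ <;>
    · obtain ⟨z, hz, rfl⟩ := hz
      refine mem_centralizer_singleton_iff.mpr ?_
      first
        | exact (congrArg Subtype.val (mem_center_iff.mp hz ⟨u, hu⟩)).symm
        | exact (congrArg Subtype.val (mem_center_iff.mp hz ⟨v, hv⟩)).symm
  have := (card_le_of_le hle).trans (h.two u v huA hvA hvu)
  rwa [card_map_of_injective M.subtype_injective] at this

theorem Shape.eq_of_abelian {A : Subgroup S} (h : Shape A) {B : Subgroup S}
    (hB : IsMulCommutative ↥B) (hB64 : Nat.card ↥B = 64) : B = A := by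
  have hcomm : ∀ a ∈ B, ∀ b ∈ B, a * b = b * a := fun a ha b hb =>
    congrArg Subtype.val (hB.is_comm.comm (⟨a, ha⟩ : B) ⟨b, hb⟩)
  by_contra hne
  obtain ⟨u, hu, huA⟩ : ∃ u ∈ B, u ∉ A := by
    by_contra hc
    push Not at hc
    exact hne (eq_of_le_of_card_ge hc (by rw [h.card, hB64]))
  have hD1 : Nat.card ↥(A ⊓ B) ≤ 16 := by
    refine (card_le_of_le ?_).trans (h.one u huA)
    exact fun a ha => ⟨ha.1, mem_centralizer_singleton_iff.mpr (hcomm a ha.2 u hu)⟩
  obtain ⟨v, hv, hvA, hvu⟩ : ∃ v ∈ B, v ∉ A ∧ u⁻¹ * v ∉ A := by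
    by_contra hc
    push Not at hc
    rcases card_le_two_mul (A := A) (M := B) (u := u)
      (fun v hv => or_iff_not_imp_left.mpr (hc v hv)) with hle | hle
    · omega
    · exact hle hu
  have hD2 : Nat.card ↥(A ⊓ B) ≤ 8 := by
    refine (card_le_of_le ?_).trans (h.two u v huA hvA hvu)
    exact fun a ha => ⟨⟨ha.1, mem_centralizer_singleton_iff.mpr (hcomm a ha.2 u hu)⟩,
      mem_centralizer_singleton_iff.mpr (hcomm a ha.2 v hv)⟩
  have := h.normal
  let g := (QuotientGroup.mk' A).comp B.subtype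
  have hker : Nat.card g.ker ≤ 8 := by
    refine le_trans ?_ hD2
    refine Nat.card_le_card_of_injective
      (fun x => (⟨((x : B) : S), (QuotientGroup.eq_one_iff _).mp x.2, (x : B).2⟩ : ↥(A ⊓ B))) ?_
    intro x y hxy
    exact Subtype.ext (Subtype.ext (congrArg Subtype.val hxy :))
  have hmul := g.ker.card_mul_index
  rw [index_ker, hB64] at hmul
  have hA := A.card_mul_index
  rw [h.card, h.cardS] at hA
  have htop : g.range = ⊤ := by
    refine eq_top_of_le_card _ ?_
    rw [← index_eq_card]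
    nlinarith
  have hab : ∀ a b : S ⧸ A, a * b = b * a := by
    intro a b
    obtain ⟨x, rfl⟩ : a ∈ g.range := htop ▸ mem_top a
    obtain ⟨y, rfl⟩ : b ∈ g.range := htop ▸ mem_top b
    rw [← map_mul, ← map_mul, hB.is_comm.comm x y]
  obtain ⟨a, b, hab'⟩ := h.noncomm
  apply hab'
  rw [← QuotientGroup.eq_one_iff, ← QuotientGroup.mk'_apply, map_commutatorElement,
    commutatorElement_eq_one_iff_commute]
  exact hab _ _

end Cfsg.Agent.InvChar.M24Syl
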