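import Cfsg.Agent.InvChar.M24SylowData
import Cfsg.Agent.Lib.Golay.Perm

/-!
# Kernel checks for the Sylow 2-subgroup of `M24`
-/

set_option autoImplicit false

namespace Cfsg.Agent.InvChar.M24Syl

/-- The table of the `j`-th generator. -/
def tabs (j : ℕ) : List ℕ := genTabs.getD j Golay.idTab

/-- The table of a product of generators. -/
def tw (l : List ℕ) : List ℕ := l.foldr (fun j t => Golay.comp (tabs j) t) Golay.idTab

/-- The word of the `i`-th normal element. -/
def wE (i : ℕ) : List ℕ := (List.range 7).filter fun j => i.testBit j

/-- The word of the `a`-th coset representative. -/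
def wR (a : ℕ) : List ℕ := ((List.range 3).filter fun j => a.testBit j).map (· + 7)

/-- Table of a normal element. -/
def tE (i : ℕ) : List ℕ := tw (wE i)

/-- Table of a coset representative. -/
def tR (a : ℕ) : List ℕ := tw (wR a)

/-- Lookup. -/
def look (L : List (List ℕ)) (i j : ℕ) : ℕ := (L.getD i []).getD j 0

def chkGen : Bool := (List.range 10).all fun j =>
  Golay.isPermTab (tabs j) && Golay.checkAut (tabs j) &&
    tabs j == (List.range 24).map fun i => (tabs j).getD i 0

def chkE : Bool := (List.range 128).all fun i => (List.range 7).all fun j =>
  decide (look eTab i j < 128) && Golay.comp (tE i) (tabs j) == tE (look eTab i j)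

def chkC : Bool := (List.range 3).all fun t => (List.range 7).all fun j =>
  decide (look cTab t j < 128) &&
    Golay.comp (tabs (t + 7)) (tabs j) == Golay.comp (tE (look cTab t j)) (tabs (t + 7))

def chkR : Bool := (List.range 8).all fun a => (List.range 3).all fun t =>
  decide (look rTab a t < 8) && decide (look rTabE a t < 128) &&
    Golay.comp (tR a) (tabs (t + 7)) == Golay.comp (tR (look rTab a t)) (tE (look rTabE a t))

def chkEdistinct : Bool := (List.range 128).all fun i => (List.range i).all fun j => tE i != tE j

def chkRdistinct : Bool := (List.range 8).all fun a => (List.range 8).all fun b =>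
  a == b || (List.range 128).all fun i => Golay.comp (tR a) (tE i) != tR b

def chkOdd : Bool := (List.range 64).all fun k =>
  tE (2 * k + 1) == Golay.comp (tabs 0) (tE (2 * k))

def chkZ : Bool := ((List.range 10).all fun j =>
    Golay.comp (tabs 0) (tabs j) == Golay.comp (tabs j) (tabs 0)) &&
  (List.range 8).all fun a => (List.range 128).all fun i =>
    (a == 0 && decide (i < 2)) || (decide (look cWit a i < 10) &&
      Golay.comp (Golay.comp (tR a) (tE i)) (tabs (look cWit a i)) !=
        Golay.comp (tabs (look cWit a i)) (Golay.comp (tR a) (tE i)))

def chkA : Bool := (List.range 7).all fun i =>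
  (Golay.comp (tabs i) (tabs i) == Golay.idTab || Golay.comp (tabs i) (tabs i) == tabs 0) &&
  (List.range 7).all fun j =>
    Golay.comp (tabs i) (tabs j) == Golay.comp (tabs j) (tabs i) ||
      Golay.comp (tabs i) (tabs j) == Golay.comp (Golay.comp (tabs j) (tabs i)) (tabs 0)

/-- The element `2k` commutes with the representative `a` modulo the centre. -/
def fixq (a k : ℕ) : Bool :=
  Golay.comp (tE (2 * k)) (tR a) == Golay.comp (tR a) (tE (2 * k)) ||
    Golay.comp (tE (2 * k)) (tR a) == Golay.comp (Golay.comp (tR a) (tE (2 * k))) (tabs 0)

def chkFix : Bool := (List.range 8).all fun a => a == 0 ||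
  (decide (((List.range 64).filter fun k => fixq a k).length ≤ 16) &&
    (List.range 8).all fun b => b == 0 || b == a ||
      decide (((List.range 64).filter fun k => fixq a k && fixq b k).length ≤ 8))

def chkNC : Bool := decide (commWit.1 < 8) && decide (commWit.2 < 8) &&
  (List.range 128).all fun i => Golay.comp (tR commWit.1) (tR commWit.2) !=
    Golay.comp (Golay.comp (tR commWit.2) (tR commWit.1)) (tE i)

theorem chkGen_ok : chkGen = true := by decide +kernel
theorem chkE_ok : chkE = true := by decide +kernel
theorem chkC_ok : chkC = true := by decide +kernel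
theorem chkR_ok : chkR = true := by decide +kernel
theorem chkEdistinct_ok : chkEdistinct = true := by decide +kernel
theorem chkRdistinct_ok : chkRdistinct = true := by decide +kernel
theorem chkOdd_ok : chkOdd = true := by decide +kernel
theorem chkA_ok : chkA = true := by decide +kernel
theorem chkNC_ok : chkNC = true := by decide +kernel
theorem chkFix_ok : chkFix = true := by decide +kernel
theorem chkZ_ok : chkZ = true := by decide +kernel

end Cfsg.Agent.InvChar.M24Syl
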