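import Cfsg.Agent.InvChar.M24Syl0
import Cfsg.Agent.InvChar.M24SylCheck
import Cfsg.Agent.Lib.Golay.Order
import Mathlib.GroupTheory.Sylow

/-!
# The quotient of a Sylow 2-subgroup of `M24` by its centre
-/

set_option autoImplicit false

open Subgroup
open scoped commutatorElement

namespace Cfsg.Agent.InvChar.M24Syl

open Cfsg Cfsg.Agent

/-- The table of an element. -/
def enc (σ : ↥Cfsg.M24) : List ℕ :=
  (List.range 24).map fun i => Golay.idx ((σ : Equiv.Perm GolayPt) (Golay.pt i))

theorem tab_enc (σ : ↥Cfsg.M24) : Golay.Tab (σ : Equiv.Perm GolayPt) (enc σ) := by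
  intro i hi
  rw [enc, Golay.getD_map_range _ hi]

theorem enc_eq_of_tab {σ : ↥Cfsg.M24} {l : List ℕ} (h : Golay.Tab (σ : Equiv.Perm GolayPt) l) :
    enc σ = (List.range 24).map fun i => l.getD i 0 :=
  List.map_congr_left fun i hi => h i (List.mem_range.mp hi)

theorem enc_one : enc 1 = Golay.idTab := by
  rw [enc_eq_of_tab (σ := 1) Golay.tab_one]
  decide

theorem enc_mul (σ τ : ↥Cfsg.M24) : enc (σ * τ) = Golay.comp (enc σ) (enc τ) := by
  rw [enc_eq_of_tab (σ := σ * τ) (l := Golay.comp (enc σ) (enc τ)) ((tab_enc σ).mul (tab_enc τ))]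
  exact List.map_congr_left fun i hi => Golay.getD_map_range _ (List.mem_range.mp hi)

theorem enc_injective : Function.Injective enc := fun σ τ h =>
  Subtype.ext (Golay.tab_unique (h ▸ tab_enc σ) (tab_enc τ))

theorem exists_gen (j : ℕ) : ∃ σ : ↥Cfsg.M24, enc σ = tabs j := by
  by_cases hj : j < 10
  · have h := chkGen_ok
    simp only [chkGen, List.all_eq_true, List.mem_range, Bool.and_eq_true, beq_iff_eq] at h
    obtain ⟨⟨hp, ha⟩, he⟩ := h j hj
    refine ⟨⟨_, (Golay.tab_permOf hp).mem_M24 ha⟩, ?_⟩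
    rw [enc_eq_of_tab (σ := ⟨_, (Golay.tab_permOf hp).mem_M24 ha⟩) (Golay.tab_permOf hp)]
    exact he.symm
  · refine ⟨1, ?_⟩
    rw [enc_one, tabs, List.getD_eq_default]
    exact le_trans (show genTabs.length ≤ 10 by decide) (Nat.le_of_not_lt hj)

/-- The generators. -/
noncomputable def gen (j : ℕ) : ↥Cfsg.M24 := (exists_gen j).choose

theorem enc_gen (j : ℕ) : enc (gen j) = tabs j := (exists_gen j).choose_spec

/-- A normal element. -/
noncomputable def elE (i : ℕ) : ↥Cfsg.M24 := ((wE i).map gen).prod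

/-- A coset representative. -/
noncomputable def elR (a : ℕ) : ↥Cfsg.M24 := ((wR a).map gen).prod

theorem enc_prod (l : List ℕ) : enc (l.map gen).prod = tw l := by
  induction l with
  | nil => exact enc_one
  | cons j l ih =>
    rw [List.map_cons, List.prod_cons, enc_mul, ih, enc_gen]
    rfl

theorem enc_elE (i : ℕ) : enc (elE i) = tE i := enc_prod _

theorem enc_elR (a : ℕ) : enc (elR a) = tR a := enc_prod _

/-- The normal subgroup. -/
noncomputable def EE : Subgroup ↥Cfsg.M24 := Subgroup.closure {x | ∃ j, j < 7 ∧ gen j = x}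

/-- The Sylow 2-subgroup. -/
noncomputable def PP : Subgroup ↥Cfsg.M24 := Subgroup.closure {x | ∃ j, j < 10 ∧ gen j = x}

theorem EE_le_PP : EE ≤ PP := Subgroup.closure_mono fun _ ⟨j, hj, he⟩ => ⟨j, by omega, he⟩

theorem elE_mem (i : ℕ) : elE i ∈ EE := list_prod_mem fun x hx => by
  obtain ⟨j, hj, rfl⟩ := List.mem_map.mp hx
  exact subset_closure ⟨j, List.mem_range.mp (List.mem_filter.mp hj).1, rfl⟩

theorem elR_mem (a : ℕ) : elR a ∈ PP := list_prod_mem fun x hx => by
  obtain ⟨j, hj, rfl⟩ := List.mem_map.mp hx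
  obtain ⟨k, hk, rfl⟩ := List.mem_map.mp hj
  have := List.mem_range.mp (List.mem_filter.mp hk).1
  exact subset_closure ⟨k + 7, by omega, rfl⟩

theorem elE_mul (i j : ℕ) (hi : i < 128) (hj : j < 7) :
    ∃ k < 128, elE i * gen j = elE k := by
  have h := chkE_ok
  simp only [chkE, List.all_eq_true, List.mem_range, Bool.and_eq_true, decide_eq_true_eq,
    beq_iff_eq] at h
  exact ⟨_, (h i hi j hj).1, enc_injective (by
    rw [enc_mul, enc_elE, enc_gen, enc_elE]; exact (h i hi j hj).2)⟩

theorem exists_elE {x : ↥Cfsg.M24} (hx : x ∈ EE) : ∃ i < 128, x = elE i := by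
  rw [← Subgroup.mem_toSubmonoid, EE, Subgroup.closure_toSubmonoid_of_finite] at hx
  induction hx using Submonoid.closure_induction_right with
  | one => exact ⟨0, by norm_num, enc_injective (by rw [enc_one, enc_elE]; decide)⟩
  | mul_right x _ y hy ih =>
    obtain ⟨i, hi, rfl⟩ := ih
    obtain ⟨j, hj, rfl⟩ := hy
    exact elE_mul i j hi hj

theorem conj_mem_EE {s x : ↥Cfsg.M24} (hs : s ∈ PP) (hx : x ∈ EE) : s * x * s⁻¹ ∈ EE := by
  have hle : ∀ j < 10, EE.map (MulAut.conj (gen j)).toMonoidHom ≤ EE := by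
    intro j hj
    rw [EE, MonoidHom.map_closure, closure_le]
    rintro _ ⟨_, ⟨k, hk, rfl⟩, rfl⟩
    show gen j * gen k * (gen j)⁻¹ ∈ EE
    by_cases hj7 : j < 7
    · exact mul_mem (mul_mem (subset_closure ⟨j, hj7, rfl⟩) (subset_closure ⟨k, hk, rfl⟩))
        (inv_mem (subset_closure ⟨j, hj7, rfl⟩))
    · obtain ⟨t, rfl⟩ : ∃ t, j = t + 7 := ⟨j - 7, by omega⟩
      have h := chkC_ok
      simp only [chkC, List.all_eq_true, List.mem_range, Bool.and_eq_true, decide_eq_true_eq,
        beq_iff_eq] at h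
      have e : gen (t + 7) * gen k = elE (look cTab t k) * gen (t + 7) := enc_injective (by
        rw [enc_mul, enc_mul, enc_gen, enc_gen, enc_elE]; exact (h t (by omega) k hk).2)
      rw [e, mul_inv_cancel_right]
      exact elE_mem _
  have hnorm : PP ≤ normalizer (EE : Set ↥Cfsg.M24) := by
    rw [PP, closure_le]
    rintro _ ⟨j, hj, rfl⟩
    rw [SetLike.mem_coe, mem_normalizer_iff_map_conj_eq]
    exact eq_of_le_of_card_ge (hle j hj)
      (card_map_of_injective (MulAut.conj (gen j)).injective).ge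
  exact (mem_normalizer_iff.mp (hnorm hs) x).mp hx

theorem exists_elR_mul {x : ↥Cfsg.M24} (hx : x ∈ PP) :
    ∃ a < 8, ∃ i < 128, x = elR a * elE i := by
  rw [← Subgroup.mem_toSubmonoid, PP, Subgroup.closure_toSubmonoid_of_finite] at hx
  induction hx using Submonoid.closure_induction_right with
  | one => exact ⟨0, by norm_num, 0, by norm_num, enc_injective (by
      rw [enc_one, enc_mul, enc_elR, enc_elE]; decide)⟩
  | mul_right x hx y hy ih =>
    obtain ⟨a, ha, i, hi, rfl⟩ := ih
    obtain ⟨j, hj, rfl⟩ := hy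
    by_cases hj7 : j < 7
    · obtain ⟨k, hk, e⟩ := elE_mul i j hi hj7
      exact ⟨a, ha, k, hk, by rw [mul_assoc, e]⟩
    · obtain ⟨t, rfl⟩ : ∃ t, j = t + 7 := ⟨j - 7, by omega⟩
      have h := chkR_ok
      simp only [chkR, List.all_eq_true, List.mem_range, Bool.and_eq_true, decide_eq_true_eq,
        beq_iff_eq] at h
      obtain ⟨⟨hb, hk⟩, he⟩ := h a ha t (by omega)
      have e : elR a * gen (t + 7) = elR (look rTab a t) * elE (look rTabE a t) :=
        enc_injective (by rw [enc_mul, enc_mul, enc_gen, enc_elR, enc_elR, enc_elE]; exact he)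
      have hgj : gen (t + 7) ∈ PP := subset_closure ⟨_, hj, rfl⟩
      have hc := conj_mem_EE (inv_mem hgj) (elE_mem i)
      rw [inv_inv] at hc
      obtain ⟨k, hk', hke⟩ := exists_elE (mul_mem (elE_mem (look rTabE a t)) hc)
      refine ⟨_, hb, k, hk', ?_⟩
      rw [← hke, ← mul_assoc, ← e]
      group

theorem elE_injective {i j : ℕ} (hi : i < 128) (hj : j < 128) (h : elE i = elE j) : i = j := by
  have hd := chkEdistinct_ok
  simp only [chkEdistinct, List.all_eq_true, List.mem_range, bne_iff_ne, ne_eq] at hd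
  have he := congrArg enc h
  rw [enc_elE, enc_elE] at he
  rcases lt_trichotomy i j with hl | hl | hl
  exacts [absurd he.symm (hd j hj i hl), hl, absurd he (hd i hi j hl)]

theorem eq_of_elR_inv_mul {a b : ℕ} (ha : a < 8) (hb : b < 8) (h : (elR a)⁻¹ * elR b ∈ EE) :
    a = b := by
  obtain ⟨i, hi, he⟩ := exists_elE h
  have hd := chkRdistinct_ok
  simp only [chkRdistinct, List.all_eq_true, List.mem_range, bne_iff_ne, ne_eq, Bool.or_eq_true,
    beq_iff_eq] at hd
  refine (hd a ha b hb).resolve_right fun h' => h' i hi ?_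
  rw [← enc_elR, ← enc_elR, ← enc_elE, ← enc_mul, ← he, mul_inv_cancel_left]

theorem elR_not_mem {a : ℕ} (ha : a < 8) (h0 : a ≠ 0) : elR a ∉ EE := fun h => by
  refine h0 (eq_of_elR_inv_mul (a := 0) (by norm_num) ha ?_).symm
  rw [show elR 0 = 1 from rfl, inv_one, one_mul]
  exact h

theorem card_PP : Nat.card PP = 1024 := by
  let f : Fin 8 × Fin 128 → PP := fun p =>
    ⟨elR p.1 * elE p.2, mul_mem (elR_mem _) (EE_le_PP (elE_mem _))⟩
  have hf : Function.Bijective f := by
    constructor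
    · rintro ⟨a, i⟩ ⟨b, j⟩ hab
      have he : elR a * elE i = elR b * elE j := congrArg Subtype.val hab
      have hmem : (elR a)⁻¹ * elR b ∈ EE := by
        rw [show (elR a)⁻¹ * elR b = elE i * (elE j)⁻¹ by
          rw [eq_mul_inv_iff_mul_eq, mul_assoc, ← he, inv_mul_cancel_left]]
        exact mul_mem (elE_mem _) (inv_mem (elE_mem _))
      obtain rfl := Fin.ext (eq_of_elR_inv_mul a.2 b.2 hmem)
      exact Prod.ext rfl (Fin.ext (elE_injective i.2 j.2 (mul_left_cancel he)))
    · rintro ⟨x, hx⟩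
      obtain ⟨a, ha, i, hi, rfl⟩ := exists_elR_mul hx
      exact ⟨(⟨a, ha⟩, ⟨i, hi⟩), rfl⟩
  rw [← Nat.card_eq_of_bijective f hf]
  simp [Nat.card_eq_fintype_card]

theorem gen_zero_central {x : ↥Cfsg.M24} (hx : x ∈ PP) : gen 0 * x = x * gen 0 := by
  have hle : PP ≤ centralizer {gen 0} := by
    rw [PP, closure_le]
    rintro _ ⟨j, hj, rfl⟩
    have h := chkZ_ok
    simp only [chkZ, Bool.and_eq_true, List.all_eq_true, List.mem_range, beq_iff_eq] at h
    rw [SetLike.mem_coe, mem_centralizer_singleton_iff]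
    exact enc_injective (by rw [enc_mul, enc_mul, enc_gen, enc_gen]; exact (h.1 j hj).symm)
  exact (mem_centralizer_singleton_iff.mp (hle hx)).symm

theorem eq_of_central {x : ↥Cfsg.M24} (hx : x ∈ PP) (hc : ∀ y ∈ PP, x * y = y * x) :
    x = 1 ∨ x = gen 0 := by
  obtain ⟨a, ha, i, hi, rfl⟩ := exists_elR_mul hx
  have h := chkZ_ok
  simp only [chkZ, Bool.and_eq_true, List.all_eq_true, List.mem_range, beq_iff_eq,
    Bool.or_eq_true, decide_eq_true_eq, bne_iff_ne, ne_eq] at h
  rcases h.2 a ha i hi with ⟨rfl, hi2⟩ | ⟨hw, hne⟩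
  · interval_cases i
    · exact Or.inl (enc_injective (by rw [enc_mul, enc_elR, enc_elE, enc_one]; decide))
    · exact Or.inr (enc_injective (by rw [enc_mul, enc_elR, enc_elE, enc_gen]; decide +kernel))
  · exfalso
    apply hne
    rw [← enc_elR, ← enc_elE, ← enc_mul, ← enc_gen, ← enc_mul, ← enc_mul,
      hc _ (subset_closure ⟨_, hw, rfl⟩)]

/-- The centre of the Sylow subgroup, as a set. -/
theorem mem_center_iff' {x : PP} : x ∈ center PP ↔ (x : ↥Cfsg.M24) = 1 ∨ (x : ↥Cfsg.M24) = gen 0 := by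
  constructor
  · intro hx
    exact eq_of_central x.2 fun y hy =>
      (congrArg Subtype.val (mem_center_iff.mp hx ⟨y, hy⟩)).symm
  · intro hx
    refine mem_center_iff.mpr fun y => Subtype.ext ?_
    show (y : ↥Cfsg.M24) * x = x * y
    rcases hx with hx | hx <;> rw [hx]
    · rw [mul_one, one_mul]
    · exact (gen_zero_central y.2).symm

/-- The shape of the quotient. -/
theorem exists_shape {S : Type*} [Group S] [Finite S] (π : PP →* S) (hsurj : Function.Surjective π)
    (hker : π.ker = center PP) : ∃ A : Subgroup S, Shape A := by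
  classical
  let E' : Subgroup PP := EE.subgroupOf PP
  refine ⟨E'.map π, ?_⟩
  have hEn : E'.Normal := ⟨fun x hx s => mem_subgroupOf.mpr
    (conj_mem_EE s.2 (mem_subgroupOf.mp hx))⟩
  have hπ : ∀ x y : PP, π x = π y →
      (x : ↥Cfsg.M24) = y ∨ (x : ↥Cfsg.M24) = y * gen 0 := by
    intro x y hxy
    have hk : y⁻¹ * x ∈ π.ker := by
      rw [MonoidHom.mem_ker, map_mul, map_inv, hxy, inv_mul_cancel]
    rw [hker, mem_center_iff', coe_mul, coe_inv] at hk
    rcases hk with hk | hk
    · exact Or.inl (inv_mul_eq_one.mp hk).symm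
    · exact Or.inr (inv_mul_eq_iff_eq_mul.mp hk)
  have hg0 : gen 0 ∈ EE := subset_closure ⟨0, by norm_num, rfl⟩
  let e2 : ℕ → PP := fun k => ⟨elE (2 * k), EE_le_PP (elE_mem _)⟩
  have hz : π ⟨gen 0, EE_le_PP hg0⟩ = 1 := by
    rw [← MonoidHom.mem_ker, hker, mem_center_iff']
    exact Or.inr rfl
  have hA : ∀ s ∈ E'.map π, ∃ k < 64, s = π (e2 k) := by
    rintro _ ⟨x, hx, rfl⟩
    obtain ⟨i, hi, he⟩ := exists_elE (mem_subgroupOf.mp hx)
    rcases Nat.mod_two_eq_zero_or_one i with h0 | h1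
    · exact ⟨i / 2, by omega, congrArg π (Subtype.ext (show (x : ↥Cfsg.M24) = elE (2 * (i / 2)) by
        rw [he]; congr 1; omega))⟩
    · refine ⟨i / 2, by omega, ?_⟩
      have h := chkOdd_ok
      simp only [chkOdd, List.all_eq_true, List.mem_range, beq_iff_eq] at h
      have e : (x : ↥Cfsg.M24) = gen 0 * elE (2 * (i / 2)) := enc_injective (by
        rw [he, enc_mul, enc_elE, enc_gen, enc_elE, ← h (i / 2) (by omega)]; congr 1; omega)
      have e' : x = ⟨gen 0, EE_le_PP hg0⟩ * e2 (i / 2) := Subtype.ext e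
      rw [e', map_mul, hz, one_mul]
  have hinj : ∀ k < 64, ∀ l < 64, π (e2 k) = π (e2 l) → k = l := by
    intro k hk l hl hkl
    rcases hπ _ _ hkl with he | he
    · have := elE_injective (by omega) (by omega) he
      omega
    · exfalso
      have h := chkOdd_ok
      simp only [chkOdd, List.all_eq_true, List.mem_range, beq_iff_eq] at h
      have e : elE (2 * k) = elE (2 * l + 1) := by
        refine he.trans (enc_injective ?_)
        show enc (elE (2 * l) * gen 0) = _
        rw [← gen_zero_central (EE_le_PP (elE_mem _)), enc_mul, enc_elE, enc_gen, enc_elE]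
        exact (h l hl).symm
      have := elE_injective (by omega) (by omega) e
      omega
  have hfix : ∀ (u : PP) (k : ℕ) (a i : ℕ), a < 8 → i < 128 →
      (u : ↥Cfsg.M24) = elR a * elE i → π (e2 k) * π u = π u * π (e2 k) →
      (∀ s t, s ∈ E'.map π → t ∈ E'.map π → s * t = t * s) → fixq a k = true := by
    intro u k a i _ _ hu hc hab
    have e : u = ⟨elR a, elR_mem a⟩ * ⟨elE i, EE_le_PP (elE_mem i)⟩ := Subtype.ext hu
    have hcomm : π (e2 k) * π ⟨elR a, elR_mem a⟩ = π ⟨elR a, elR_mem a⟩ * π (e2 k) := by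
      have hcc := hab (π (e2 k)) (π ⟨elE i, EE_le_PP (elE_mem i)⟩)
        ⟨_, mem_subgroupOf.mpr (elE_mem _), rfl⟩ ⟨_, mem_subgroupOf.mpr (elE_mem _), rfl⟩
      rw [e, map_mul] at hc
      refine mul_right_cancel (b := π ⟨elE i, EE_le_PP (elE_mem i)⟩) ?_
      rw [mul_assoc, hc, mul_assoc, ← hcc, ← mul_assoc]
    rw [← map_mul, ← map_mul] at hcomm
    simp only [fixq, Bool.or_eq_true, beq_iff_eq]
    rcases hπ _ _ hcomm with he | he
    · exact Or.inl (by rw [← enc_elE, ← enc_elR, ← enc_mul, ← enc_mul]; exact congrArg enc he)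
    · refine Or.inr ?_
      rw [← enc_elE, ← enc_elR, ← enc_gen, ← enc_mul, ← enc_mul, ← enc_mul]
      exact congrArg enc he
  have hel : IsElementaryAbelian 2 (E'.map π) := by
    have h := chkA_ok
    simp only [chkA, List.all_eq_true, List.mem_range, Bool.and_eq_true, Bool.or_eq_true,
      beq_iff_eq] at h
    let gs : Set S := {s | ∃ j, ∃ hj : j < 7, π ⟨gen j, EE_le_PP (subset_closure ⟨j, hj, rfl⟩)⟩ = s}
    have hgs : E'.map π ≤ Subgroup.closure gs := by
      have hEc : E' = Subgroup.closure {x : PP | ∃ j, j < 7 ∧ gen j = (x : ↥Cfsg.M24)} := by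
        apply map_injective PP.subtype_injective
        rw [subgroupOf_map_subtype, inf_eq_left.mpr EE_le_PP, MonoidHom.map_closure, EE]
        congr 1
        ext y
        constructor
        · rintro ⟨j, hj, rfl⟩
          exact ⟨⟨gen j, EE_le_PP (subset_closure ⟨j, hj, rfl⟩)⟩, ⟨j, hj, rfl⟩, rfl⟩
        · rintro ⟨x, ⟨j, hj, he⟩, rfl⟩
          exact ⟨j, hj, he⟩
      rw [hEc, MonoidHom.map_closure]
      refine closure_mono ?_
      rintro _ ⟨x, ⟨j, hj, he⟩, rfl⟩
      exact ⟨j, hj, congrArg π (Subtype.ext he)⟩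
    have hgc : ∀ x ∈ gs, ∀ y ∈ gs, x * y = y * x := by
      rintro _ ⟨i, hi, rfl⟩ _ ⟨j, hj, rfl⟩
      rw [← map_mul, ← map_mul]
      rcases (h i hi).2 j hj with he | he
      · exact congrArg π (Subtype.ext (enc_injective (by
          simp only [coe_mul]; rw [enc_mul, enc_mul, enc_gen, enc_gen]; exact he)))
      · rw [show (⟨gen i, EE_le_PP (subset_closure ⟨i, hi, rfl⟩)⟩ : PP) *
            ⟨gen j, EE_le_PP (subset_closure ⟨j, hj, rfl⟩)⟩ =
            ⟨gen j, EE_le_PP (subset_closure ⟨j, hj, rfl⟩)⟩ *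
            ⟨gen i, EE_le_PP (subset_closure ⟨i, hi, rfl⟩)⟩ * ⟨gen 0, EE_le_PP hg0⟩ from
            Subtype.ext (enc_injective (by
              simp only [coe_mul]
              rw [enc_mul, enc_mul, enc_mul, enc_gen, enc_gen, enc_gen]; exact he)),
          map_mul, hz, mul_one]
    have hgq : ∀ x ∈ gs, x * x = 1 := by
      rintro _ ⟨i, hi, rfl⟩
      rw [← map_mul]
      rcases (h i hi).1 with he | he
      · rw [← map_one π]
        exact congrArg π (Subtype.ext (enc_injective (by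
          simp only [coe_mul, coe_one]; rw [enc_mul, enc_gen, enc_one]; exact he)))
      · rw [← hz]
        exact congrArg π (Subtype.ext (enc_injective (by
          simp only [coe_mul]; rw [enc_mul, enc_gen, enc_gen]; exact he)))
    have hm := Subgroup.isMulCommutative_closure hgc
    refine ⟨⟨⟨fun x y => Subtype.ext (congrArg Subtype.val
      (hm.is_comm.comm (⟨x, hgs x.2⟩ : Subgroup.closure gs) ⟨y, hgs y.2⟩) :)⟩⟩, fun x hx => ?_⟩
    have hx' := hgs hx
    rw [pow_two]
    clear hx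
    induction hx' using Subgroup.closure_induction with
    | mem x hx => exact hgq x hx
    | one => exact mul_one 1
    | mul x y hx hy hxx hyy =>
      have hxy : y * x = x * y :=
        congrArg Subtype.val (hm.is_comm.comm (⟨y, hy⟩ : Subgroup.closure gs) ⟨x, hx⟩)
      calc x * y * (x * y) = x * (y * x) * y := by group
        _ = x * x * (y * y) := by rw [hxy]; group
        _ = 1 := by rw [hxx, hyy, one_mul]
    | inv x _ hxx => rw [← mul_inv_rev, hxx, inv_one]
  have hab : ∀ s t, s ∈ E'.map π → t ∈ E'.map π → s * t = t * s := fun s t hs ht =>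
    congrArg Subtype.val (hel.1.is_comm.comm (⟨s, hs⟩ : ↥(E'.map π)) ⟨t, ht⟩)
  have hcardA : Nat.card ↥(E'.map π) = 64 := by
    let f : Fin 64 → ↥(E'.map π) := fun k => ⟨π (e2 k), _, mem_subgroupOf.mpr (elE_mem _), rfl⟩
    have hf : Function.Bijective f := ⟨fun k l hkl =>
      Fin.ext (hinj k k.2 l l.2 (congrArg Subtype.val hkl)), fun ⟨s, hs⟩ => by
        obtain ⟨k, hk, rfl⟩ := hA s hs
        exact ⟨⟨k, hk⟩, rfl⟩⟩
    rw [← Nat.card_eq_of_bijective f hf]
    simp
  have hcardS : Nat.card S = 512 := by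
    have h1 := π.ker.card_mul_index
    rw [index_ker, MonoidHom.range_eq_top.mpr hsurj, card_top, hker, card_PP] at h1
    have h2 : Nat.card ↥(center PP) = 2 := by
      have hne : (1 : ↥Cfsg.M24) ≠ gen 0 := fun he => by
        have := congrArg enc he
        rw [enc_one, enc_gen] at this
        revert this
        decide
      rw [Nat.card_eq_two_iff]
      refine ⟨⟨1, one_mem _⟩, ⟨⟨gen 0, EE_le_PP hg0⟩, mem_center_iff'.mpr (Or.inr rfl)⟩,
        fun he => hne (congrArg (fun x : center PP => ((x : PP) : ↥Cfsg.M24)) he), ?_⟩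
      rw [Set.eq_univ_iff_forall]
      intro x
      rcases mem_center_iff'.mp x.2 with hx | hx
      · exact Or.inl (Subtype.ext (Subtype.ext hx))
      · exact Or.inr (Subtype.ext (Subtype.ext hx))
    rw [h2] at h1
    omega
  have hbound : ∀ (B : Subgroup S) (q : ℕ → Bool) (n : ℕ), B ≤ E'.map π →
      (∀ k < 64, π (e2 k) ∈ B → q k = true) → ((List.range 64).filter q).length ≤ n →
      Nat.card B ≤ n := by
    intro B q n hB hq hn
    let L := (List.range 64).filter q
    choose k hk hke using fun s : B => hA s (hB s.2)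
    let f : B → L.toFinset := fun s => ⟨k s, List.mem_toFinset.mpr
      (List.mem_filter.mpr ⟨List.mem_range.mpr (hk s), hq _ (hk s) (hke s ▸ s.2)⟩)⟩
    have hf : Function.Injective f := fun s t hst => Subtype.ext (by
      rw [hke s, hke t, show k s = k t from congrArg Subtype.val hst])
    refine (Nat.card_le_card_of_injective f hf).trans ?_
    rw [Nat.card_eq_fintype_card, Fintype.card_coe]
    exact (List.toFinset_card_le L).trans hn
  have hout : ∀ s : S, s ∉ E'.map π → ∃ (u : PP) (a i : ℕ), π u = s ∧ a < 8 ∧ a ≠ 0 ∧ i < 128 ∧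
      (u : ↥Cfsg.M24) = elR a * elE i := by
    intro s hs
    obtain ⟨u, rfl⟩ := hsurj s
    obtain ⟨a, ha, i, hi, hu⟩ := exists_elR_mul u.2
    refine ⟨u, a, i, rfl, ha, fun h0 => hs ⟨u, mem_subgroupOf.mpr ?_, rfl⟩, hi, hu⟩
    rw [hu, h0, show elR 0 = 1 from rfl, one_mul]
    exact elE_mem i
  have hF := chkFix_ok
  simp only [chkFix, List.all_eq_true, List.mem_range, Bool.or_eq_true, Bool.and_eq_true,
    beq_iff_eq, decide_eq_true_eq] at hF
  refine ⟨hEn.map π hsurj, hel, hcardA, hcardS, ?_, ?_, ?_⟩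
  · intro s hs
    obtain ⟨u, a, i, rfl, ha, ha0, hi, hu⟩ := hout s hs
    refine hbound _ (fun k => fixq a k) 16 inf_le_left (fun k _ hm => ?_)
      ((hF a ha).resolve_left ha0).1
    exact hfix u k a i ha hi hu (mem_centralizer_singleton_iff.mp hm.2) hab
  · intro s t hs ht hst
    obtain ⟨u, a, i, rfl, ha, ha0, hi, hu⟩ := hout s hs
    obtain ⟨v, b, j, rfl, hb, hb0, hj, hv⟩ := hout t ht
    have hne : b ≠ a := by
      rintro rfl
      refine hst ⟨u⁻¹ * v, mem_subgroupOf.mpr ?_, by rw [map_mul, map_inv]⟩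
      rw [coe_mul, coe_inv, hu, hv, mul_inv_rev, mul_assoc, inv_mul_cancel_left]
      exact mul_mem (inv_mem (elE_mem i)) (elE_mem j)
    refine hbound _ (fun k => fixq a k && fixq b k) 8 (inf_le_left.trans inf_le_left)
      (fun k _ hm => ?_)
      ((((hF a ha).resolve_left ha0).2 b hb).resolve_left (not_or.mpr ⟨hb0, hne⟩))
    rw [Bool.and_eq_true]
    exact ⟨hfix u k a i ha hi hu (mem_centralizer_singleton_iff.mp hm.1.2) hab,
      hfix v k b j hb hj hv (mem_centralizer_singleton_iff.mp hm.2) hab⟩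
  · refine ⟨π ⟨elR commWit.1, elR_mem _⟩, π ⟨elR commWit.2, elR_mem _⟩, ?_⟩
    rw [← map_commutatorElement]
    rintro ⟨x, hx, hxe⟩
    have hxP : ((x : PP) : ↥Cfsg.M24) ∈ EE := mem_subgroupOf.mp hx
    have hc : ⁅elR commWit.1, elR commWit.2⁆ ∈ EE := by
      rcases hπ _ _ hxe with he | he
      · rw [show ⁅elR commWit.1, elR commWit.2⁆ = (x : ↥Cfsg.M24) from he.symm]
        exact hxP
      · rw [show ⁅elR commWit.1, elR commWit.2⁆ = (x : ↥Cfsg.M24) * (gen 0)⁻¹ from
          eq_mul_inv_iff_mul_eq.mpr he.symm]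
        exact mul_mem hxP (inv_mem hg0)
    have hc2 := conj_mem_EE (inv_mem (mul_mem (elR_mem commWit.2) (elR_mem commWit.1))) hc
    obtain ⟨k, hk, hke⟩ := exists_elE hc2
    have h := chkNC_ok
    simp only [chkNC, List.all_eq_true, List.mem_range, Bool.and_eq_true, bne_iff_ne, ne_eq] at h
    apply h.2 k hk
    rw [← enc_elR, ← enc_elR, ← enc_elE, ← enc_mul, ← enc_mul, ← enc_mul, ← hke]
    congr 1
    rw [commutatorElement_def]
    group

/-- The subgroup `PP` is a Sylow 2-subgroup. -/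
theorem exists_equiv (P : Sylow 2 ↥Cfsg.M24) : Nonempty (PP ≃* ↥(P : Subgroup ↥Cfsg.M24)) := by
  have := Fact.mk Nat.prime_two
  have hc : Nat.card PP = 2 ^ 10 := by rw [card_PP]; norm_num
  obtain ⟨Q, hQ⟩ := (IsPGroup.of_card hc).exists_le_sylow
  have hQc : Nat.card Q ≤ Nat.card PP := by
    rw [hc, Q.card_eq_multiplicity, Golay.card_M24]
    refine Nat.pow_le_pow_right (by norm_num) (le_of_eq ?_)
    rw [show (244823040 : ℕ) = 2 ^ 10 * 239085 by norm_num,
      Nat.factorization_mul (by norm_num) (by norm_num), Finsupp.add_apply,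
      Nat.Prime.factorization_pow Nat.prime_two, Finsupp.single_eq_same,
      Nat.factorization_eq_zero_of_not_dvd (by norm_num : ¬ 2 ∣ 239085)]
  exact ⟨(MulEquiv.subgroupCongr (eq_of_le_of_card_ge hQ hQc)).trans (Sylow.equiv Q P)⟩

/-- Every Sylow 2-subgroup modulo its centre has the shape. -/
theorem exists_shape_sylow (P : Sylow 2 ↥Cfsg.M24) :
    ∃ A : Subgroup (↥(P : Subgroup ↥Cfsg.M24) ⧸ center ↥(P : Subgroup ↥Cfsg.M24)), Shape A := by
  obtain ⟨e⟩ := exists_equiv P
  refine exists_shape ((QuotientGroup.mk' _).comp e.toMonoidHom)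
    ((QuotientGroup.mk'_surjective _).comp e.surjective) ?_
  ext x
  rw [MonoidHom.mem_ker, MonoidHom.comp_apply, QuotientGroup.mk'_apply,
    QuotientGroup.eq_one_iff, MulEquiv.coe_toMonoidHom, mem_center_iff, mem_center_iff]
  constructor
  · intro hx y
    exact e.injective (by rw [map_mul, map_mul]; exact hx (e y))
  · intro hx y
    obtain ⟨y, rfl⟩ := e.surjective y
    rw [← map_mul, ← map_mul, hx y]

end Cfsg.Agent.InvChar.M24Syl
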