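import Cfsg.Agent.Lib.Unitary.Field

/-!
An additive bijection of `GF(q²)`, `q` even, that respects the trace form and the fibres of the norm
is a field automorphism followed by a scalar.
-/

set_option autoImplicit false

namespace Cfsg.Agent.InvChar

open Cfsg.Agent.Unitary

variable {F : Type*} [Field F] [Fintype F] [CharP F 2] {q : ℕ} (hF : Fintype.card F = q ^ 2)

include hF

omit [CharP F 2] hF [Fintype F] in
theorem fixed_mul_q {a b : F} (ha : a ^ q = a) (hb : b ^ q = b) : (a * b) ^ q = a * b := by
  rw [mul_pow, ha, hb]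

theorem tr_eq_zero_iff {a b : F} (hb : b ≠ 0) :
    a * b ^ q + a ^ q * b = 0 ↔ (a / b) ^ q = a / b := by
  have hbq : b ^ q ≠ 0 := pow_ne_zero _ hb
  rw [div_pow, div_eq_div_iff hbq hb, CharTwo.add_eq_zero, eq_comm]

/-- The normalised case: `T 1 = 1`. -/
theorem mul_of_norm_tr {T : F → F} (hadd : ∀ a b, T (a + b) = T a + T b)
    (hinj : Function.Injective T)
    (htr : ∀ a b, a * b ^ q + a ^ q * b = 0 → T a * T b ^ q + T a ^ q * T b = 0)
    (hnorm : ∀ a b, a * a ^ q = b * b ^ q → T a * T a ^ q = T b * T b ^ q)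
    (h1 : T 1 = 1) : ∀ x y, T (x * y) = T x * T y := by
  have hT0 : T 0 = 0 := by
    have := hadd 0 0
    rwa [add_zero, left_eq_add] at this
  have hne : ∀ {a : F}, a ≠ 0 → T a ≠ 0 := fun ha h => ha (hinj (h.trans hT0.symm))
  have hfix : ∀ {a : F}, a ^ q = a → T a ^ q = T a := fun {a} ha => by
    have := htr a 1 (by rw [one_pow, mul_one, ha, mul_one, CharTwo.add_self_eq_zero])
    rw [h1, one_pow, mul_one, mul_one, CharTwo.add_eq_zero] at this
    exact this.symm
  -- an element outside the fixed field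
  obtain ⟨u, hu⟩ := exists_trace_eq hF (one_pow q : (1 : F) ^ q = 1)
  have huK : u ^ q ≠ u := fun h => by
    rw [h, CharTwo.add_self_eq_zero] at hu
    exact zero_ne_one hu
  -- scalars from the fixed field act through `T`
  have hline : ∀ {l v : F}, l ^ q = l → v ^ q ≠ v → T v ^ q ≠ T v → T (l * v) = T l * T v := by
    intro l v hl hv hTv
    have hv0 : v ≠ 0 := fun h => hv (by rw [h, zero_pow_q hF])
    have h1v : (1 : F) + v ≠ 0 := fun h => hv (by
      rw [CharTwo.add_eq_zero] at h; rw [← h, one_pow])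
    have hquot : ∀ w, w ≠ 0 → (l * w / w) ^ q = l * w / w := fun w hw => by
      rw [mul_div_cancel_right₀ _ hw, hl]
    have hg := (tr_eq_zero_iff hF (hne hv0)).1 (htr _ _ ((tr_eq_zero_iff hF hv0).2 (hquot v hv0)))
    have hm := (tr_eq_zero_iff hF (hne h1v)).1 (htr _ _ ((tr_eq_zero_iff hF h1v).2 (hquot _ h1v)))
    set g := T (l * v) / T v with hgdef
    set m := T (l * (1 + v)) / T (1 + v) with hmdef
    have eg : T (l * v) = g * T v := (div_mul_cancel₀ _ (hne hv0)).symm
    have em : T (l * (1 + v)) = m * T (1 + v) := (div_mul_cancel₀ _ (hne h1v)).symm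
    rw [mul_add, mul_one, hadd, hadd, h1, eg] at em
    have key : (m + g) * T v = T l + m := by
      linear_combination -em + CharTwo.add_self_eq_zero (R := F) (g * T v) -
        CharTwo.add_self_eq_zero (R := F) m
    by_cases hmg : m + g = 0
    · rw [hmg, zero_mul] at key
      have e1 : T l = m := CharTwo.add_eq_zero.1 key.symm
      have e2 : m = g := CharTwo.add_eq_zero.1 hmg
      rw [eg, e1, e2]
    · refine absurd ?_ hTv
      have e : T v = (T l + m) / (m + g) := by rw [← key, mul_div_cancel_left₀ _ hmg]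
      rw [e, div_pow, add_pow_q hF, add_pow_q hF, hfix hl, hm, hg]
  have hTu : T u ^ q ≠ T u := fun h => by
    have hKK : Function.Bijective (fun a : {x : F // x ^ q = x} =>
        (⟨T a.1, hfix a.2⟩ : {x : F // x ^ q = x})) :=
      Finite.injective_iff_bijective.1 fun a b hab =>
        Subtype.ext (hinj (congrArg Subtype.val hab))
    obtain ⟨⟨a, ha⟩, hTa⟩ := hKK.2 ⟨T u, h⟩
    exact huK (hinj (congrArg Subtype.val hTa) ▸ ha)
  have hKmul : ∀ {l m : F}, l ^ q = l → m ^ q = m → T (l * m) = T l * T m := by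
    intro l m hl hm
    have hv : (m + u) ^ q ≠ m + u := fun h => huK (by
      rw [add_pow_q hF, hm] at h; exact add_left_cancel h)
    have hTv : T (m + u) ^ q ≠ T (m + u) := fun h => hTu (by
      rw [hadd, add_pow_q hF, hfix hm] at h; exact add_left_cancel h)
    have := hline hl hv hTv
    rw [mul_add, hadd, hadd, hline hl huK hTu, mul_add] at this
    exact add_right_cancel this
  have hsmul : ∀ {l : F}, l ^ q = l → ∀ x, T (l * x) = T l * T x := by
    intro l hl x
    have hb : ((x + x ^ q)) ^ q = x + x ^ q := by rw [add_pow_q hF, pow_q_pow_q hF, add_comm]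
    have ha : (x + (x + x ^ q) * u) ^ q = x + (x + x ^ q) * u := by
      rw [add_pow_q hF, mul_pow, hb]
      linear_combination (x + x ^ q) * hu + (CharTwo.add_self_eq_zero (R := F) (x ^ q)) -
        (CharTwo.add_self_eq_zero (R := F) ((x + x ^ q) * u))
    set a := x + (x + x ^ q) * u with hadef
    set b := x + x ^ q with hbdef
    have hx : x = a + b * u := by
      rw [hadef]; linear_combination -(CharTwo.add_self_eq_zero (R := F) (b * u))
    rw [hx, hadd, mul_add, hadd, hKmul hl ha, ← mul_assoc, hline (fixed_mul_q hl hb) huK hTu,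
      hline hb huK hTu, hKmul hl hb]
    ring
  have hN : ∀ x, T x * T x ^ q = T (x * x ^ q) := by
    intro x
    have hc : (x * x ^ q) ^ q = x * x ^ q := by rw [mul_pow, pow_q_pow_q hF, mul_comm]
    -- `x * x ^ q` is the square of a fixed element
    obtain ⟨l, hl⟩ : ∃ l, l * l = x * x ^ q := by
      obtain ⟨l, hl⟩ := FiniteField.isSquare_of_char_two (ringChar.eq F 2) (x * x ^ q)
      exact ⟨l, hl.symm⟩
    have hlq : l ^ q = l := by
      have e : l ^ q * l ^ q = l * l := by rw [← mul_pow, hl, hc]
      rcases mul_self_eq_mul_self_iff.1 e with h | h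
      · exact h
      · rwa [CharTwo.neg_eq] at h
    rw [hnorm x l (by rw [hlq, hl]), hfix hlq, ← hl, hKmul hlq hlq]
  have hsq : ∀ x, T (x * x) = T x * T x := by
    intro x
    have hs : (x + x ^ q) ^ q = x + x ^ q := by rw [add_pow_q hF, pow_q_pow_q hF, add_comm]
    have e1 := hN (x + 1)
    have e2 : (x + 1) * (x + 1) ^ q = x * x ^ q + (x + x ^ q) + 1 := by
      rw [add_pow_q hF, one_pow]; ring
    rw [e2, hadd, hadd, hadd, h1, add_pow_q hF, one_pow] at e1
    have htrT : T x + T x ^ q = T (x + x ^ q) := by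
      linear_combination e1 + (-1 : F) * hN x
    have e3 : x * x = (x + x ^ q) * x + x * x ^ q := by
      linear_combination -(CharTwo.add_self_eq_zero (R := F) (x * x ^ q))
    rw [e3, hadd, hsmul hs, ← htrT, ← hN]
    linear_combination CharTwo.add_self_eq_zero (R := F) (T x * T x ^ q)
  intro x y
  have hdec : ∀ x : F, ∃ a b : F, a ^ q = a ∧ b ^ q = b ∧ x = a + b * u := fun x => by
    refine ⟨x + (x + x ^ q) * u, x + x ^ q, ?_, ?_, ?_⟩
    · rw [add_pow_q hF, mul_pow, add_pow_q hF, pow_q_pow_q hF]
      linear_combination (x + x ^ q) * hu + (CharTwo.add_self_eq_zero (R := F) (x ^ q)) -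
        (CharTwo.add_self_eq_zero (R := F) ((x + x ^ q) * u))
    · rw [add_pow_q hF, pow_q_pow_q hF, add_comm]
    · linear_combination -(CharTwo.add_self_eq_zero (R := F) ((x + x ^ q) * u))
  obtain ⟨a, b, ha, hb, rfl⟩ := hdec x
  obtain ⟨c, d, hc, hd, rfl⟩ := hdec y
  have e : (a + b * u) * (c + d * u) = a * c + (a * d + b * c) * u + (b * d) * (u * u) := by ring
  have hadbc : (a * d + b * c) ^ q = a * d + b * c := by
    rw [add_pow_q hF, fixed_mul_q ha hd, fixed_mul_q hb hc]
  rw [e, hadd, hadd, hsmul hadbc, hsmul (fixed_mul_q hb hd), hsq, hadd (a * d), hKmul ha hc,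
    hKmul ha hd, hKmul hb hc, hKmul hb hd, hadd, hadd, hsmul hb, hsmul hd]
  ring

/-- **Semilinearity**: an additive injection respecting trace-zero pairs and norm fibres. -/
theorem exists_semilinear {T : F → F} (hadd : ∀ a b, T (a + b) = T a + T b)
    (hinj : Function.Injective T)
    (htr : ∀ a b, a * b ^ q + a ^ q * b = 0 → T a * T b ^ q + T a ^ q * T b = 0)
    (hnorm : ∀ a b, a * a ^ q = b * b ^ q → T a * T a ^ q = T b * T b ^ q) :
    ∃ (c : F) (σ : F ≃+* F), c ≠ 0 ∧ ∀ x, T x = c * σ x := by
  have hT0 : T 0 = 0 := by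
    have := hadd 0 0
    rwa [add_zero, left_eq_add] at this
  set c := T 1 with hc
  have hc0 : c ≠ 0 := fun h => one_ne_zero (hinj (h.trans hT0.symm))
  let S : F → F := fun x => T x / c
  have hS := mul_of_norm_tr hF (T := S) (fun a b => by simp [S, hadd, add_div])
    (fun a b h => hinj ((div_left_inj' hc0).1 h))
    (fun a b h => by
      have := htr a b h
      simp only [S, div_pow]
      field_simp
      linear_combination this)
    (fun a b h => by
      have := hnorm a b h
      simp only [S, div_pow, div_mul_div_comm, this])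
    (div_self hc0)
  let f : F →+* F :=
    { toFun := S, map_one' := div_self hc0, map_mul' := hS,
      map_zero' := by simp [S, hT0], map_add' := fun a b => by simp [S, hadd, add_div] }
  refine ⟨c, RingEquiv.ofBijective f (Finite.injective_iff_bijective.1 f.injective), hc0,
    fun x => ?_⟩
  show T x = c * (T x / c)
  rw [mul_div_cancel₀ _ hc0]

end Cfsg.Agent.InvChar
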