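import Cfsg.Agent.InvChar.PSLFourParabolic
import Cfsg.Prelude.Def_Transfer

/-!
Central 2-covers of `PSL₃(4)`.
-/

set_option autoImplicit false

namespace Cfsg.Agent.InvChar.PSLFour

open Matrix

universe v w

variable {F : Type v} [Field F]

local notation "SL2" => Matrix.SpecialLinearGroup (Fin 2) F
local notation "PSL3" => Matrix.ProjectiveSpecialLinearGroup (Fin 3) F

theorem charTwo [Fintype F] (hF : Fintype.card F = 4) : CharP F 2 := by
  obtain ⟨p, hp⟩ := CharP.exists F
  obtain ⟨m, hpp, hm⟩ := FiniteField.card F p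
  have h2 : p ∣ 2 ^ 2 := by
    rw [show (2 : ℕ) ^ 2 = 4 by norm_num, ← hF, hm]; exact dvd_pow_self p m.ne_zero
  obtain rfl := (Nat.prime_dvd_prime_iff_eq hpp Nat.prime_two).1 (hpp.dvd_of_dvd_pow h2)
  exact hp

theorem card_PSL [Fintype F] (hF : Fintype.card F = 4) : Nat.card PSL3 = 20160 := by
  have h1 := LinearGroup.gcd_mul_card_PSL (F := F) (n := Fin 3)
  have h2 := LinearGroup.card_SL_eq_pow_mul_prod (F := F) 2
  rw [h2] at h1
  simp [Nat.card_eq_fintype_card, hF, Fin.sum_univ_three, Finset.prod_range_succ] at h1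
  omega

/-- Every 2-subgroup is conjugate into `T`. -/
theorem exists_conj_le_T [Fintype F] (hF : Fintype.card F = 4) (P : Subgroup PSL3)
    (hP : IsPGroup 2 P) : ∃ g : PSL3, ∀ x ∈ P, g * x * g⁻¹ ∈ (T : Subgroup PSL3) := by
  classical
  haveI : Fact (Nat.Prime 2) := ⟨Nat.prime_two⟩
  haveI : Finite PSL3 := Nat.finite_of_card_ne_zero (by rw [card_PSL hF]; norm_num)
  obtain ⟨S, hS⟩ := hP.exists_le_sylow
  have hT : Nat.card (T : Subgroup PSL3) = 2 ^ (Nat.card PSL3).factorization 2 := by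
    rw [card_T hF, card_PSL hF, show (20160 : ℕ) = 2 ^ 6 * 315 by norm_num,
      Nat.factorization_mul (by norm_num) (by norm_num), Finsupp.add_apply,
      Nat.Prime.factorization_pow Nat.prime_two, Finsupp.single_eq_same,
      Nat.factorization_eq_zero_of_not_dvd (by norm_num : ¬ 2 ∣ 315)]; norm_num
  let S₀ : Sylow 2 PSL3 := Sylow.ofCard T hT
  obtain ⟨g, hg⟩ := MulAction.exists_smul_eq PSL3 S S₀
  refine ⟨g, fun x hx => ?_⟩
  have h1 : g * x * g⁻¹ ∈ ((g • S : Sylow 2 PSL3) : Subgroup PSL3) := by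
    rw [Sylow.smul_def, Sylow.pointwise_smul_def]
    exact Subgroup.smul_mem_pointwise_smul x (MulAut.conj g) _ (hS hx)
  rw [hg] at h1
  exact h1

variable {X : Type w} [Group X] [Finite X] (f : X →* Matrix.ProjectiveSpecialLinearGroup (Fin 3) F)
  (hker : ∀ z ∈ f.ker, ∀ x, x * z = z * x) (hsqZ : ∀ z ∈ f.ker, z * z = 1)
  (hsurj : Function.Surjective f)

include hker hsqZ hsurj

theorem sq_lift_of_transitive (U : Subgroup PSL3) (hU : ∀ u ∈ U, u * u = 1) (t : PSL3)
    (htr : ∀ u ∈ U, u ≠ 1 → ∃ g, u = g * t * g⁻¹)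
    (p q r : PSL3) (hp : p ∈ U) (hq : q ∈ U) (hr : r ∈ U)
    (h1 : p ≠ 1) (h2 : q ≠ 1) (h3 : r ≠ 1) (h4 : p * q ≠ 1) (h5 : p * r ≠ 1) (h6 : q * r ≠ 1)
    (h7 : p * (q * r) ≠ 1) {x : X} (hx : f x ∈ U) : x * x = 1 := by
  obtain ⟨x₀, hx₀⟩ := hsurj t
  set z₀ := x₀ * x₀ with hz₀
  have hval : ∀ y : X, f y ∈ U → f y ≠ 1 → y * y = z₀ ∧ z₀ ∈ f.ker := by
    intro y hy hy1
    obtain ⟨g, hg⟩ := htr _ hy hy1
    obtain ⟨g, rfl⟩ := hsurj g
    rw [← hx₀, ← map_inv, ← map_mul, ← map_mul] at hg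
    set z := (g * x₀ * g⁻¹)⁻¹ * y with hzdef
    have hz : z ∈ f.ker := by rw [MonoidHom.mem_ker, hzdef, map_mul, map_inv, hg, inv_mul_cancel]
    have hy2 : y * y ∈ f.ker := by rw [MonoidHom.mem_ker, map_mul]; exact hU _ hy
    have e : y * y = g * z₀ * g⁻¹ := by
      have e1 : y = g * x₀ * g⁻¹ * z := (mul_inv_cancel_left _ _).symm
      calc y * y = g * x₀ * g⁻¹ * (z * (g * x₀ * g⁻¹ * z)) := by
            conv_lhs => rw [e1]
            rw [mul_assoc]
        _ = g * x₀ * g⁻¹ * (g * x₀ * g⁻¹ * z * z) := by rw [hker z hz (g * x₀ * g⁻¹ * z)]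
        _ = g * x₀ * g⁻¹ * (g * x₀ * g⁻¹) := by rw [mul_assoc _ z z, hsqZ z hz, mul_one]
        _ = g * z₀ * g⁻¹ := by rw [hz₀]; group
    have hz0 : z₀ ∈ f.ker := by
      have h' : g⁻¹ * (y * y) * g⁻¹⁻¹ ∈ f.ker := (MonoidHom.normal_ker f).conj_mem _ hy2 g⁻¹
      rw [e] at h'
      simpa [mul_assoc] using h'
    exact ⟨by rw [e, hker _ hz0 g, mul_inv_cancel_right], hz0⟩
  have hcomm : ∀ a b : X, f a ∈ U → f b ∈ U → f a ≠ 1 → f b ≠ 1 → f a * f b ≠ 1 →
      a * b = z₀ * (b * a) := by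
    intro a b ha hb ha1 hb1 hab
    obtain ⟨e1, hz⟩ := hval a ha ha1
    obtain ⟨e2, -⟩ := hval b hb hb1
    obtain ⟨e3, -⟩ := hval (a * b) (by rw [map_mul]; exact mul_mem ha hb) (by rwa [map_mul])
    have ea : a⁻¹ = a * z₀ := inv_eq_of_mul_eq_one_right (by rw [← mul_assoc, e1, hsqZ _ hz])
    have eb : b⁻¹ = b * z₀ := inv_eq_of_mul_eq_one_right (by rw [← mul_assoc, e2, hsqZ _ hz])
    have hab' : (a * b)⁻¹ = a * b * z₀ :=
      inv_eq_of_mul_eq_one_right (by rw [← mul_assoc, e3, hsqZ _ hz])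
    have e : a * b * z₀ = b * z₀ * (a * z₀) := by rw [← hab', _root_.mul_inv_rev, ea, eb]
    rw [mul_assoc b, ← mul_assoc z₀ a z₀, ← hker z₀ hz a, mul_assoc a z₀ z₀, hsqZ _ hz, mul_one] at e
    rw [← e, ← hker z₀ hz (a * b * z₀), mul_assoc _ z₀ z₀, hsqZ _ hz, mul_one]
  have hz1 : z₀ = 1 := by
    obtain ⟨a, rfl⟩ := hsurj p
    obtain ⟨b, rfl⟩ := hsurj q
    obtain ⟨c, rfl⟩ := hsurj r
    have hz := (hval a hp h1).2
    have e1 := hcomm a b hp hq h1 h2 h4
    have e2 := hcomm a c hp hr h1 h3 h5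
    have e3 := hcomm a (b * c) hp (by rw [map_mul]; exact mul_mem hq hr) h1
      (by rwa [map_mul]) (by rwa [map_mul])
    have e : a * (b * c) = b * c * a := by
      calc a * (b * c) = a * b * c := (mul_assoc _ _ _).symm
        _ = z₀ * (b * a) * c := by rw [e1]
        _ = z₀ * b * (a * c) := by simp only [mul_assoc]
        _ = z₀ * b * (z₀ * (c * a)) := by rw [e2]
        _ = z₀ * (z₀ * b) * (c * a) := by
          rw [mul_assoc z₀ b, ← mul_assoc b z₀, hker z₀ hz b]; simp only [mul_assoc]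
        _ = b * c * a := by rw [← mul_assoc z₀, hsqZ _ hz, one_mul, mul_assoc]
    rw [e, right_eq_mul] at e3
    exact e3
  by_cases hx1 : f x = 1
  · exact hsqZ x hx1
  · rw [(hval x hx hx1).1, hz1]

/-- Involutions lift to involutions. -/
theorem sq_lift [Fintype F] (hF : Fintype.card F = 4) {x : X} (hx : f x * f x = 1) : x * x = 1 := by
  classical
  haveI := charTwo hF
  haveI : Fact (Nat.Prime 2) := ⟨Nat.prime_two⟩
  obtain ⟨w, hw0, hw1⟩ : ∃ w : F, w ≠ 0 ∧ w ≠ 1 := by
    have : ∃ w ∈ (Finset.univ : Finset F), w ∉ ({0, 1} : Finset F) := by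
      apply Finset.exists_mem_notMem_of_card_lt_card
      rw [Finset.card_univ, hF]
      exact lt_of_le_of_lt Finset.card_le_two (by norm_num)
    simpa using this
  have h1w : (1 : F) + w ≠ 0 := fun h => hw1 (CharTwo.add_eq_zero.1 h).symm
  have hUr : ∀ y, f y ∈ (Ur : Subgroup PSL3) → y * y = 1 := fun y hy => by
    refine sq_lift_of_transitive f hker hsqZ hsurj Ur (fun u ⟨a, c, h⟩ => ?_) (ptri 1 0 0)
      (fun u hu h1 => Ur_transitive hu h1) (ptri 1 0 0) (ptri 0 0 1) (ptri 0 0 w)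
      (ptri_mem_Ur.2 rfl) (ptri_mem_Ur.2 rfl) (ptri_mem_Ur.2 rfl) ?_ ?_ ?_ ?_ ?_ ?_ ?_ hy
    · rw [h, ptri_mul, CharTwo.add_self_eq_zero, add_zero, mul_zero, add_zero,
        CharTwo.add_self_eq_zero, ptri_zero]
    all_goals
      try simp only [ptri_mul, mul_zero, zero_mul, add_zero, zero_add]
      rw [← ptri_zero]
      intro h
      obtain ⟨ha, -, hc⟩ := ptri_inj h
      first
        | exact one_ne_zero ha
        | exact one_ne_zero hc
        | exact hw0 hc
        | exact h1w hc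
  have hUc : ∀ y, f y ∈ (Uc : Subgroup PSL3) → y * y = 1 := fun y hy => by
    refine sq_lift_of_transitive f hker hsqZ hsurj Uc (fun u ⟨b, c, h⟩ => ?_) (ptri 0 0 1)
      (fun u hu h1 => Uc_transitive hu h1) (ptri 0 1 0) (ptri 0 0 1) (ptri 0 0 w)
      (ptri_mem_Uc.2 rfl) (ptri_mem_Uc.2 rfl) (ptri_mem_Uc.2 rfl) ?_ ?_ ?_ ?_ ?_ ?_ ?_ hy
    · rw [h, ptri_mul, add_zero, CharTwo.add_self_eq_zero, zero_mul, add_zero,
        CharTwo.add_self_eq_zero, ptri_zero]
    all_goals
      try simp only [ptri_mul, mul_zero, zero_mul, add_zero, zero_add]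
      rw [← ptri_zero]
      intro h
      obtain ⟨-, hb, hc⟩ := ptri_inj h
      first
        | exact one_ne_zero hb
        | exact one_ne_zero hc
        | exact hw0 hc
        | exact h1w hc
  obtain ⟨g, hg⟩ := exists_conj_le_T hF (Subgroup.zpowers (f x)) (IsPGroup.of_card (n :=
    if orderOf (f x) = 1 then 0 else 1) (by
      have h := orderOf_dvd_of_pow_eq_one (show (f x) ^ 2 = 1 by rw [pow_two, hx])
      rcases (Nat.dvd_prime Nat.prime_two).1 h with h | h <;> rw [Nat.card_zpowers, h] <;> simp))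
  obtain ⟨y, rfl⟩ := hsurj g
  have hT := hg _ (Subgroup.mem_zpowers (f x))
  rw [← map_inv, ← map_mul, ← map_mul] at hT
  have hsq : f (y * x * y⁻¹) * f (y * x * y⁻¹) = 1 := by
    rw [← map_mul, show y * x * y⁻¹ * (y * x * y⁻¹) = y * (x * x) * y⁻¹ by group, map_mul, map_mul,
      map_mul, hx, mul_one, ← map_mul, mul_inv_cancel, map_one]
  have e : y * x * y⁻¹ * (y * x * y⁻¹) = 1 := by
    rcases mem_or_mem_of_sq hT hsq with h | h
    · exact hUr _ h
    · exact hUc _ h
  rwa [show y * x * y⁻¹ * (y * x * y⁻¹) = y * (x * x) * y⁻¹ by group, conj_eq_one_iff] at e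

theorem isElementaryAbelian_of_map [Fintype F] (hF : Fintype.card F = 4) (H : Subgroup X)
    (hH : ∀ h ∈ H, f h * f h = 1) : Cfsg.IsElementaryAbelian 2 H := by
  have hsq : ∀ h ∈ H, h * h = 1 := fun h hh => sq_lift f hker hsqZ hsurj hF (hH h hh)
  refine ⟨⟨⟨fun a b => Subtype.ext ?_⟩⟩, fun a ha => by rw [pow_two]; exact hsq a ha⟩
  have hi : ∀ c : X, c ∈ H → c⁻¹ = c := fun c hc => inv_eq_of_mul_eq_one_left (hsq c hc)
  show (a : X) * b = b * a
  rw [← hi _ (mul_mem a.2 b.2), _root_.mul_inv_rev, hi _ a.2, hi _ b.2]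

omit hker hsqZ hsurj [Finite X] in
theorem SL2_sq_eq_one [CharP F 2] {A : SL2} : ∀ {k : ℕ}, A ^ 2 ^ k = 1 → A * A = 1 := by
  have key : ∀ B : SL2, B ^ 4 = 1 → B * B = 1 := by
    intro B hB
    have hB' : ((B : Matrix (Fin 2) (Fin 2) F) * B) * ((B : Matrix (Fin 2) (Fin 2) F) * B) = 1 := by
      rw [← Matrix.SpecialLinearGroup.coe_mul, ← Matrix.SpecialLinearGroup.coe_mul,
        ← Matrix.SpecialLinearGroup.coe_one, ← hB]
      simp only [pow_succ, pow_zero, one_mul, mul_assoc]
    set M := (B : Matrix (Fin 2) (Fin 2) F) with hM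
    set t := M 0 0 + M 1 1 with ht
    have hdet : M 0 0 * M 1 1 - M 0 1 * M 1 0 = 1 := by rw [← Matrix.det_fin_two]; exact B.2
    have hch : M * M = t • M + 1 := by
      ext i j
      fin_cases i <;> fin_cases j <;>
        simp [Matrix.mul_apply, Fin.sum_univ_two, ht]
      · linear_combination -hdet - CharTwo.add_self_eq_zero (R := F) 1
      · ring
      · ring
      · linear_combination -hdet - CharTwo.add_self_eq_zero (R := F) 1
    have h2 : (t • M + 1) * (t • M + 1) = 1 := by rw [← hch]; exact hB'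
    have h3 : (t * t) • (M * M) = 0 := by
      have e : (t • M + 1) * (t • M + 1) = (t * t) • (M * M) + (t • M + t • M) + 1 := by
        simp only [add_mul, mul_add, one_mul, mul_one, smul_mul_smul_comm]; abel
      rw [e, show t • M + t • M = 0 by
        rw [← add_smul, CharTwo.add_self_eq_zero, zero_smul], add_zero, add_eq_right] at h2
      exact h2
    have ht0 : t = 0 := by
      have h4 := congrArg Matrix.det h3
      rw [Matrix.det_smul, Matrix.det_mul, Fintype.card_fin, Matrix.det_zero] at h4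
      simpa [show M.det = 1 from B.2] using h4
    apply Subtype.ext
    show M * M = 1
    rw [hch, ht0, zero_smul, zero_add]
  intro k
  induction k generalizing A with
  | zero => intro h; rw [pow_zero, pow_one] at h; rw [h, one_mul]
  | succ k ih =>
    intro h
    rw [pow_succ', pow_mul] at h
    have h4 : A ^ 4 = 1 := by
      have := ih h
      rw [← pow_add] at this
      exact this
    exact key A h4

/-- A complement to the preimage of a radical in its normalizer. -/
theorem exists_complement [Fintype F] (hF : Fintype.card F = 4) (L : SL2 →* PSL3)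
    (hL : Function.Injective L) (U : Subgroup PSL3)
    (hnorm : ∀ A, L A ∈ Subgroup.normalizer (U : Set PSL3)) (hinf : ∀ A, L A ∈ U → L A = 1)
    (hle : Subgroup.normalizer (U : Set PSL3) ≤ U ⊔ L.range) :
    ∃ C : Subgroup X, C ≤ Subgroup.normalizer ((U.comap f : Subgroup X) : Set X) ∧ C ⊓ U.comap f = ⊥ ∧
      U.comap f ⊔ C = Subgroup.normalizer ((U.comap f : Subgroup X) : Set X) ∧
      Nonempty (↥C ≃* Matrix.ProjectiveSpecialLinearGroup (Fin 2) F) := by
  classical
  haveI : Fact (Nat.Prime 2) := ⟨Nat.prime_two⟩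
  haveI := charTwo hF
  let P := L.range.comap f
  let C : Subgroup X := ⁅P, P⁆
  have hCP : C ≤ P := Subgroup.commutator_le_self P
  have hperf : commutator SL2 = ⊤ := LinearGroup.commutator_SL_eq_top' fun _ => by
    obtain ⟨w, hw, hw'⟩ : ∃ w ∈ (Finset.univ : Finset F), w ∉ ({0, 1} : Finset F) := by
      apply Finset.exists_mem_notMem_of_card_lt_card
      rw [Finset.card_univ, hF]
      exact lt_of_le_of_lt Finset.card_le_two (by norm_num)
    simp only [Finset.mem_insert, Finset.mem_singleton, not_or] at hw'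
    refine ⟨w, hw'.1, fun h => hw'.2 ?_⟩
    rw [pow_two] at h
    rcases mul_self_eq_one_iff.1 h with h | h
    · exact h
    · rwa [CharTwo.neg_eq] at h
  have hmapC : C.map f = L.range := by
    rw [Subgroup.map_commutator, Subgroup.map_comap_eq_self_of_surjective hsurj,
      MonoidHom.range_eq_map, ← Subgroup.map_commutator, ← commutator_def, hperf]
  -- the kernel meets the derived group trivially
  have hCker : ∀ z ∈ C, f z = 1 → z = 1 := by
    intro z hz hfz
    let K := ↥P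
    obtain ⟨S⟩ : Nonempty (Sylow 2 K) := inferInstance
    have hSsq : ∀ s ∈ (S : Subgroup K), s * s = 1 := by
      intro s hs
      obtain ⟨k, hk⟩ := IsPGroup.iff_orderOf.1 S.isPGroup' ⟨s, hs⟩
      obtain ⟨A, hA⟩ := (s.2 : f (s : X) ∈ L.range)
      have hs1 : s ^ 2 ^ k = 1 := by
        rw [← hk, Subgroup.orderOf_mk]; exact pow_orderOf_eq_one s
      have hA1 : A ^ 2 ^ k = 1 := hL (by
        rw [map_pow, hA, ← map_pow, ← Subgroup.coe_pow, hs1, Subgroup.coe_one, map_one, map_one])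
      refine Subtype.ext (sq_lift f hker hsqZ hsurj hF ?_)
      rw [← hA, ← map_mul, SL2_sq_eq_one hA1, map_one]
    let hS : CommGroup (S : Subgroup K) :=
      { (inferInstance : Group (S : Subgroup K)) with
        mul_comm := fun a b => Subtype.ext (by
          have hi : ∀ c : K, c ∈ (S : Subgroup K) → c⁻¹ = c := fun c hc =>
            inv_eq_of_mul_eq_one_left (hSsq c hc)
          show (a : K) * b = b * a
          rw [← hi _ (mul_mem a.2 b.2), _root_.mul_inv_rev, hi _ a.2, hi _ b.2]) }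
    let zK : K := ⟨z, hCP hz⟩
    have hzc : ∀ g : K, g * zK = zK * g := fun g => Subtype.ext (hker z hfz g)
    have hnormal : (Subgroup.zpowers zK).Normal := ⟨fun n hn g => by
      obtain ⟨i, rfl⟩ := Subgroup.mem_zpowers_iff.1 hn
      have hc : Commute g zK := hzc g
      rw [(hc.zpow_right i).eq, mul_inv_cancel_right]
      exact Subgroup.zpow_mem _ (Subgroup.mem_zpowers _) _⟩
    have hzsq : zK ^ 2 = 1 := Subtype.ext (by rw [pow_two]; exact hsqZ z hfz)
    have hzP : IsPGroup 2 (Subgroup.zpowers zK) := by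
      rcases (Nat.dvd_prime Nat.prime_two).1 (orderOf_dvd_of_pow_eq_one hzsq) with h | h
      · exact IsPGroup.of_card (n := 0) (by rw [Nat.card_zpowers, h, pow_zero])
      · exact IsPGroup.of_card (n := 1) (by rw [Nat.card_zpowers, h, pow_one])
    have hzS : zK ∈ (S : Subgroup K) := by
      obtain ⟨Q, hQ⟩ := hzP.exists_le_sylow
      obtain ⟨g, hg⟩ := MulAction.exists_smul_eq K Q S
      have h1 : g * zK * g⁻¹ ∈ ((g • Q : Sylow 2 K) : Subgroup K) := by
        rw [Sylow.smul_def, Sylow.pointwise_smul_def]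
        exact Subgroup.smul_mem_pointwise_smul zK (MulAut.conj g) _ (hQ (Subgroup.mem_zpowers _))
      rwa [hg, hzc, mul_inv_cancel_right] at h1
    let τ : K →* (S : Subgroup K) := MonoidHom.transfer (MonoidHom.id (S : Subgroup K))
    have hτ : τ zK = 1 := by
      have hcomm : zK ∈ commutator K := by
        rw [← Subgroup.mem_map_iff_mem (f := P.subtype) P.subtype_injective]
        rw [commutator_def, Subgroup.map_commutator, ← MonoidHom.range_eq_map, Subgroup.range_subtype]
        exact hz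
      exact Abelianization.commutator_subset_ker τ hcomm
    have hidx : Odd (S : Subgroup K).index := by
      rw [← Nat.not_even_iff_odd, even_iff_two_dvd]; exact S.not_dvd_index
    rw [MonoidHom.transfer_eq_pow _ zK fun j g₀ _ => by
      have hc : Commute g₀ zK := hzc g₀
      rw [mul_assoc, ← (hc.pow_right j).eq, inv_mul_cancel_left]] at hτ
    have h1 : zK ^ (S : Subgroup K).index = 1 := congrArg Subtype.val hτ
    obtain ⟨j, hj⟩ := hidx
    rw [hj, pow_add, pow_mul, hzsq, one_pow, one_mul, pow_one] at h1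
    exact congrArg Subtype.val h1
  have hnC : C ≤ Subgroup.normalizer ((U.comap f : Subgroup X) : Set X) := by
    intro c hc
    obtain ⟨A, hA⟩ := (show f c ∈ L.range from hmapC ▸ ⟨c, hc, rfl⟩)
    rw [Subgroup.mem_normalizer_iff]
    intro x
    rw [Subgroup.mem_comap, Subgroup.mem_comap, map_mul, map_mul, map_inv, ← hA]
    exact Subgroup.mem_normalizer_iff.1 (hnorm A) (f x)
  refine ⟨C, hnC, ?_, ?_, ?_⟩
  · rw [eq_bot_iff]
    rintro c ⟨hc, hcU⟩
    obtain ⟨A, hA⟩ := (show f c ∈ L.range from hmapC ▸ ⟨c, hc, rfl⟩)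
    exact hCker c hc (by rw [← hA]; exact hinf A (by rw [hA]; exact hcU))
  · refine le_antisymm (sup_le Subgroup.le_normalizer hnC) fun x hx => ?_
    have hfx : f x ∈ Subgroup.normalizer (U : Set PSL3) := by
      rw [Subgroup.mem_normalizer_iff]
      intro u
      obtain ⟨u, rfl⟩ := hsurj u
      rw [← map_inv, ← map_mul, ← map_mul]
      exact Subgroup.mem_normalizer_iff.1 hx u
    have h1 := hle hfx
    rw [← hmapC] at h1
    obtain ⟨u, rfl⟩ : ∃ u, x = u := ⟨x, rfl⟩
    have hsub : U ⊔ C.map f ≤ (U.comap f ⊔ C).map f := by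
      rw [Subgroup.map_sup, Subgroup.map_comap_eq_self_of_surjective hsurj]
    obtain ⟨y, hy, hyx⟩ := hsub h1
    have hz : y⁻¹ * x ∈ U.comap f := by
      rw [Subgroup.mem_comap, map_mul, map_inv, hyx, inv_mul_cancel]; exact one_mem _
    have := mul_mem hy (Subgroup.mem_sup_left hz : y⁻¹ * x ∈ U.comap f ⊔ C)
    rwa [mul_inv_cancel_left] at this
  · have hbot : Subgroup.center SL2 = ⊥ := by
      rw [eq_bot_iff]
      intro A hA
      obtain ⟨s, hs, hA'⟩ := Matrix.SpecialLinearGroup.mem_center_iff.mp hA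
      rw [Fintype.card_fin, pow_two] at hs
      have hs1 : s = 1 := by
        rcases mul_self_eq_one_iff.1 hs with h | h
        · exact h
        · rwa [CharTwo.neg_eq] at h
      rw [Subgroup.mem_bot]
      apply Subtype.ext
      rw [← hA', hs1, map_one]
      rfl
    let e2 : SL2 ≃* Matrix.ProjectiveSpecialLinearGroup (Fin 2) F :=
      QuotientGroup.quotientBot.symm.trans (QuotientGroup.quotientMulEquivOfEq hbot.symm)
    let fC : C →* L.range := (f.comp C.subtype).codRestrict L.range fun c => hmapC ▸ ⟨c, c.2, rfl⟩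
    have hbij : Function.Bijective fC := by
      constructor
      · rw [injective_iff_map_eq_one]
        exact fun c hc => Subtype.ext (hCker c c.2 (congrArg Subtype.val hc))
      · rintro ⟨y, hy⟩
        obtain ⟨c, hc, rfl⟩ := (show y ∈ C.map f by rw [hmapC]; exact hy)
        exact ⟨⟨c, hc⟩, rfl⟩
    exact ⟨((MulEquiv.ofBijective fC hbij).trans (MonoidHom.ofInjective hL).symm).trans e2⟩

end Cfsg.Agent.InvChar.PSLFour
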