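import Mathlib
import Cfsg.Agent.Lib.LinearGroup.Card
import Cfsg.Agent.Lib.LinearGroup.Generation

/-!
The two maximal parabolic subgroups of `PSL₃(4)` over a common Sylow 2-subgroup.
-/

set_option autoImplicit false

namespace Cfsg.Agent.InvChar.PSLFour

open Matrix

universe v

variable {F : Type v} [Field F]

local notation "SL3" => Matrix.SpecialLinearGroup (Fin 3) F
local notation "SL2" => Matrix.SpecialLinearGroup (Fin 2) F
local notation "PSL3" => Matrix.ProjectiveSpecialLinearGroup (Fin 3) F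

/-- A triangular unipotent matrix. -/
def tri (a b c : F) : SL3 := ⟨!![1, a, c; 0, 1, b; 0, 0, 1], by simp [Matrix.det_fin_three]⟩

theorem tri_mul (a b c a' b' c' : F) :
    tri a b c * tri a' b' c' = tri (a + a') (b + b') (c + c' + a * b') := by
  apply Subtype.ext
  show _ * _ = (tri (a + a') (b + b') (c + c' + a * b')).1
  simp only [tri]
  ext i j
  fin_cases i <;> fin_cases j <;> simp [Matrix.mul_apply, Fin.sum_univ_three] <;> ring

theorem tri_inj {a b c a' b' c' : F} (h : tri a b c = tri a' b' c') :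
    a = a' ∧ b = b' ∧ c = c' := by
  have h' := congrArg (fun g : SL3 => (g : Matrix (Fin 3) (Fin 3) F)) h
  exact ⟨congrFun (congrFun h' 0) 1, congrFun (congrFun h' 1) 2, congrFun (congrFun h' 0) 2⟩

theorem tri_zero : tri (0 : F) 0 0 = 1 := by
  apply Subtype.ext
  ext i j
  fin_cases i <;> fin_cases j <;> simp [tri]

theorem tri_inv (a b c : F) : (tri a b c)⁻¹ = tri (-a) (-b) (a * b - c) := by
  refine inv_eq_of_mul_eq_one_right ?_
  rw [tri_mul, ← tri_zero]
  congr 1 <;> ring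

/-- The image in `PSL₃`. -/
def ptri (a b c : F) : PSL3 := QuotientGroup.mk' _ (tri a b c)

theorem ptri_mul (a b c a' b' c' : F) :
    ptri a b c * ptri a' b' c' = ptri (a + a') (b + b') (c + c' + a * b') := by
  rw [ptri, ptri, ← map_mul, tri_mul]; rfl

theorem ptri_zero : ptri (0 : F) 0 0 = 1 := by rw [ptri, tri_zero, map_one]

theorem ptri_inv (a b c : F) : (ptri a b c)⁻¹ = ptri (-a) (-b) (a * b - c) := by
  rw [ptri, ← map_inv, tri_inv]; rfl

theorem tri_mem_center {a b c : F} (h : tri a b c ∈ Subgroup.center SL3) :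
    a = 0 ∧ b = 0 ∧ c = 0 := by
  obtain ⟨s, -, hs⟩ := Matrix.SpecialLinearGroup.mem_center_iff.mp h
  have h01 := congrFun (congrFun hs 0) 1
  have h02 := congrFun (congrFun hs 0) 2
  have h12 := congrFun (congrFun hs 1) 2
  simp [Matrix.scalar_apply, tri] at h01 h02 h12
  exact ⟨h01.symm, h12.symm, h02.symm⟩

theorem ptri_inj {a b c a' b' c' : F} (h : ptri a b c = ptri a' b' c') :
    a = a' ∧ b = b' ∧ c = c' := by
  have h1 : (tri a b c)⁻¹ * tri a' b' c' ∈ Subgroup.center SL3 := QuotientGroup.eq.1 h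
  rw [tri_inv, tri_mul] at h1
  obtain ⟨h2, h3, h4⟩ := tri_mem_center h1
  have ha : a = a' := by linear_combination -h2
  have hb : b = b' := by linear_combination -h3
  subst ha hb
  exact ⟨rfl, rfl, by linear_combination -h4⟩

/-- The image of the unitriangular group. -/
def T : Subgroup PSL3 where
  carrier := {g | ∃ a b c, g = ptri a b c}
  one_mem' := ⟨0, 0, 0, ptri_zero.symm⟩
  mul_mem' := by
    rintro _ _ ⟨a, b, c, rfl⟩ ⟨a', b', c', rfl⟩
    exact ⟨_, _, _, ptri_mul a b c a' b' c'⟩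
  inv_mem' := by
    rintro _ ⟨a, b, c, rfl⟩
    exact ⟨_, _, _, ptri_inv a b c⟩

/-- The radical of the stabiliser of a point. -/
def Ur : Subgroup PSL3 where
  carrier := {g | ∃ a c, g = ptri a 0 c}
  one_mem' := ⟨0, 0, ptri_zero.symm⟩
  mul_mem' := by
    rintro _ _ ⟨a, c, rfl⟩ ⟨a', c', rfl⟩
    exact ⟨a + a', c + c', by rw [ptri_mul, mul_zero, add_zero, add_zero]⟩
  inv_mem' := by
    rintro _ ⟨a, c, rfl⟩
    exact ⟨-a, -c, by rw [ptri_inv, neg_zero, mul_zero, zero_sub]⟩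

/-- The radical of the stabiliser of a line. -/
def Uc : Subgroup PSL3 where
  carrier := {g | ∃ b c, g = ptri 0 b c}
  one_mem' := ⟨0, 0, ptri_zero.symm⟩
  mul_mem' := by
    rintro _ _ ⟨b, c, rfl⟩ ⟨b', c', rfl⟩
    exact ⟨b + b', c + c', by rw [ptri_mul, zero_mul, add_zero, add_zero]⟩
  inv_mem' := by
    rintro _ ⟨b, c, rfl⟩
    exact ⟨-b, -c, by rw [ptri_inv, neg_zero, zero_mul, zero_sub]⟩

theorem Ur_le_T : (Ur : Subgroup PSL3) ≤ T := fun _ ⟨a, c, h⟩ => ⟨a, 0, c, h⟩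
theorem Uc_le_T : (Uc : Subgroup PSL3) ≤ T := fun _ ⟨b, c, h⟩ => ⟨0, b, c, h⟩

theorem ptri_mem_Ur {a b c : F} : ptri a b c ∈ (Ur : Subgroup PSL3) ↔ b = 0 :=
  ⟨fun ⟨_, _, h⟩ => (ptri_inj h).2.1, fun h => ⟨a, c, by rw [h]⟩⟩

theorem ptri_mem_Uc {a b c : F} : ptri a b c ∈ (Uc : Subgroup PSL3) ↔ a = 0 :=
  ⟨fun ⟨_, _, h⟩ => (ptri_inj h).1, fun h => ⟨b, c, by rw [h]⟩⟩

theorem sup_eq_T : (Ur : Subgroup PSL3) ⊔ Uc = T := by
  refine le_antisymm (sup_le Ur_le_T Uc_le_T) ?_
  rintro _ ⟨a, b, c, rfl⟩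
  have : ptri a b c = ptri a 0 (c - a * b) * ptri 0 b 0 := by
    rw [ptri_mul, add_zero, zero_add, add_zero, sub_add_cancel]
  rw [this]
  exact Subgroup.mul_mem_sup (ptri_mem_Ur.2 rfl) (ptri_mem_Uc.2 rfl)

theorem card_T [Fintype F] (hF : Fintype.card F = 4) : Nat.card (T : Subgroup PSL3) = 64 := by
  rw [← Nat.card_eq_of_bijective (fun p : F × F × F =>
    (⟨ptri p.1 p.2.1 p.2.2, _, _, _, rfl⟩ : (T : Subgroup PSL3)))
    ⟨fun p p' h => by
      obtain ⟨h1, h2, h3⟩ := ptri_inj (congrArg Subtype.val h)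
      exact Prod.ext h1 (Prod.ext h2 h3),
    fun ⟨_, a, b, c, h⟩ => ⟨(a, b, c), Subtype.ext h.symm⟩⟩]
  simp [Nat.card_prod, Nat.card_eq_fintype_card, hF]

theorem card_Ur [Fintype F] (hF : Fintype.card F = 4) : Nat.card (Ur : Subgroup PSL3) = 16 := by
  rw [← Nat.card_eq_of_bijective (fun p : F × F =>
    (⟨ptri p.1 0 p.2, _, _, rfl⟩ : (Ur : Subgroup PSL3)))
    ⟨fun p p' h => by
      obtain ⟨h1, -, h3⟩ := ptri_inj (congrArg Subtype.val h)
      exact Prod.ext h1 h3,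
    fun ⟨_, a, c, h⟩ => ⟨(a, c), Subtype.ext h.symm⟩⟩]
  simp [Nat.card_prod, Nat.card_eq_fintype_card, hF]

theorem card_Uc [Fintype F] (hF : Fintype.card F = 4) : Nat.card (Uc : Subgroup PSL3) = 16 := by
  rw [← Nat.card_eq_of_bijective (fun p : F × F =>
    (⟨ptri 0 p.1 p.2, _, _, rfl⟩ : (Uc : Subgroup PSL3)))
    ⟨fun p p' h => by
      obtain ⟨-, h2, h3⟩ := ptri_inj (congrArg Subtype.val h)
      exact Prod.ext h2 h3,
    fun ⟨_, b, c, h⟩ => ⟨(b, c), Subtype.ext h.symm⟩⟩]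
  simp [Nat.card_prod, Nat.card_eq_fintype_card, hF]

/-- An involution of `T` lies in one of the radicals. -/
theorem mem_or_mem_of_sq [CharP F 2] {x : PSL3} (hx : x ∈ (T : Subgroup PSL3)) (h : x * x = 1) :
    x ∈ (Ur : Subgroup PSL3) ∨ x ∈ (Uc : Subgroup PSL3) := by
  obtain ⟨a, b, c, rfl⟩ := hx
  rw [ptri_mul, ← ptri_zero] at h
  have h' := (ptri_inj h).2.2
  rw [CharTwo.add_self_eq_zero, zero_add] at h'
  rcases mul_eq_zero.1 h' with h | h
  · exact Or.inr (ptri_mem_Uc.2 h)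
  · exact Or.inl (ptri_mem_Ur.2 h)

/-- The elements of `T` commuting with both radicals lie in both. -/
theorem mem_inf_of_commute {x : PSL3} (hx : x ∈ (T : Subgroup PSL3))
    (h : ∀ y ∈ (T : Subgroup PSL3), x * y = y * x) :
    x ∈ (Ur : Subgroup PSL3) ⊓ Uc := by
  obtain ⟨a, b, c, rfl⟩ := hx
  have h1 := h _ ⟨0, 1, 0, rfl⟩
  have h2 := h _ ⟨1, 0, 0, rfl⟩
  rw [ptri_mul, ptri_mul] at h1 h2
  have e1 := (ptri_inj h1).2.2
  have e2 := (ptri_inj h2).2.2
  exact ⟨ptri_mem_Ur.2 (by linear_combination -e2), ptri_mem_Uc.2 (by linear_combination e1)⟩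

/-- The Levi complement for `Ur`. -/
def leviR : SL2 →* SL3 where
  toFun A := ⟨!![1, 0, 0; 0, A.1 0 0, A.1 0 1; 0, A.1 1 0, A.1 1 1], by
    have := A.2
    rw [Matrix.det_fin_two] at this
    simp [Matrix.det_fin_three]; linear_combination this⟩
  map_one' := by
    apply Subtype.ext
    ext i j
    fin_cases i <;> fin_cases j <;> simp
  map_mul' A B := by
    apply Subtype.ext
    show _ = _ * _
    ext i j
    fin_cases i <;> fin_cases j <;>
      simp [Matrix.mul_apply, Fin.sum_univ_three, Fin.sum_univ_two]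

/-- The Levi complement for `Uc`. -/
def leviC : SL2 →* SL3 where
  toFun A := ⟨!![A.1 0 0, A.1 0 1, 0; A.1 1 0, A.1 1 1, 0; 0, 0, 1], by
    have := A.2
    rw [Matrix.det_fin_two] at this
    simp [Matrix.det_fin_three]; linear_combination this⟩
  map_one' := by
    apply Subtype.ext
    ext i j
    fin_cases i <;> fin_cases j <;> simp
  map_mul' A B := by
    apply Subtype.ext
    show _ = _ * _
    ext i j
    fin_cases i <;> fin_cases j <;>
      simp [Matrix.mul_apply, Fin.sum_univ_three, Fin.sum_univ_two]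

theorem leviR_coe (A : SL2) : (leviR A : Matrix (Fin 3) (Fin 3) F) =
    !![1, 0, 0; 0, A.1 0 0, A.1 0 1; 0, A.1 1 0, A.1 1 1] := rfl

theorem leviC_coe (A : SL2) : (leviC A : Matrix (Fin 3) (Fin 3) F) =
    !![A.1 0 0, A.1 0 1, 0; A.1 1 0, A.1 1 1, 0; 0, 0, 1] := rfl

/-- The image of `leviR`. -/
def Lr : SL2 →* PSL3 := (QuotientGroup.mk' _).comp leviR

/-- The image of `leviC`. -/
def Lc : SL2 →* PSL3 := (QuotientGroup.mk' _).comp leviC

theorem Lr_injective : Function.Injective (Lr : SL2 →* PSL3) := by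
  rw [injective_iff_map_eq_one]
  intro A hA
  obtain ⟨s, -, hs⟩ := Matrix.SpecialLinearGroup.mem_center_iff.mp
    ((QuotientGroup.eq_one_iff _).1 hA : leviR A ∈ _)
  have h00 := congrFun (congrFun hs 0) 0
  have h11 := congrFun (congrFun hs 1) 1
  have h22 := congrFun (congrFun hs 2) 2
  have h12 := congrFun (congrFun hs 1) 2
  have h21 := congrFun (congrFun hs 2) 1
  simp [Matrix.scalar_apply, leviR_coe] at h00 h11 h22 h12 h21
  apply Subtype.ext
  ext i j
  fin_cases i <;> fin_cases j <;> simp [← h11, ← h22, ← h12, ← h21, h00]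

theorem Lc_injective : Function.Injective (Lc : SL2 →* PSL3) := by
  rw [injective_iff_map_eq_one]
  intro A hA
  obtain ⟨s, -, hs⟩ := Matrix.SpecialLinearGroup.mem_center_iff.mp
    ((QuotientGroup.eq_one_iff _).1 hA : leviC A ∈ _)
  have h22 := congrFun (congrFun hs 2) 2
  have h00 := congrFun (congrFun hs 0) 0
  have h11 := congrFun (congrFun hs 1) 1
  have h01 := congrFun (congrFun hs 0) 1
  have h10 := congrFun (congrFun hs 1) 0
  simp [Matrix.scalar_apply, leviC_coe] at h22 h00 h11 h01 h10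
  apply Subtype.ext
  ext i j
  fin_cases i <;> fin_cases j <;> simp [← h00, ← h11, ← h01, ← h10, h22]

theorem Lr_conj (A : SL2) (a c a' c' : F)
    (h1 : a' * A.1 0 0 + c' * A.1 1 0 = a) (h2 : a' * A.1 0 1 + c' * A.1 1 1 = c) :
    Lr A * ptri a 0 c = ptri a' 0 c' * Lr A := by
  simp only [Lr, ptri, MonoidHom.coe_comp, Function.comp_apply, ← map_mul]
  congr 1
  apply Subtype.ext
  show _ * _ = _ * _
  ext i j
  fin_cases i <;> fin_cases j <;> simp [leviR_coe, tri, Matrix.mul_apply, Fin.sum_univ_three] <;>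
    first
      | linear_combination -h1
      | linear_combination -h2

theorem Lc_conj (A : SL2) (b c b' c' : F)
    (h1 : A.1 0 0 * c + A.1 0 1 * b = c') (h2 : A.1 1 0 * c + A.1 1 1 * b = b') :
    Lc A * ptri 0 b c = ptri 0 b' c' * Lc A := by
  simp only [Lc, ptri, MonoidHom.coe_comp, Function.comp_apply, ← map_mul]
  congr 1
  apply Subtype.ext
  show _ * _ = _ * _
  ext i j
  fin_cases i <;> fin_cases j <;> simp [leviC_coe, tri, Matrix.mul_apply, Fin.sum_univ_three] <;>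
    first
      | linear_combination h1
      | linear_combination h2

theorem Lr_normalizes (A : SL2) :
    Lr A ∈ Subgroup.normalizer ((Ur : Subgroup PSL3) : Set PSL3) := by
  have key : ∀ (B : SL2) (x : PSL3), x ∈ (Ur : Subgroup PSL3) →
      Lr B * x * (Lr B)⁻¹ ∈ (Ur : Subgroup PSL3) := by
    rintro B _ ⟨a, c, rfl⟩
    have hB := B.2
    rw [Matrix.det_fin_two] at hB
    rw [Lr_conj B a c (a * B.1 1 1 - c * B.1 1 0) (c * B.1 0 0 - a * B.1 0 1)
      (by linear_combination a * hB) (by linear_combination c * hB), mul_inv_cancel_right]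
    exact ptri_mem_Ur.2 rfl
  rw [Subgroup.mem_normalizer_iff]
  intro x
  refine ⟨key A x, fun h => ?_⟩
  have := key A⁻¹ _ h
  rw [map_inv, inv_inv] at this
  simpa [mul_assoc] using this

theorem Lc_normalizes (A : SL2) :
    Lc A ∈ Subgroup.normalizer ((Uc : Subgroup PSL3) : Set PSL3) := by
  have key : ∀ (B : SL2) (x : PSL3), x ∈ (Uc : Subgroup PSL3) →
      Lc B * x * (Lc B)⁻¹ ∈ (Uc : Subgroup PSL3) := by
    rintro B _ ⟨b, c, rfl⟩
    rw [Lc_conj B b c _ _ rfl rfl, mul_inv_cancel_right]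
    exact ptri_mem_Uc.2 rfl
  rw [Subgroup.mem_normalizer_iff]
  intro x
  refine ⟨key A x, fun h => ?_⟩
  have := key A⁻¹ _ h
  rw [map_inv, inv_inv] at this
  simpa [mul_assoc] using this

theorem exists_SL2_row {a c : F} (h : a ≠ 0 ∨ c ≠ 0) :
    ∃ A : SL2, A.1 0 0 = a ∧ A.1 0 1 = c := by
  by_cases ha : a = 0
  · subst ha
    have hc : c ≠ 0 := h.resolve_left (not_not.2 rfl)
    exact ⟨⟨!![0, c; -c⁻¹, 0], by simp [Matrix.det_fin_two, hc]⟩, rfl, rfl⟩
  · exact ⟨⟨!![a, c; 0, a⁻¹], by simp [Matrix.det_fin_two, ha]⟩, rfl, rfl⟩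

theorem Ur_transitive {x : PSL3} (hx : x ∈ (Ur : Subgroup PSL3)) (h1 : x ≠ 1) :
    ∃ g, x = g * ptri 1 0 0 * g⁻¹ := by
  obtain ⟨a, c, rfl⟩ := hx
  obtain ⟨A, hA0, hA1⟩ : ∃ A : SL2, A.1 0 0 = a ∧ A.1 0 1 = c := by
    refine exists_SL2_row ?_
    by_contra! h
    exact h1 (by rw [h.1, h.2, ptri_zero])
  refine ⟨(Lr A)⁻¹, ?_⟩
  rw [inv_inv, mul_assoc, ← Lr_conj A a c 1 0 (by rw [hA0]; ring) (by rw [hA1]; ring),
    inv_mul_cancel_left]

theorem Uc_transitive {x : PSL3} (hx : x ∈ (Uc : Subgroup PSL3)) (h1 : x ≠ 1) :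
    ∃ g, x = g * ptri 0 0 1 * g⁻¹ := by
  obtain ⟨b, c, rfl⟩ := hx
  obtain ⟨A, hA0, hA1⟩ : ∃ A : SL2, A.1 0 0 = c ∧ A.1 1 0 = b := by
    obtain ⟨B, hB0, hB1⟩ := exists_SL2_row (a := c) (c := b) (by
      by_contra! h
      exact h1 (by rw [h.1, h.2, ptri_zero]))
    exact ⟨B.transpose, hB0, hB1⟩
  refine ⟨Lc A, ?_⟩
  rw [Lc_conj A 0 1 b c (by rw [hA0]; ring) (by rw [hA1]; ring), mul_inv_cancel_right]

theorem Lr_inf (A : SL2) (h : Lr A ∈ (Ur : Subgroup PSL3)) : Lr A = 1 := by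
  obtain ⟨a, c, h⟩ := h
  obtain ⟨s, -, hs⟩ := Matrix.SpecialLinearGroup.mem_center_iff.mp
    (QuotientGroup.eq.1 h : (leviR A)⁻¹ * tri a 0 c ∈ _)
  set Z : SL3 := (leviR A)⁻¹ * tri a 0 c with hZ
  have hM : leviR A * Z = tri a 0 c := mul_inv_cancel_left _ _
  have h' := congrArg (fun g : SL3 => (g : Matrix (Fin 3) (Fin 3) F)) hM
  simp only [Matrix.SpecialLinearGroup.coe_mul, ← hs] at h'
  have e01 := congrFun (congrFun h' 0) 1
  have e02 := congrFun (congrFun h' 0) 2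
  simp [leviR_coe, tri, Matrix.mul_apply, Fin.sum_univ_three, Matrix.scalar_apply] at e01 e02
  rw [h, ← e01, ← e02]
  exact ptri_zero

theorem Lc_inf (A : SL2) (h : Lc A ∈ (Uc : Subgroup PSL3)) : Lc A = 1 := by
  obtain ⟨b, c, h⟩ := h
  obtain ⟨s, -, hs⟩ := Matrix.SpecialLinearGroup.mem_center_iff.mp
    (QuotientGroup.eq.1 h : (leviC A)⁻¹ * tri 0 b c ∈ _)
  set Z : SL3 := (leviC A)⁻¹ * tri 0 b c with hZ
  have hM : leviC A * Z = tri 0 b c := mul_inv_cancel_left _ _
  have h' := congrArg (fun g : SL3 => (g : Matrix (Fin 3) (Fin 3) F)) hM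
  simp only [Matrix.SpecialLinearGroup.coe_mul, ← hs] at h'
  have e12 := congrFun (congrFun h' 1) 2
  have e02 := congrFun (congrFun h' 0) 2
  simp [leviC_coe, tri, Matrix.mul_apply, Fin.sum_univ_three, Matrix.scalar_apply] at e12 e02
  rw [h, ← e12, ← e02]
  exact ptri_zero

theorem cube_eq_one [Fintype F] (hF : Fintype.card F = 4) {d : F} (hd : d ≠ 0) : d ^ 3 = 1 := by
  have := FiniteField.pow_card_sub_one_eq_one d hd
  rwa [hF] at this

theorem mk_scalar_mul [Fintype F] (hF : Fintype.card F = 4) {d : F} (hd : d ≠ 0) (g h : SL3)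
    (hgh : (g : Matrix (Fin 3) (Fin 3) F) = Matrix.scalar (Fin 3) d * (h : Matrix (Fin 3) (Fin 3) F)) :
    (QuotientGroup.mk' _ g : PSL3) = QuotientGroup.mk' _ h := by
  let s : SL3 := ⟨Matrix.scalar (Fin 3) d, by simp [Matrix.scalar_apply, cube_eq_one hF hd]⟩
  have hs : s ∈ Subgroup.center SL3 :=
    Matrix.SpecialLinearGroup.mem_center_iff.mpr ⟨d, by simp [cube_eq_one hF hd], rfl⟩
  have e : g = s * h := Subtype.ext hgh
  rw [e, map_mul, show (QuotientGroup.mk' _ s : PSL3) = 1 from (QuotientGroup.eq_one_iff _).2 hs,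
    one_mul]

theorem normalizer_Uc_le [Fintype F] (hF : Fintype.card F = 4) :
    Subgroup.normalizer ((Uc : Subgroup PSL3) : Set PSL3) ≤ Uc ⊔ (Lc : SL2 →* PSL3).range := by
  intro x hx
  obtain ⟨g, rfl⟩ := QuotientGroup.mk'_surjective _ x
  have key : ∀ b c : F, ∃ b' c' d : F,
      (g : Matrix (Fin 3) (Fin 3) F) * (tri 0 b c : SL3).1 =
        Matrix.scalar (Fin 3) d * ((tri 0 b' c' : SL3).1 * (g : Matrix (Fin 3) (Fin 3) F)) := by
    intro b c
    obtain ⟨b', c', h⟩ := ((Subgroup.mem_normalizer_iff.1 hx) _).1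
      (show ptri 0 b c ∈ (Uc : Subgroup PSL3) from ptri_mem_Uc.2 rfl)
    rw [mul_inv_eq_iff_eq_mul, ptri, ptri, ← map_mul, ← map_mul] at h
    obtain ⟨s, -, hs⟩ := Matrix.SpecialLinearGroup.mem_center_iff.mp
      (QuotientGroup.eq.1 h.symm : (tri 0 b' c' * g)⁻¹ * (g * tri 0 b c) ∈ _)
    set Z : SL3 := (tri 0 b' c' * g)⁻¹ * (g * tri 0 b c) with hZ
    have hM : g * tri 0 b c = tri 0 b' c' * g * Z := (mul_inv_cancel_left _ _).symm
    refine ⟨b', c', s, ?_⟩
    rw [← Matrix.SpecialLinearGroup.coe_mul, hM, Matrix.SpecialLinearGroup.coe_mul, ← hs,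
      Matrix.SpecialLinearGroup.coe_mul, (Matrix.scalar_commute s (fun r => mul_comm s r) _).eq]
  set M := (g : Matrix (Fin 3) (Fin 3) F) with hM
  have hdet : M.det = 1 := g.2
  rw [Matrix.det_fin_three] at hdet
  have hzero : ∀ b c : F, ∀ d b' c' : F,
      M * (tri 0 b c : SL3).1 = Matrix.scalar (Fin 3) d * ((tri 0 b' c' : SL3).1 * M) →
      (M 2 0 ≠ 0 ∨ M 2 1 ≠ 0) → M 2 0 * c + M 2 1 * b = 0 := by
    intro b c d b' c' h hne
    have e0 := congrFun (congrFun h 2) 0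
    have e1 := congrFun (congrFun h 2) 1
    have e2 := congrFun (congrFun h 2) 2
    simp only [Matrix.scalar_apply, Matrix.diagonal_mul] at e0 e1 e2
    simp only [Matrix.mul_apply, Fin.sum_univ_three] at e0 e1 e2
    simp [tri] at e0 e1 e2
    have hd : d = 1 := by
      rcases hne with h0 | h0
      · exact mul_right_cancel₀ h0 (by linear_combination -e0)
      · exact mul_right_cancel₀ h0 (by linear_combination -e1)
    subst hd
    linear_combination e2
  have h20 : M 2 0 = 0 := by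
    by_contra hne
    obtain ⟨b', c', d, h⟩ := key 0 1
    exact hne (by linear_combination hzero 0 1 d b' c' h (Or.inl hne))
  have h21 : M 2 1 = 0 := by
    by_contra hne
    obtain ⟨b', c', d, h⟩ := key 1 0
    exact hne (by linear_combination hzero 1 0 d b' c' h (Or.inr hne))
  rw [h20, h21] at hdet
  set d := M 2 2 with hd
  have hd0 : d ≠ 0 := fun h0 => by rw [h0] at hdet; simp at hdet
  have hd3 := cube_eq_one hF hd0
  let A : SL2 := ⟨!![M 0 0 / d, M 0 1 / d; M 1 0 / d, M 1 1 / d], by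
    rw [Matrix.det_fin_two_of]
    field_simp
    linear_combination d ^ 2 * hdet -
      (M 0 0 * M 1 1 - M 0 1 * M 1 0) * hd3⟩
  have e : (QuotientGroup.mk' _ g : PSL3) = ptri 0 (M 1 2 / d) (M 0 2 / d) * Lc A := by
    rw [ptri, Lc, MonoidHom.comp_apply, ← map_mul]
    refine mk_scalar_mul hF hd0 _ _ ?_
    rw [Matrix.SpecialLinearGroup.coe_mul, ← hM]
    ext i j
    simp only [Matrix.scalar_apply, Matrix.diagonal_mul, leviC_coe, leviR_coe]
    simp only [Matrix.mul_apply, Fin.sum_univ_three]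
    fin_cases i <;> fin_cases j <;>
      simp [tri, leviC_coe, A, h20, h21] <;>
      first
        | (field_simp; done)
        | (field_simp; simp [hd])
        | simp [hd]
  rw [e]
  exact Subgroup.mul_mem_sup (ptri_mem_Uc.2 rfl) ⟨A, rfl⟩

theorem normalizer_Ur_le [Fintype F] (hF : Fintype.card F = 4) :
    Subgroup.normalizer ((Ur : Subgroup PSL3) : Set PSL3) ≤ Ur ⊔ (Lr : SL2 →* PSL3).range := by
  intro x hx
  obtain ⟨g, rfl⟩ := QuotientGroup.mk'_surjective _ x
  have key : ∀ a c : F, ∃ a' c' d : F,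
      (g : Matrix (Fin 3) (Fin 3) F) * (tri a 0 c : SL3).1 =
        Matrix.scalar (Fin 3) d * ((tri a' 0 c' : SL3).1 * (g : Matrix (Fin 3) (Fin 3) F)) := by
    intro a c
    obtain ⟨a', c', h⟩ := ((Subgroup.mem_normalizer_iff.1 hx) _).1
      (show ptri a 0 c ∈ (Ur : Subgroup PSL3) from ptri_mem_Ur.2 rfl)
    rw [mul_inv_eq_iff_eq_mul, ptri, ptri, ← map_mul, ← map_mul] at h
    obtain ⟨s, -, hs⟩ := Matrix.SpecialLinearGroup.mem_center_iff.mp
      (QuotientGroup.eq.1 h.symm : (tri a' 0 c' * g)⁻¹ * (g * tri a 0 c) ∈ _)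
    set Z : SL3 := (tri a' 0 c' * g)⁻¹ * (g * tri a 0 c) with hZ
    have hM : g * tri a 0 c = tri a' 0 c' * g * Z := (mul_inv_cancel_left _ _).symm
    refine ⟨a', c', s, ?_⟩
    rw [← Matrix.SpecialLinearGroup.coe_mul, hM, Matrix.SpecialLinearGroup.coe_mul, ← hs,
      Matrix.SpecialLinearGroup.coe_mul, (Matrix.scalar_commute s (fun r => mul_comm s r) _).eq]
  set M := (g : Matrix (Fin 3) (Fin 3) F) with hM
  have hdet : M.det = 1 := g.2
  rw [Matrix.det_fin_three] at hdet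
  have h10 : M 1 0 = 0 := by
    by_contra hne
    obtain ⟨a', c', d, h⟩ := key 1 0
    have e0 := congrFun (congrFun h 1) 0
    have e1 := congrFun (congrFun h 1) 1
    simp only [Matrix.scalar_apply, Matrix.diagonal_mul] at e0 e1
    simp only [Matrix.mul_apply, Fin.sum_univ_three] at e0 e1
    simp [tri] at e0 e1
    have hd : d = 1 := mul_right_cancel₀ hne (by linear_combination -e0)
    subst hd
    exact hne (by linear_combination e1)
  have h20 : M 2 0 = 0 := by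
    by_contra hne
    obtain ⟨a', c', d, h⟩ := key 1 0
    have e0 := congrFun (congrFun h 2) 0
    have e1 := congrFun (congrFun h 2) 1
    simp only [Matrix.scalar_apply, Matrix.diagonal_mul] at e0 e1
    simp only [Matrix.mul_apply, Fin.sum_univ_three] at e0 e1
    simp [tri] at e0 e1
    have hd : d = 1 := mul_right_cancel₀ hne (by linear_combination -e0)
    subst hd
    exact hne (by linear_combination e1)
  rw [h10, h20] at hdet
  set d := M 0 0 with hd
  have hd0 : d ≠ 0 := fun h0 => by rw [h0] at hdet; simp at hdet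
  have hd3 := cube_eq_one hF hd0
  let A : SL2 := ⟨!![M 1 1 / d, M 1 2 / d; M 2 1 / d, M 2 2 / d], by
    rw [Matrix.det_fin_two_of]
    field_simp
    linear_combination d ^ 2 * hdet - (M 1 1 * M 2 2 - M 1 2 * M 2 1) * hd3⟩
  have hAdet := A.2
  rw [Matrix.det_fin_two] at hAdet
  have e : (QuotientGroup.mk' _ g : PSL3) =
      ptri (M 0 1 / d * A.1 1 1 - M 0 2 / d * A.1 1 0) 0
        (M 0 2 / d * A.1 0 0 - M 0 1 / d * A.1 0 1) * Lr A := by
    rw [ptri, Lr, MonoidHom.comp_apply, ← map_mul]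
    refine mk_scalar_mul hF hd0 _ _ ?_
    rw [Matrix.SpecialLinearGroup.coe_mul, ← hM]
    have f1 : d * (M 0 1 / d) = M 0 1 := mul_div_cancel₀ _ hd0
    have f2 : d * (M 0 2 / d) = M 0 2 := mul_div_cancel₀ _ hd0
    have g11 : d * A.1 0 0 = M 1 1 := mul_div_cancel₀ _ hd0
    have g12 : d * A.1 0 1 = M 1 2 := mul_div_cancel₀ _ hd0
    have g21 : d * A.1 1 0 = M 2 1 := mul_div_cancel₀ _ hd0
    have g22 : d * A.1 1 1 = M 2 2 := mul_div_cancel₀ _ hd0
    ext i j
    simp only [Matrix.scalar_apply, Matrix.diagonal_mul, leviC_coe, leviR_coe]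
    simp only [Matrix.mul_apply, Fin.sum_univ_three]
    fin_cases i <;> fin_cases j <;>
      simp [tri, leviR_coe, h10, h20, -mul_eq_mul_left_iff]
    · exact hd.symm
    · linear_combination -f1 - d * (M 0 1 / d) * hAdet
    · linear_combination -f2 - d * (M 0 2 / d) * hAdet
    · exact g11.symm
    · exact g12.symm
    · exact g21.symm
    · exact g22.symm
  rw [e]
  exact Subgroup.mul_mem_sup (ptri_mem_Ur.2 rfl) ⟨A, rfl⟩

end Cfsg.Agent.InvChar.PSLFour
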