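import Mathlib
import Cfsg.Agent.S0016

/-! Two-groups with a central subgroup whose quotient is generalised quaternion. -/

set_option autoImplicit false

namespace Cfsg.Agent.InvChar.QuatQuot

open Subgroup

theorem involution_iff {T : Type*} [Group T] {w : T} : orderOf w = 2 ↔ w ≠ 1 ∧ w * w = 1 := by
  rw [orderOf_eq_iff (by norm_num : 0 < 2), pow_two]
  constructor
  · exact fun h => ⟨fun h1 => h.2 1 one_lt_two Nat.one_pos (by rw [pow_one]; exact h1), h.1⟩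
  · rintro ⟨h1, h2⟩
    refine ⟨h2, fun m hm hm0 => ?_⟩
    obtain rfl : m = 1 := by omega
    rwa [pow_one]

/-- A nonabelian 2-group with a single involution has a cyclic subgroup inverted by the outside. -/
theorem exists_inverted {T : Type*} [Group T] [Finite T] (hT : IsPGroup 2 T)
    (hnab : ¬ IsMulCommutative T) (hu : ∃! x : T, orderOf x = 2) :
    ∃ x : T, x * x ≠ 1 ∧
      ∀ w : T, w ∈ zpowers x ∨ ((w * w) * (w * w) = 1 ∧ w * x * w⁻¹ * x = 1) := by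
  haveI := Fact.mk Nat.prime_two
  obtain ⟨u, -, huu⟩ := hu
  have hsub : ∀ X Y : Subgroup T, Nat.card X = 2 → Nat.card Y = 2 → X = Y := by
    intro X Y hX hY
    obtain ⟨a, ha⟩ := exists_prime_orderOf_dvd_card' (G := X) 2 (hX ▸ dvd_rfl)
    obtain ⟨b, hb⟩ := exists_prime_orderOf_dvd_card' (G := Y) 2 (hY ▸ dvd_rfl)
    rw [← Subgroup.orderOf_coe] at ha hb
    have e : ∀ {Z : Subgroup T}, Nat.card Z = 2 → ∀ c ∈ Z, orderOf c = 2 → zpowers c = Z := by
      intro Z hZ c hc ho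
      exact eq_of_le_of_card_ge (zpowers_le.mpr hc) (by rw [Nat.card_zpowers, ho, hZ])
    rw [← e hX _ a.2 ha, ← e hY _ b.2 hb, huu _ ha, huu _ hb]
  rcases S0016.result 2 hT hsub with hc | ⟨-, n, ⟨e⟩⟩
  · exact absurd (IsCyclic.isMulCommutative (α := T)) hnab
  obtain ⟨N, hN⟩ : ∃ N, 2 ^ n = N := ⟨_, rfl⟩
  rw [hN] at e
  have hN1 : N ≠ 1 := by
    rintro rfl
    exact hnab ⟨⟨fun a b => e.injective (by
      rw [map_mul, map_mul]
      revert a b
      have : ∀ p q : QuaternionGroup 1, p * q = q * p := by decide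
      exact fun a b => this _ _)⟩⟩
  have hN0 : N ≠ 0 := hN ▸ (Nat.two_pow_pos n).ne'
  haveI : NeZero N := ⟨hN0⟩
  refine ⟨e.symm (QuaternionGroup.a 1), ?_, fun w => ?_⟩
  · intro h
    rw [← map_mul, ← map_one e.symm] at h
    have h2 : (QuaternionGroup.a (1 + 1) : QuaternionGroup N) = QuaternionGroup.a 0 := e.symm.injective h
    have h3 := QuaternionGroup.a.inj h2
    have h4 : ((2 : ℕ) : ZMod (2 * N)) = 0 := by simpa [one_add_one_eq_two] using h3
    have := Nat.le_of_dvd (by norm_num) ((ZMod.natCast_eq_zero_iff 2 (2 * N)).mp h4)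
    omega
  obtain ⟨q, rfl⟩ := e.symm.surjective w
  rcases q with i | i
  · left
    refine ⟨i.val, ?_⟩
    show e.symm (QuaternionGroup.a 1) ^ ((i.val : ℕ) : ℤ) = _
    rw [zpow_natCast, ← map_pow, QuaternionGroup.a_one_pow, ZMod.natCast_zmod_val]
  · right
    refine ⟨?_, ?_⟩
    · have h4 : (QuaternionGroup.xa i : QuaternionGroup N) ^ 4 = 1 :=
        (QuaternionGroup.orderOf_xa (n := N) i) ▸ pow_orderOf_eq_one _
      rw [← map_mul, ← map_mul, ← pow_two, ← pow_two, ← pow_mul, h4, map_one]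
    · rw [← map_inv, ← map_mul, ← map_mul, ← map_mul, ← map_one e.symm]
      congr 1
      have : (QuaternionGroup.xa i : QuaternionGroup N) * .a 1 = (.a 1)⁻¹ * .xa i := by
        show QuaternionGroup.xa (i + 1) = QuaternionGroup.xa (i - (-1))
        rw [sub_neg_eq_add]
      rw [this, mul_inv_cancel_right, inv_mul_cancel]

section

variable {S : Type*} [Group S] [Finite S]

theorem coatom_facts (hS : IsPGroup 2 S) {D : Subgroup ↥(center S)} (hD : IsCoatom D) :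
    D.map (center S).subtype ≤ center S ∧
    (∀ w ∈ center S, w * w ∈ D.map (center S).subtype) ∧
    (∃ z ∈ center S, z ∉ D.map (center S).subtype) ∧
    (∀ z ∈ center S, ∀ w ∈ center S, z ∉ D.map (center S).subtype → w ∉ D.map (center S).subtype →
      z * w ∈ D.map (center S).subtype) := by
  have hmem : ∀ w : ↥(center S), (w : S) ∈ D.map (center S).subtype ↔ w ∈ D := fun w => by
    constructor
    · rintro ⟨v, hv, he⟩
      exact (show v = w from Subtype.ext he) ▸ hv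
    · exact fun h => ⟨w, h, rfl⟩
  have hodd : ∀ (w : ↥(center S)) (k : ℤ), w ^ (2 * k + 1) ∈ D → w ∈ D := by
    intro w k hk
    obtain ⟨j, hj⟩ := hS (w : S)
    have hj' : w ^ (2 ^ j) = 1 := Subtype.ext (by simpa using hj)
    have hco : IsCoprime (2 * k + 1) ((2 : ℤ) ^ j) :=
      (show IsCoprime (2 * k + 1) (2 : ℤ) from ⟨1, -k, by ring⟩).pow_right
    obtain ⟨a, b, hab⟩ := hco
    have : w = (w ^ (2 * k + 1)) ^ a * (w ^ ((2 : ℤ) ^ j)) ^ b := by
      rw [← zpow_mul, ← zpow_mul, ← zpow_add, mul_comm (2 * k + 1), mul_comm ((2 : ℤ) ^ j), hab, zpow_one]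
    rw [this]
    refine D.mul_mem (D.zpow_mem hk a) (D.zpow_mem ?_ b)
    rw [show ((2 : ℤ) ^ j) = ((2 ^ j : ℕ) : ℤ) by norm_num, zpow_natCast, hj']
    exact D.one_mem
  have hcm : ∀ a b : ↥(center S), a * b = b * a := fun a b => (IsMulCommutative.is_comm).comm a b
  haveI : D.Normal := ⟨fun a ha b => by rwa [hcm b a, mul_inv_cancel_right]⟩
  have hcover : ∀ v w : ↥(center S), v ∉ D → ∃ d ∈ D, ∃ k : ℤ, w = d * v ^ k := by
    intro v w hv
    have htop : D ⊔ zpowers v = ⊤ :=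
      hD.2 _ (lt_of_le_of_ne le_sup_left fun h => hv (h ▸ mem_sup_right (mem_zpowers v)))
    have hw : w ∈ D ⊔ zpowers v := htop ▸ mem_top w
    obtain ⟨d, hd, u, ⟨k, rfl⟩, rfl⟩ := Subgroup.mem_sup_of_normal_left.mp hw
    exact ⟨d, hd, k, rfl⟩
  have hsq : ∀ w : ↥(center S), w * w ∈ D := by
    intro w
    by_contra h
    obtain ⟨d, hd, k, hk⟩ := hcover (w * w) w h
    refine h (D.mul_mem ?_ ?_) <;>
    · refine hodd w (-k) ?_
      have e : w ^ (2 * -k + 1) = d := by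
        rw [eq_mul_inv_of_mul_eq hk.symm, ← pow_two, ← zpow_natCast w 2, ← zpow_mul, ← zpow_neg,
          ← zpow_one_add]
        congr 1; push_cast; ring
      exact e ▸ hd
  refine ⟨map_subtype_le D, fun w hw => (hmem (⟨w, hw⟩ * ⟨w, hw⟩)).mpr (hsq _), ?_, ?_⟩
  · obtain ⟨z, hz⟩ : ∃ z, z ∉ D := by
      by_contra h; push Not at h
      exact hD.1 (eq_top_iff.mpr fun z _ => h z)
    exact ⟨z, z.2, fun h => hz ((hmem z).mp h)⟩
  · intro z hz w hw hzD hwD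
    have hzD' : (⟨z, hz⟩ : ↥(center S)) ∉ D := fun h => hzD ((hmem ⟨z, hz⟩).mpr h)
    obtain ⟨d, hd, k, hk⟩ := hcover ⟨z, hz⟩ ⟨w, hw⟩ hzD'
    rcases Int.even_or_odd' k with ⟨i, rfl | rfl⟩
    · refine absurd ((hmem ⟨w, hw⟩).mpr ?_) hwD
      rw [hk, zpow_mul]
      exact D.mul_mem hd (D.zpow_mem (by rw [zpow_ofNat, pow_two]; exact hsq _) i)
    · refine (hmem (⟨z, hz⟩ * ⟨w, hw⟩)).mpr ?_
      rw [hk, ← mul_assoc, hcm ⟨z, hz⟩ d, mul_assoc, ← zpow_one_add, show 1 + (2 * i + 1) = 2 * (i + 1) by ring, zpow_mul]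
      exact D.mul_mem hd (D.zpow_mem (by rw [zpow_ofNat, pow_two]; exact hsq _) _)

variable {M : Subgroup S} [M.Normal]

/-- An element squaring into `M` is central. -/
theorem mem_center_of_sq (hu : ∃! u : S ⧸ M, orderOf u = 2) (hM : M ≤ center S)
    {z : S} (hz : z ∈ center S) (hzM : z ∉ M) (hz2 : z * z ∈ M) {w : S} (hw : w * w ∈ M) :
    w ∈ center S := by
  by_cases hwM : w ∈ M
  · exact hM hwM
  obtain ⟨u, -, huu⟩ := hu
  have h1 : ∀ v : S, v ∉ M → v * v ∈ M → orderOf (v : S ⧸ M) = 2 := fun v hv hv2 =>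
    involution_iff.mpr ⟨fun h => hv ((QuotientGroup.eq_one_iff v).mp h),
      by rw [← QuotientGroup.mk_mul]; exact (QuotientGroup.eq_one_iff _).mpr hv2⟩
  have he : (z : S ⧸ M) = (w : S ⧸ M) := (huu _ (h1 z hzM hz2)).trans (huu _ (h1 w hwM hw)).symm
  have := (center S).mul_mem hz (hM (QuotientGroup.eq.mp he))
  rwa [mul_inv_cancel_left] at this

/-- Lifts of the generators. -/
theorem exists_generators (hS : IsPGroup 2 S) (hnab : ¬ IsMulCommutative (S ⧸ M))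
    (hu : ∃! u : S ⧸ M, orderOf u = 2) :
    ∃ x y : S, (x : S ⧸ M) * x ≠ 1 ∧ (y : S ⧸ M) ∉ zpowers (x : S ⧸ M) ∧
      (∀ w : S, (w : S ⧸ M) ∉ zpowers (x : S ⧸ M) → (w * w) * (w * w) ∈ M ∧ w * x * w⁻¹ * x ∈ M) ∧
      (∀ w : S, ∃ k : ℤ, ∃ m ∈ M, w = x ^ k * m ∨ w = x ^ k * y * m) := by
  obtain ⟨xb, hx2, hx⟩ := exists_inverted (hS.to_quotient M) hnab hu
  obtain ⟨x, rfl⟩ := QuotientGroup.mk_surjective xb
  obtain ⟨y, hy⟩ : ∃ y : S, (y : S ⧸ M) ∉ zpowers (x : S ⧸ M) := by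
    by_contra h; push Not at h
    refine hnab ⟨⟨fun a b => ?_⟩⟩
    obtain ⟨a, rfl⟩ := QuotientGroup.mk_surjective a
    obtain ⟨b, rfl⟩ := QuotientGroup.mk_surjective b
    obtain ⟨i, hi⟩ := h a
    obtain ⟨j, hj⟩ := h b
    simp only at hi hj
    rw [← hi, ← hj, ← zpow_add, ← zpow_add, add_comm]
  refine ⟨x, y, hx2, hy, fun w hw => ?_, fun w => ?_⟩
  · obtain ⟨h1, h2⟩ := (hx w).resolve_left hw
    exact ⟨(QuotientGroup.eq_one_iff _).mp h1, (QuotientGroup.eq_one_iff _).mp h2⟩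
  have key : ∀ v : S, (v : S ⧸ M) ∈ zpowers (x : S ⧸ M) → ∃ k : ℤ, ∃ m ∈ M, v = x ^ k * m := by
    rintro v ⟨k, hk⟩
    refine ⟨k, (x ^ k)⁻¹ * v, QuotientGroup.eq.mp ((QuotientGroup.mk_zpow M x k).trans hk), ?_⟩
    rw [mul_inv_cancel_left]
  by_cases hw : (w : S ⧸ M) ∈ zpowers (x : S ⧸ M)
  · obtain ⟨k, m, hm, h⟩ := key w hw
    exact ⟨k, m, hm, Or.inl h⟩
  have hcase : ((w * y⁻¹ : S) : S ⧸ M) ∈ zpowers (x : S ⧸ M) := by
    refine (hx _).resolve_right fun h => hx2 ?_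
    have inv : ∀ v : S ⧸ M, v ∉ zpowers (x : S ⧸ M) → v * x * v⁻¹ = (x : S ⧸ M)⁻¹ := fun v hv =>
      eq_inv_of_mul_eq_one_left ((hx v).resolve_left hv).2
    have h1 : ((w * y⁻¹ : S) : S ⧸ M) * x * ((w * y⁻¹ : S) : S ⧸ M)⁻¹ = x := by
      have hy' := inv _ hy
      have hy'' : (y : S ⧸ M)⁻¹ * x * y = (x : S ⧸ M)⁻¹ := by
        calc (y : S ⧸ M)⁻¹ * x * y = (y : S ⧸ M)⁻¹ * ((y : S ⧸ M) * x * (y : S ⧸ M)⁻¹)⁻¹ * y := by
              rw [hy', inv_inv]
          _ = (x : S ⧸ M)⁻¹ := by group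
      rw [QuotientGroup.mk_mul, QuotientGroup.mk_inv]
      calc (w : S ⧸ M) * (y : S ⧸ M)⁻¹ * x * ((w : S ⧸ M) * (y : S ⧸ M)⁻¹)⁻¹
          = (w : S ⧸ M) * ((y : S ⧸ M)⁻¹ * x * y) * (w : S ⧸ M)⁻¹ := by group
        _ = ((w : S ⧸ M) * x * (w : S ⧸ M)⁻¹)⁻¹ := by rw [hy'']; group
        _ = x := by rw [inv _ hw, inv_inv]
    have h2 := h.2
    rwa [h1] at h2
  obtain ⟨k, m, hm, h⟩ := key _ hcase
  refine ⟨k, y⁻¹ * m * y, (‹M.Normal›).conj_mem' m hm y, Or.inr ?_⟩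
  calc w = w * y⁻¹ * y := by group
    _ = x ^ k * y * (y⁻¹ * m * y) := by rw [h]; group

/-- Elements outside the cyclic subgroup are not central. -/
theorem not_mem_center_of_outside {x w : S} (hx2 : (x : S ⧸ M) * x ≠ 1)
    (hw : w * x * w⁻¹ * x ∈ M) : w ∉ center S := by
  intro hc
  refine hx2 ?_
  rw [← QuotientGroup.mk_mul, QuotientGroup.eq_one_iff]
  rwa [← Subgroup.mem_center_iff.mp hc x, mul_inv_cancel_right] at hw

end

end Cfsg.Agent.InvChar.QuatQuot
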