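import Cfsg.Agent.InvChar.RudvalisTwoGroup
import Mathlib.GroupTheory.SpecificGroups.Dihedral

/-!
# The action of `T / W` on the third term of the upper central series

It is the full unitriangular group of degree three over the field of two elements, a dihedral
group of order eight.
-/

set_option autoImplicit false

open Subgroup
open scoped commutatorElement

namespace Cfsg.Agent.InvChar.Rudvalis

/-- Coordinates for unitriangular matrices of degree three over `ZMod 2`. -/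
abbrev K3 := ZMod 2 × ZMod 2 × ZMod 2

/-- The product of unitriangular matrices. -/
def k3mul (p q : K3) : K3 := (p.1 + q.1, p.2.1 + q.2.1, p.2.2 + q.2.2 + p.1 * q.2.1)

theorem k3mul_zero : ∀ p : K3, k3mul p 0 = p := by decide

theorem zmod2_cases : ∀ a : ZMod 2, a = 0 ∨ a = 1 := by decide

theorem zmod2_eq_of_add : ∀ a b : ZMod 2, a + b = 0 → a = b := by decide

/-- The bijection to the dihedral group of order eight. -/
def toD (p : K3) : DihedralGroup 4 :=
  if p.1 = p.2.1 then .r ((p.1.val + 2 * p.2.2.val : ℕ) : ZMod 4)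
  else if p.1 = 1 then .sr ((2 * p.2.2.val : ℕ) : ZMod 4)
  else .sr ((3 + 2 * p.2.2.val : ℕ) : ZMod 4)

theorem toD_mul : ∀ p q : K3, toD (k3mul p q) = toD p * toD q := by decide

theorem toD_injective : ∀ p q : K3, toD p = toD q → p = q := by decide

variable {T : Type*} [Group T]

/-- Powers with exponent in `ZMod 2`. -/
def pw (z : T) (a : ZMod 2) : T := z ^ a.val

@[simp] theorem pw_zero (z : T) : pw z 0 = 1 := by simp [pw]

@[simp] theorem pw_one (z : T) : pw z 1 = z := by simp [pw, ZMod.val_one]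

theorem pw_add {z : T} (hz : z * z = 1) (a b : ZMod 2) : pw z (a + b) = pw z a * pw z b := by
  rcases zmod2_cases a with rfl | rfl <;> rcases zmod2_cases b with rfl | rfl <;>
    simp [hz, show (1 : ZMod 2) + 1 = 0 by decide]

theorem pw_mem {S : Subgroup T} {z : T} (hz : z ∈ S) (a : ZMod 2) : pw z a ∈ S :=
  pow_mem hz _

/-- `t` acts on the generators by the given coordinates. -/
def Acts (z1 z2 z3 t : T) (p : K3) : Prop :=
  t * z2 * t⁻¹ = z2 * pw z1 p.1 ∧ t * z3 * t⁻¹ = z3 * (pw z2 p.2.1 * pw z1 p.2.2)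

variable [Finite T] {W : Subgroup T}

namespace Hyp

/-- Generators of the first three terms. -/
def IsBasis (z1 z2 z3 : T) : Prop :=
  (z1 ∈ Z T 1 ∧ z1 ∉ Z T 0) ∧ (z2 ∈ Z T 2 ∧ z2 ∉ Z T 1) ∧ (z3 ∈ Z T 3 ∧ z3 ∉ Z T 2)

theorem exists_basis (h : Hyp W) : ∃ z1 z2 z3 : T, IsBasis z1 z2 z3 := by
  obtain ⟨z1, h1⟩ := exists_mem_not_mem h.doubling (k := 0) (by norm_num)
  obtain ⟨z2, h2⟩ := exists_mem_not_mem h.doubling (k := 1) (by norm_num)
  obtain ⟨z3, h3⟩ := exists_mem_not_mem h.doubling (k := 2) (by norm_num)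
  exact ⟨z1, z2, z3, h1, h2, h3⟩

variable {z1 z2 z3 : T}

theorem exists_pw_one (h : Hyp W) (hb : IsBasis z1 z2 z3) {u : T} (hu : u ∈ Z T 1) :
    ∃ a, u = pw z1 a := by
  by_cases h0 : u ∈ Z T 0
  · exact ⟨0, by simpa [Z] using h0⟩
  · have := inv_mul_mem_Z h.doubling (by norm_num) hb.1.1 hu hb.1.2 h0
    exact ⟨1, by simpa [Z, inv_mul_eq_one, eq_comm] using this⟩

theorem exists_pw_two (h : Hyp W) (hb : IsBasis z1 z2 z3) {u : T} (hu : u ∈ Z T 2) :
    ∃ a b, u = pw z2 a * pw z1 b := by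
  by_cases h1 : u ∈ Z T 1
  · obtain ⟨b, rfl⟩ := h.exists_pw_one hb h1
    exact ⟨0, b, by simp⟩
  · obtain ⟨b, hb'⟩ :=
      h.exists_pw_one hb (inv_mul_mem_Z h.doubling (by norm_num) hb.2.1.1 hu hb.2.1.2 h1)
    exact ⟨1, b, by rw [pw_one, ← hb', mul_inv_cancel_left]⟩

theorem pw_one_comm (_h : Hyp W) (hb : IsBasis z1 z2 z3) (a : ZMod 2) (x : T) :
    pw z1 a * x = x * pw z1 a :=
  (mul_inv_eq_iff_eq_mul.mp (conj_eq_of_mem_Z_one (pw_mem hb.1.1 a) x)).symm

theorem pw_pair_eq_one (h : Hyp W) (hb : IsBasis z1 z2 z3) {a b : ZMod 2}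
    (he : pw z2 a * pw z1 b = 1) : a = 0 ∧ b = 0 := by
  rcases zmod2_cases a with rfl | rfl
  · refine ⟨rfl, (zmod2_cases b).resolve_right fun hb1 => hb.1.2 ?_⟩
    subst hb1
    rw [pw_zero, pw_one, one_mul] at he
    rw [he]
    exact one_mem _
  · refine absurd ?_ hb.2.1.2
    rw [pw_one, mul_eq_one_iff_eq_inv] at he
    rw [he]
    exact inv_mem (pw_mem hb.1.1 b)

theorem pw_pair_inj (h : Hyp W) (hb : IsBasis z1 z2 z3) {a b a' b' : ZMod 2}
    (he : pw z2 a * pw z1 b = pw z2 a' * pw z1 b') : a = a' ∧ b = b' := by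
  have s2 := h.Z_three_sq (Z_le (by norm_num : 2 ≤ 3) hb.2.1.1)
  have s1 := h.Z_three_sq (Z_le (by norm_num : 1 ≤ 3) hb.1.1)
  have hone : pw z2 (a' + a) * pw z1 (b + b') = 1 := by
    rw [pw_add s2, pw_add s1]
    calc pw z2 a' * pw z2 a * (pw z1 b * pw z1 b')
        = pw z2 a' * (pw z2 a * pw z1 b) * pw z1 b' := by group
      _ = pw z2 a' * (pw z2 a' * pw z1 b') * pw z1 b' := by rw [he]
      _ = (pw z2 a' * pw z2 a') * (pw z1 b' * pw z1 b') := by group
      _ = 1 := by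
        rw [← pw_add s2, ← pw_add s1, CharTwo.add_self_eq_zero, CharTwo.add_self_eq_zero]
        simp
  obtain ⟨h1, h2⟩ := h.pw_pair_eq_one hb hone
  exact ⟨(zmod2_eq_of_add _ _ h1).symm, zmod2_eq_of_add _ _ h2⟩

theorem exists_acts (h : Hyp W) (hb : IsBasis z1 z2 z3) (t : T) :
    ∃ p, Acts z1 z2 z3 t p := by
  obtain ⟨x, hx⟩ := h.exists_pw_one hb (u := z2⁻¹ * (t * z2 * t⁻¹))
    (by
      have := inv_mem (comm_mem_Z (k := 1) hb.2.1.1 t)
      have e : z2⁻¹ * (t * z2 * t⁻¹) = z2⁻¹ * ⁅z2, t⁆⁻¹ * z2 := by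
        rw [commutatorElement_def]; group
      rw [e]
      exact (inferInstance : (Z T 1).Normal).conj_mem' _ this z2)
  obtain ⟨y, z, hy⟩ := h.exists_pw_two hb (u := z3⁻¹ * (t * z3 * t⁻¹))
    (by
      have := inv_mem (comm_mem_Z (k := 2) hb.2.2.1 t)
      have e : z3⁻¹ * (t * z3 * t⁻¹) = z3⁻¹ * ⁅z3, t⁆⁻¹ * z3 := by
        rw [commutatorElement_def]; group
      rw [e]
      exact (inferInstance : (Z T 2).Normal).conj_mem' _ this z3)
  exact ⟨(x, y, z), by rw [← hx, mul_inv_cancel_left], by rw [← hy, mul_inv_cancel_left]⟩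

theorem acts_unique (h : Hyp W) (hb : IsBasis z1 z2 z3) {t : T} {p q : K3}
    (hp : Acts z1 z2 z3 t p) (hq : Acts z1 z2 z3 t q) : p = q := by
  have e1 := mul_left_cancel (hp.1.symm.trans hq.1)
  have e2 := h.pw_pair_inj hb (mul_left_cancel (hp.2.symm.trans hq.2))
  have e3 := h.pw_pair_inj hb (a := 0) (a' := 0) (by rw [e1] : pw z2 0 * pw z1 p.1 = pw z2 0 * pw z1 q.1)
  exact Prod.ext e3.2 (Prod.ext e2.1 e2.2)

theorem acts_pw_two (h : Hyp W) {t : T} {p : K3} (hp : Acts z1 z2 z3 t p) (a : ZMod 2) :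
    t * pw z2 a * t⁻¹ = pw z2 a * pw z1 (p.1 * a) := by
  rcases zmod2_cases a with rfl | rfl
  · simp
  · simp [hp.1]

theorem acts_mul (h : Hyp W) (hb : IsBasis z1 z2 z3) {t s : T} {p q : K3}
    (hp : Acts z1 z2 z3 t p) (hq : Acts z1 z2 z3 s q) :
    Acts z1 z2 z3 (t * s) (k3mul p q) := by
  have s2 := h.Z_three_sq (Z_le (by norm_num : 2 ≤ 3) hb.2.1.1)
  have s1 := h.Z_three_sq (Z_le (by norm_num : 1 ≤ 3) hb.1.1)
  have cp := fun a => conj_eq_of_mem_Z_one (pw_mem hb.1.1 a) t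
  have hc := h.pw_one_comm hb
  constructor
  · calc t * s * z2 * (t * s)⁻¹ = t * (s * z2 * s⁻¹) * t⁻¹ := by group
      _ = t * z2 * t⁻¹ * (t * pw z1 q.1 * t⁻¹) := by rw [hq.1]; group
      _ = _ := by rw [hp.1, cp, k3mul, mul_assoc, ← pw_add s1]
  · calc t * s * z3 * (t * s)⁻¹ = t * (s * z3 * s⁻¹) * t⁻¹ := by group
      _ = t * z3 * t⁻¹ * (t * pw z2 q.2.1 * t⁻¹ * (t * pw z1 q.2.2 * t⁻¹)) := by
          rw [hq.2]; group
      _ = z3 * (pw z2 p.2.1 * (pw z1 p.2.2 * pw z2 q.2.1) *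
            (pw z1 (p.1 * q.2.1) * pw z1 q.2.2)) := by
          rw [hp.2, cp, h.acts_pw_two hp]; group
      _ = z3 * ((pw z2 p.2.1 * pw z2 q.2.1) *
            (pw z1 p.2.2 * (pw z1 (p.1 * q.2.1) * pw z1 q.2.2))) := by
          rw [hc p.2.2 (pw z2 q.2.1)]; group
      _ = _ := by
          rw [hc (p.1 * q.2.1) (pw z1 q.2.2), k3mul, ← pw_add s2, ← pw_add s1, ← pw_add s1,
            add_assoc]

theorem acts_of_mem (h : Hyp W) (hb : IsBasis z1 z2 z3) {w : T} (hw : w ∈ W) :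
    Acts z1 z2 z3 w 0 := by
  constructor <;> simp [h.conj_eq_self (Z_le (by norm_num : 2 ≤ 3) hb.2.1.1) hw,
    h.conj_eq_self hb.2.2.1 hw]

/-- The identification of `T / W` with the unitriangular group, with the fixed-point property. -/
theorem exists_action (h : Hyp W) [W.Normal] :
    ∃ τ : T ⧸ W → K3, Function.Bijective τ ∧ (∀ a b, τ (a * b) = k3mul (τ a) (τ b)) ∧
      ∀ (t c : T), c ∈ Z T 3 → c ∉ Z T 2 → t * c * t⁻¹ = c →
        (τ (t : T ⧸ W)).2.1 = 0 ∧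
          ((τ (t : T ⧸ W)).1 = 0 → (τ (t : T ⧸ W)).2.2 = 0) := by
  obtain ⟨z1, z2, z3, hb⟩ := h.exists_basis
  choose tri htri using h.exists_acts hb
  have hmk : ∀ t : T, tri (t : T ⧸ W).out = tri t := by
    intro t
    obtain ⟨w, hw⟩ := QuotientGroup.mk_out_eq_mul W t
    have := h.acts_mul hb (htri t) (h.acts_of_mem hb w.2)
    rw [k3mul_zero, ← hw] at this
    exact h.acts_unique hb (htri _) this
  have hinj : Function.Injective fun q : T ⧸ W => tri q.out := by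
    intro q r hqr
    obtain ⟨t, rfl⟩ := QuotientGroup.mk_surjective q
    obtain ⟨s, rfl⟩ := QuotientGroup.mk_surjective r
    simp only [hmk] at hqr
    have ht := htri t
    rw [hqr] at ht
    exact QuotientGroup.eq.mpr (h.inv_mul_mem_of_conj_eq hb.2.1.1 hb.2.1.2 hb.2.2.1 hb.2.2.2
      (ht.1.trans (htri s).1.symm) (ht.2.trans (htri s).2.symm))
  refine ⟨fun q => tri q.out, hinj.bijective_of_nat_card_le ?_, ?_, ?_⟩
  · rw [← index_eq_card, h.orders.1]
    simp [Nat.card_eq_fintype_card]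
  · intro a b
    obtain ⟨t, rfl⟩ := QuotientGroup.mk_surjective a
    obtain ⟨s, rfl⟩ := QuotientGroup.mk_surjective b
    show tri ((t * s : T) : T ⧸ W).out = _
    simp only [hmk]
    exact h.acts_unique hb (htri _) (h.acts_mul hb (htri t) (htri s))
  · intro t c hc hc' hfix
    simp only [hmk]
    obtain ⟨a, b, hab⟩ := h.exists_pw_two hb
      (inv_mul_mem_Z h.doubling (by norm_num) hb.2.2.1 hc hb.2.2.2 hc')
    rw [eq_comm, eq_inv_mul_iff_mul_eq] at hab
    subst hab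
    have s2 := h.Z_three_sq (Z_le (by norm_num : 2 ≤ 3) hb.2.1.1)
    have s1 := h.Z_three_sq (Z_le (by norm_num : 1 ≤ 3) hb.1.1)
    have hcm := h.pw_one_comm hb
    have ht := htri t
    generalize tri t = p at ht
    have e1 : t * (z3 * (pw z2 a * pw z1 b)) * t⁻¹ =
        z3 * (pw z2 (p.2.1 + a) * pw z1 (p.2.2 + p.1 * a)) * pw z1 b := by
      calc t * (z3 * (pw z2 a * pw z1 b)) * t⁻¹
          = t * z3 * t⁻¹ * (t * pw z2 a * t⁻¹) * (t * pw z1 b * t⁻¹) := by group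
        _ = z3 * (pw z2 p.2.1 * (pw z1 p.2.2 * pw z2 a) * pw z1 (p.1 * a)) * pw z1 b := by
            rw [ht.2, h.acts_pw_two ht, conj_eq_of_mem_Z_one (pw_mem hb.1.1 b) t]; group
        _ = _ := by
            rw [hcm p.2.2 (pw z2 a), pw_add s2, pw_add s1]; group
    rw [e1, ← mul_assoc z3 (pw z2 a), mul_left_inj, mul_right_inj] at hfix
    obtain ⟨h1, h2⟩ := h.pw_pair_inj hb (a' := a) (b' := 0) (hfix.trans (by rw [pw_zero, mul_one]))
    refine ⟨by simpa using h1, fun h0 => by simpa [h0] using h2⟩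

end Hyp

end Cfsg.Agent.InvChar.Rudvalis
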