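import Cfsg.Agent.InvChar.RudvalisTwoGroup

/-!
# Automorphisms of odd order of a 2-group of Rudvalis type are trivial
-/

set_option autoImplicit false

open Subgroup
open scoped commutatorElement

namespace Cfsg.Agent.InvChar.Rudvalis.Hyp

variable {T : Type*} [Group T] [Finite T] {W : Subgroup T}

theorem aut_trivial (h : Hyp W) (α : T ≃* T) {n : ℕ} (hn : Odd n) (hα : ∀ t, α^[n] t = t) :
    ∀ t, α t = t := by
  have := Fact.mk Nat.prime_two
  have hZ : ∀ k t, α t ∈ Z T k ↔ t ∈ Z T k := by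
    intro k t
    have := Subgroup.comap_upperCentralSeries α k
    exact ⟨fun ht => by rw [Z, ← this, mem_comap]; exact ht, fun ht => by
      rw [Z, ← this, mem_comap] at ht; exact ht⟩
  have hfix : ∀ x u : T, α x = x * u → α u = u → α x = x := by
    intro x u hx hu
    have hk : ∀ k : ℕ, α^[k] x = x * u ^ k := by
      intro k
      induction k with
      | zero => simp
      | succ k ih =>
        rw [Function.iterate_succ_apply', ih, map_mul, map_pow, hx, hu, mul_assoc, ← pow_succ']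
    have := hk n
    rw [hα, left_eq_mul] at this
    rw [hx, PGroup.eq_one_of_pow_coprime h.p2 (Nat.coprime_two_left.mpr hn) this, mul_one]
  have hstep : ∀ k, k < 3 → (∀ z ∈ Z T k, α z = z) → ∀ z ∈ Z T (k + 1), α z = z := by
    intro k hk ih z hz
    by_cases hz' : z ∈ Z T k
    · exact ih z hz'
    · exact hfix z (z⁻¹ * α z) (mul_inv_cancel_left _ _).symm
        (ih _ (inv_mul_mem_Z h.doubling (by omega) hz ((hZ _ _).mpr hz) hz' (mt (hZ _ _).mp hz')))
  have h0 : ∀ z ∈ Z T 0, α z = z := by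
    intro z hz
    rw [show z = 1 by simpa [Z] using hz, map_one]
  have h3 : ∀ z ∈ Z T 3, α z = z :=
    hstep 2 (by norm_num) (hstep 1 (by norm_num) (hstep 0 (by norm_num) h0))
  have hv : ∀ t, t⁻¹ * α t ∈ W := by
    intro t
    rw [h.eqW, mem_centralizer_iff]
    intro z hz
    have e : α t * z * (α t)⁻¹ = t * z * t⁻¹ := by
      conv_lhs => rw [← h3 z hz]
      rw [← map_mul, ← map_inv, ← map_mul]
      exact h3 _ (conj_mem_Z hz t)
    calc z * (t⁻¹ * α t) = t⁻¹ * (t * z * t⁻¹) * α t := by group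
      _ = t⁻¹ * (α t * z * (α t)⁻¹) * α t := by rw [e]
      _ = t⁻¹ * α t * z := by group
  have hαW : ∀ w ∈ W, α w ∈ W := fun w hw => by
    have := mul_mem hw (hv w)
    rwa [mul_inv_cancel_left] at this
  have hd : ∀ x ∈ W, x⁻¹ * α x ∈ W := fun x _ => hv x
  -- the twisted squares
  let I : Subgroup T :=
    { carrier := {y | ∃ x ∈ W, ∃ c ∈ Z T 3, y = c * (x⁻¹ * α x)}
      one_mem' := ⟨1, one_mem W, 1, one_mem _, by simp⟩
      mul_mem' := by
        rintro _ _ ⟨x, hx, c, hc, rfl⟩ ⟨x', hx', c', hc', rfl⟩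
        have hcomm := h.comm_mem (hd x hx) (inv_mem hx')
        refine ⟨x * x', mul_mem hx hx', c * c' * ⁅x⁻¹ * α x, x'⁻¹⁆,
          mul_mem (mul_mem hc hc') hcomm, ?_⟩
        calc c * (x⁻¹ * α x) * (c' * (x'⁻¹ * α x'))
            = c * (x⁻¹ * α x * c') * (x'⁻¹ * α x') := by group
          _ = c * (c' * (x⁻¹ * α x)) * (x'⁻¹ * α x') := by
              rw [h.comm_Z_three hc' (hd x hx)]
          _ = _ := by simp only [commutatorElement_def, map_mul]; group
      inv_mem' := by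
        rintro _ ⟨x, hx, c, hc, rfl⟩
        have hd' := inv_mem (hd x hx)
        have hcomm := h.comm_mem hx hd'
        refine ⟨x⁻¹, inv_mem hx, c⁻¹ * ⁅x, (x⁻¹ * α x)⁻¹⁆⁻¹,
          mul_mem (inv_mem hc) (inv_mem hcomm), ?_⟩
        rw [mul_inv_rev, ← h.comm_Z_three (inv_mem hc) hd', commutatorElement_def, map_inv]
        group }
  have hIn : I.Normal := by
    refine ⟨?_⟩
    rintro _ ⟨x, hx, c, hc, rfl⟩ t
    have hc1 := h.comm_mem (hv t) (hαW x hx)
    refine ⟨t * x * t⁻¹, h.conjN_mem hx t,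
      t * c * t⁻¹ * (t * ⁅t⁻¹ * α t, α x⁆ * t⁻¹)⁻¹,
      mul_mem (conj_mem_Z hc t) (inv_mem (conj_mem_Z hc1 t)), ?_⟩
    have e : (t * x * t⁻¹)⁻¹ * α (t * x * t⁻¹) =
        t * (⁅t⁻¹ * α t, α x⁆ * (x⁻¹ * α x)) * t⁻¹ := by
      rw [← mul_assoc ⁅t⁻¹ * α t, α x⁆, h.comm_Z_three hc1 (inv_mem hx), map_mul, map_mul,
        map_inv, commutatorElement_def]
      group
    rw [e]
    group
  have hW3 : ∀ x ∈ W, α x = x := by
    intro x hx
    rcases le_or_Z_le h.p2 h.doubling I 3 le_rfl with hle | hge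
    · have hu : x⁻¹ * α x ∈ Z T 3 := hle ⟨x, hx, 1, one_mem _, (one_mul _).symm⟩
      exact hfix x _ (mul_inv_cancel_left _ _).symm (h3 _ hu)
    · exfalso
      obtain ⟨z, hz, hz'⟩ := exists_mem_not_mem h.doubling (k := 3) (by norm_num)
      obtain ⟨y, hy, c, hc, hzy⟩ := hge hz
      have hu : y⁻¹ * α y ∈ Z T (3 + 1) := by
        rw [show y⁻¹ * α y = c⁻¹ * z by rw [hzy, inv_mul_cancel_left]]
        exact mul_mem (inv_mem (Z_le (by norm_num) hc)) hz
      have hu' : y⁻¹ * α y ∉ Z T 3 := fun hh => hz' (hzy ▸ mul_mem hc hh)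
      have hc0 := inv_mul_mem_Z h.doubling (by norm_num) hu ((hZ _ _).mpr hu) hu'
        (mt (hZ _ _).mp hu')
      generalize hu0 : y⁻¹ * α y = u at hu hu' hc0
      have hαy : α y = y * u := by rw [← hu0, mul_inv_cancel_left]
      have hk : ∀ k : ℕ, ∃ c ∈ Z T 3, α^[k] y = y * u ^ k * c := by
        intro k
        induction k with
        | zero => exact ⟨1, one_mem _, by simp⟩
        | succ k ih =>
          obtain ⟨c, hc, hk⟩ := ih
          refine ⟨(u⁻¹ * α u) ^ k * c, mul_mem (pow_mem hc0 k) hc, ?_⟩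
          have hcm : Commute u (u⁻¹ * α u) :=
            (h.comm_Z_three hc0 (h.Z_four_le hu)).symm
          rw [Function.iterate_succ_apply', hk, map_mul, map_mul, map_pow, hαy, h3 c hc,
            show α u = u * (u⁻¹ * α u) from (mul_inv_cancel_left _ _).symm, hcm.mul_pow, pow_succ']
          simp only [mul_assoc, inv_mul_cancel_left]
      obtain ⟨c', hc', hcn⟩ := hk n
      rw [hα, mul_assoc, left_eq_mul] at hcn
      obtain ⟨m, rfl⟩ := hn
      have hodd : u ^ (2 * m + 1) ∈ Z T 3 := by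
        rw [mul_eq_one_iff_eq_inv.mp hcn]; exact inv_mem hc'
      rw [pow_succ, pow_mul, pow_two] at hodd
      exact hu' ((mul_mem_cancel_left (pow_mem (sq_mem_Z h.doubling (by norm_num) hu) m)).mp hodd)
  exact fun t => hfix t (t⁻¹ * α t) (mul_inv_cancel_left _ _).symm (hW3 _ (hv t))

end Cfsg.Agent.InvChar.Rudvalis.Hyp
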