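import Cfsg.Agent.Lib.PGroup.Basic

/-!
# 2-groups of Rudvalis type: upper central series and index-two subgroups

Basic facts for S3174 and S3175.
-/

set_option autoImplicit false

open Subgroup
open scoped commutatorElement

namespace Cfsg.Agent.InvChar.Rudvalis

section General

variable {G : Type*} [Group G]

/-- The multiplicative cyclic group of order two. -/
abbrev M2 := Multiplicative (ZMod 2)

/-- The non-trivial element of `M2`. -/
abbrev eps : M2 := Multiplicative.ofAdd 1

theorem eps_ne_one : eps ≠ 1 := by decide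

theorem eps_mul_eps : eps * eps = 1 := by decide

theorem m2_cases : ∀ x : M2, x = 1 ∨ x = eps := by decide

theorem m2_sq : ∀ x : M2, x * x = 1 := by decide

/-- A subgroup containing all squares is normal. -/
theorem normal_of_sq_mem {U : Subgroup G} (h : ∀ x : G, x * x ∈ U) : U.Normal := by
  refine ⟨fun u hu x => ?_⟩
  have e : x * u * x⁻¹ = ((x * u) * (x * u)) * u⁻¹ * (x * x)⁻¹ := by group
  rw [e]
  exact mul_mem (mul_mem (h _) (inv_mem hu)) (inv_mem (h x))

/-- In a group with all squares in `N`, a subgroup of index two containing `N` avoids any given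
element outside `N`. -/
theorem exists_index_two_avoid [Finite G] (N : Subgroup G) (hN : ∀ x : G, x * x ∈ N) {z : G}
    (hz : z ∉ N) : ∃ U : Subgroup G, N ≤ U ∧ z ∉ U ∧ U.index = 2 := by
  obtain ⟨U, ⟨hNU, hzU⟩, hmax⟩ :=
    (Set.toFinite {M : Subgroup G | N ≤ M ∧ z ∉ M}).exists_maximal ⟨N, le_refl _, hz⟩
  have hUn : U.Normal := normal_of_sq_mem fun x => hNU (hN x)
  have hkey : ∀ x : G, x ∉ U → x * z ∈ U := by
    intro x hx
    have hlt : U < U ⊔ zpowers x :=
      lt_of_le_of_ne le_sup_left fun he => hx (he ▸ mem_sup_right (mem_zpowers x))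
    have hzin : z ∈ U ⊔ zpowers x := by
      by_contra hc
      exact hlt.not_ge (hmax ⟨hNU.trans hlt.le, hc⟩ hlt.le)
    obtain ⟨u, hu, w, hw, rfl⟩ := mem_sup_of_normal_left.mp hzin
    obtain ⟨i, rfl⟩ := mem_zpowers_iff.mp hw
    rcases Int.even_or_odd i with ⟨k, rfl⟩ | ⟨k, rfl⟩
    · exfalso
      apply hzU
      refine mul_mem hu ?_
      rw [zpow_add]
      exact hNU (hN _)
    · have hxx : x ^ (2 * k + 1) * x ∈ U := by
        have e : x ^ (2 * k + 1) * x = x ^ (k + 1) * x ^ (k + 1) := by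
          rw [← zpow_add_one, ← zpow_add]; congr 1; ring
        rw [e]
        exact hNU (hN _)
      have e : x * (u * x ^ (2 * k + 1)) = (x * u * x⁻¹) * (x ^ (2 * k + 1) * x) := by
        group
      rw [e]
      exact mul_mem (hUn.conj_mem u hu x) hxx
  refine ⟨U, hNU, hzU, index_eq_two_iff.mpr ⟨z, fun b => ?_⟩⟩
  by_cases hb : b ∈ U
  · exact Or.inr ⟨hb, fun h => hzU ((mul_mem_cancel_left hb).mp h)⟩
  · exact Or.inl ⟨hkey b hb, hb⟩

/-- A relative form of `exists_index_two_avoid`. -/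
theorem exists_relIndex_two_avoid [Finite G] {K N : Subgroup G} (hNK : N ≤ K)
    (hN : ∀ x ∈ K, x * x ∈ N) {z : G} (hzK : z ∈ K) (hz : z ∉ N) :
    ∃ U : Subgroup G, N ≤ U ∧ U ≤ K ∧ z ∉ U ∧ U.relIndex K = 2 := by
  obtain ⟨U, h1, h2, h3⟩ := exists_index_two_avoid (N.subgroupOf K)
    (fun x => mem_subgroupOf.mpr (hN x x.2)) (z := ⟨z, hzK⟩) (fun h => hz (mem_subgroupOf.mp h))
  refine ⟨U.map K.subtype, ?_, map_subtype_le _, ?_, ?_⟩
  · intro x hx
    exact ⟨⟨x, hNK hx⟩, h1 (mem_subgroupOf.mpr hx), rfl⟩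
  · rintro ⟨y, hy, hyz⟩
    exact h2 (by rwa [show (⟨z, hzK⟩ : K) = y from Subtype.ext hyz.symm])
  · rw [relIndex, subgroupOf, comap_map_eq_self_of_injective K.subtype_injective, h3]

/-- A subgroup in which any two outside elements multiply into it has index at most two. -/
theorem index_le_two_of_mul_mem {H : Subgroup G} (h : ∀ a b, a ∉ H → b ∉ H → a * b ∈ H) :
    H.index ≤ 2 := by
  by_cases ht : H = ⊤
  · simp [ht]
  obtain ⟨a, ha⟩ : ∃ a, a ∉ H := by
    by_contra hc
    push Not at hc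
    exact ht (eq_top_iff.mpr fun x _ => hc x)
  refine le_of_eq (index_eq_two_iff.mpr ⟨a, fun b => ?_⟩)
  by_cases hb : b ∈ H
  · exact Or.inr ⟨hb, fun hh => ha ((mul_mem_cancel_left hb).mp hh)⟩
  · exact Or.inl ⟨h b a hb ha, hb⟩

/-- Relative form of `index_le_two_of_mul_mem`. -/
theorem relIndex_le_two_of_mul_mem {H K : Subgroup G}
    (h : ∀ a ∈ K, ∀ b ∈ K, a ∉ H → b ∉ H → a * b ∈ H) : H.relIndex K ≤ 2 :=
  index_le_two_of_mul_mem fun a b ha hb => mem_subgroupOf.mpr
    (h a a.2 b b.2 (fun x => ha (mem_subgroupOf.mpr x)) fun x => hb (mem_subgroupOf.mpr x))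

/-- A subgroup of index two is the kernel of a homomorphism to `M2`. -/
theorem exists_hom_of_index_two {U : Subgroup G} (hU : U.index = 2) :
    ∃ f : G →* M2, f.ker = U := by
  classical
  let F : G →* M2 :=
    { toFun := fun x => if x ∈ U then 1 else eps
      map_one' := if_pos (one_mem U)
      map_mul' := fun a b => by
        have := mul_mem_iff_of_index_two hU (a := a) (b := b)
        by_cases ha : a ∈ U <;> by_cases hb : b ∈ U <;> simp [ha, hb, this, eps_mul_eps] }
  refine ⟨F, ?_⟩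
  ext x
  rw [MonoidHom.mem_ker]
  show (if x ∈ U then (1 : M2) else eps) = 1 ↔ x ∈ U
  by_cases hx : x ∈ U <;> simp [hx, eps_ne_one]

/-- Adjoining an element whose square lies in `L` and which normalizes `L`. -/
theorem exists_relIndex_le_two_adjoin (L : Subgroup G) (u : G) (hn : ∀ l ∈ L, u * l * u⁻¹ ∈ L)
    (hu : u * u ∈ L) : ∃ S : Subgroup G, L ≤ S ∧ u ∈ S ∧ L.relIndex S ≤ 2 := by
  have hn' : ∀ l ∈ L, u⁻¹ * l * u ∈ L := fun l hl => by
    have e : u⁻¹ * l * u = (u * u)⁻¹ * (u * l * u⁻¹) * (u * u) := by group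
    rw [e]
    exact mul_mem (mul_mem (inv_mem hu) (hn l hl)) hu
  have hmm : ∀ a b, u⁻¹ * a ∈ L → u⁻¹ * b ∈ L → a * b ∈ L := fun a b ha hb => by
    have e : a * b = (u * (u⁻¹ * a) * u⁻¹) * ((u * u) * (u⁻¹ * b)) := by group
    rw [e]
    exact mul_mem (hn _ ha) (mul_mem hu hb)
  let S : Subgroup G :=
    { carrier := {g | g ∈ L ∨ u⁻¹ * g ∈ L}
      one_mem' := Or.inl (one_mem L)
      mul_mem' := fun {a b} ha hb => by
        rcases ha with ha | ha <;> rcases hb with hb | hb
        · exact Or.inl (mul_mem ha hb)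
        · right
          have e : u⁻¹ * (a * b) = (u⁻¹ * a * u) * (u⁻¹ * b) := by group
          rw [e]
          exact mul_mem (hn' a ha) hb
        · right
          rw [← mul_assoc]
          exact mul_mem ha hb
        · exact Or.inl (hmm a b ha hb)
      inv_mem' := fun {a} ha => by
        rcases ha with ha | ha
        · exact Or.inl (inv_mem ha)
        · right
          have e : u⁻¹ * a⁻¹ = (u⁻¹ * (u⁻¹ * a)⁻¹ * u) * (u * u)⁻¹ := by group
          rw [e]
          exact mul_mem (hn' _ (inv_mem ha)) (inv_mem hu) }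
  refine ⟨S, fun x hx => Or.inl hx, Or.inr (by rw [inv_mul_cancel]; exact one_mem L), ?_⟩
  refine relIndex_le_two_of_mul_mem fun a ha b hb ha' hb' => ?_
  exact hmm a b (ha.resolve_left ha') (hb.resolve_left hb')

end General

section Series

variable {T : Type*} [Group T]

/-- The upper central series. -/
abbrev Z (T : Type*) [Group T] (k : ℕ) : Subgroup T := Subgroup.upperCentralSeries T k

theorem comm_mem_Z {k : ℕ} {x : T} (hx : x ∈ Z T (k + 1)) (t : T) : ⁅x, t⁆ ∈ Z T k :=
  Subgroup.mem_upperCentralSeries_succ_iff.mp hx t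

theorem comm_mem_Z' {k : ℕ} {x : T} (hx : x ∈ Z T (k + 1)) (t : T) : ⁅t, x⁆ ∈ Z T k := by
  rw [← commutatorElement_inv]
  exact inv_mem (comm_mem_Z hx t)

theorem Z_le {k l : ℕ} (h : k ≤ l) : Z T k ≤ Z T l := Subgroup.upperCentralSeries_mono T h

theorem conj_mem_Z {k : ℕ} {x : T} (hx : x ∈ Z T k) (t : T) : t * x * t⁻¹ ∈ Z T k :=
  (inferInstance : (Z T k).Normal).conj_mem x hx t

/-- Elements of the first term are central. -/
theorem conj_eq_of_mem_Z_one {x : T} (hx : x ∈ Z T 1) (t : T) : t * x * t⁻¹ = x := by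
  have h : x ∈ center T := by rw [← Subgroup.upperCentralSeries_one T]; exact hx
  rw [mem_center_iff.mp h t, mul_inv_cancel_right]

theorem Z_eq_of_succ_eq {k : ℕ} (h : Z T k = Z T (k + 1)) : ∀ n, Z T (k + n) = Z T k
  | 0 => rfl
  | n + 1 => by
    ext x
    have ih := Z_eq_of_succ_eq h n
    rw [← add_assoc]
    conv_rhs => rw [h]
    simp only [Z, Subgroup.mem_upperCentralSeries_succ_iff] at ih ⊢
    simp only [ih]

variable [Finite T]

/-- If the fourth term has order 16 in a bigger 2-group, the first terms double in order. -/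
theorem card_Z (hT : IsPGroup 2 T) (hbig : 16 < Nat.card T) (h4 : Nat.card (Z T 4) = 16) :
    ∀ k ≤ 4, Nat.card (Z T k) = 2 ^ k := by
  have hstrict : ∀ k < 4, Z T k < Z T (k + 1) := by
    intro k hk
    refine lt_of_le_of_ne (Z_le (Nat.le_succ k)) fun h => ?_
    have := hT.isNilpotent
    obtain ⟨n, hn⟩ := Group.IsNilpotent.nilpotent T
    have h1 : (⊤ : Subgroup T) ≤ Z T (k + n) := by
      rw [← hn]; exact Z_le (Nat.le_add_left n k)
    rw [Z_eq_of_succ_eq h n] at h1
    have h2 : Z T 4 = ⊤ := top_le_iff.mp (h1.trans (Z_le hk.le))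
    rw [h2, card_top] at h4
    omega
  have hstep : ∀ k < 4, 2 * Nat.card (Z T k) ≤ Nat.card (Z T (k + 1)) := by
    intro k hk
    obtain ⟨m, hm⟩ := card_dvd_of_le (hstrict k hk).le
    have hm2 : 2 ≤ m := by
      by_contra hc
      have : m = 0 ∨ m = 1 := by omega
      rcases this with rfl | rfl
      · exact Nat.card_pos.ne' (by simpa using hm)
      · exact (hstrict k hk).ne (eq_of_le_of_card_ge (hstrict k hk).le (by omega))
    rw [hm, mul_comm 2]
    exact Nat.mul_le_mul_left _ hm2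
  have h0 : Nat.card (Z T 0) = 1 := by simp [Z]
  have a0 := hstep 0 (by norm_num)
  have a1 := hstep 1 (by norm_num)
  have a2 := hstep 2 (by norm_num)
  have a3 := hstep 3 (by norm_num)
  intro k hk
  interval_cases k <;> norm_num <;> norm_num at a0 a1 a2 a3 <;> omega

/-- The first terms of the series have index two in the next. -/
def Doubling (T : Type*) [Group T] : Prop := ∀ k ≤ 4, Nat.card (Z T k) = 2 ^ k

theorem relIndex_Z (hd : Doubling T) {k : ℕ} (hk : k < 4) :
    (Z T k).relIndex (Z T (k + 1)) = 2 := by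
  have h := relIndex_mul_relIndex (H := ⊥) (K := Z T k) (L := Z T (k + 1)) bot_le
    (Z_le (Nat.le_succ k))
  rw [relIndex_bot_left, relIndex_bot_left, hd k hk.le, hd (k + 1) hk, pow_succ] at h
  exact Nat.eq_of_mul_eq_mul_left (by positivity) h

theorem exists_mem_not_mem (hd : Doubling T) {k : ℕ} (hk : k < 4) :
    ∃ z, z ∈ Z T (k + 1) ∧ z ∉ Z T k := by
  refine SetLike.exists_of_lt (lt_of_le_of_ne (Z_le (Nat.le_succ k)) fun h => ?_)
  have := relIndex_Z hd hk
  rw [h, relIndex_self] at this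
  omega

/-- Two elements of a term outside the previous one differ by an element of the previous one. -/
theorem inv_mul_mem_Z (hd : Doubling T) {k : ℕ} (hk : k < 4) {a b : T} (ha : a ∈ Z T (k + 1))
    (hb : b ∈ Z T (k + 1)) (ha' : a ∉ Z T k) (hb' : b ∉ Z T k) : a⁻¹ * b ∈ Z T k := by
  have h := mul_mem_iff_of_index_two (relIndex_Z hd hk)
    (a := (⟨a, ha⟩ : Z T (k + 1))⁻¹) (b := ⟨b, hb⟩)
  simp only [mem_subgroupOf, coe_mul, coe_inv, inv_mem_iff] at h
  exact h.mpr ⟨fun x => absurd x ha', fun x => absurd x hb'⟩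

theorem mul_mem_Z (hd : Doubling T) {k : ℕ} (hk : k < 4) {a b : T} (ha : a ∈ Z T (k + 1))
    (hb : b ∈ Z T (k + 1)) (ha' : a ∉ Z T k) (hb' : b ∉ Z T k) : a * b ∈ Z T k := by
  have := inv_mul_mem_Z hd hk (inv_mem ha) hb (fun h => ha' (inv_mem_iff.mp h)) hb'
  rwa [inv_inv] at this

theorem sq_mem_Z (hd : Doubling T) {k : ℕ} (hk : k < 4) {a : T} (ha : a ∈ Z T (k + 1)) :
    a * a ∈ Z T k := by
  by_cases h : a ∈ Z T k
  · exact mul_mem h h
  · exact mul_mem_Z hd hk ha ha h h

/-- A normal subgroup lies in a term of the series or contains the next one. -/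
theorem le_or_Z_le (hT : IsPGroup 2 T) (hd : Doubling T) (N : Subgroup T) [hN : N.Normal] :
    ∀ k ≤ 3, N ≤ Z T k ∨ Z T (k + 1) ≤ N := by
  have hex : ∀ k, ¬ N ≤ Z T k → ∃ x ∈ N, x ∈ Z T (k + 1) ∧ x ∉ Z T k := by
    intro k hk
    have := hT.isNilpotent
    obtain ⟨n, hn⟩ := Group.IsNilpotent.nilpotent T
    have hind : ∀ m, ∀ x ∈ N, x ∈ Z T m → x ∉ Z T k →
        ∃ x ∈ N, x ∈ Z T (k + 1) ∧ x ∉ Z T k := by
      intro m
      induction m with
      | zero =>
        intro x _ hx0 hx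
        refine absurd ?_ hx
        exact Z_le (Nat.zero_le k) hx0
      | succ m ih =>
        intro x hxN hxm hx
        by_cases hc : ∀ t, ⁅x, t⁆ ∈ Z T k
        · exact ⟨x, hxN, Subgroup.mem_upperCentralSeries_succ_iff.mpr hc, hx⟩
        · push Not at hc
          obtain ⟨t, ht⟩ := hc
          refine ih ⁅x, t⁆ ?_ (comm_mem_Z hxm t) ht
          have e : ⁅x, t⁆ = x * (t * x⁻¹ * t⁻¹) := by rw [commutatorElement_def]; group
          rw [e]
          exact mul_mem hxN (hN.conj_mem _ (inv_mem hxN) t)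
    obtain ⟨x, hxN, hx⟩ := SetLike.not_le_iff_exists.mp hk
    refine hind n x hxN ?_ hx
    show x ∈ Subgroup.upperCentralSeries T n
    rw [hn]
    exact mem_top x
  intro k
  induction k with
  | zero =>
    intro _
    refine or_iff_not_imp_left.mpr fun h y hy => ?_
    obtain ⟨x, hxN, hx1, hx0⟩ := hex 0 h
    by_cases hy0 : y ∈ Z T 0
    · rw [show y = 1 by simpa [Z] using hy0]; exact one_mem N
    · have := inv_mul_mem_Z hd (by norm_num) hx1 hy hx0 hy0
      rw [show y = x by simpa [Z, inv_mul_eq_one, eq_comm] using this]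
      exact hxN
  | succ k ih =>
    intro hk
    refine or_iff_not_imp_left.mpr fun h y hy => ?_
    have hle : Z T (k + 1) ≤ N :=
      (ih (by omega)).resolve_left fun h' => h (h'.trans (Z_le (Nat.le_succ k)))
    obtain ⟨x, hxN, hx1, hx0⟩ := hex (k + 1) h
    by_cases hy0 : y ∈ Z T (k + 1)
    · exact hle hy0
    · have := mul_mem hxN (hle (inv_mul_mem_Z hd (by omega) hx1 hy hx0 hy0))
      rwa [mul_inv_cancel_left] at this

end Series

end Cfsg.Agent.InvChar.Rudvalis
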