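import Cfsg.Agent.InvChar.RudvalisAction

/-!
# The centre of `W`

If `Z(W)` were bigger than `Z₃` the commutator form modulo `Z₂` would have a large radical, and
`W` would have a subgroup of index four that is abelian modulo `Z₂`.
-/

set_option autoImplicit false

open Subgroup
open scoped commutatorElement
open scoped Classical

namespace Cfsg.Agent.InvChar.Rudvalis

variable {T : Type*} [Group T]

/-- The indicator of the complement of the second term. -/
noncomputable def lamf (x : T) : M2 := by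
  classical exact if x ∈ Z T 2 then 1 else eps

theorem lamf_eq_one {x : T} : lamf x = 1 ↔ x ∈ Z T 2 := by
  unfold lamf
  split_ifs with hx <;> simp [hx, eps_ne_one]

theorem lamf_congr {x y : T} (h : x ∈ Z T 2 ↔ y ∈ Z T 2) : lamf x = lamf y := by
  classical
  unfold lamf
  exact if_congr h rfl rfl

theorem lamf_comm_symm (x y : T) : lamf ⁅x, y⁆ = lamf ⁅y, x⁆ :=
  lamf_congr (by rw [← commutatorElement_inv, inv_mem_iff])

theorem lamf_conj (t x : T) : lamf (t * x * t⁻¹) = lamf x := by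
  refine lamf_congr ⟨fun hx => ?_, fun hx => conj_mem_Z hx t⟩
  have := conj_mem_Z hx t⁻¹
  rwa [show t⁻¹ * (t * x * t⁻¹) * t⁻¹⁻¹ = x by group] at this

/-- The inverse in `K3`. -/
def k3inv (p : K3) : K3 := (p.1, p.2.1, p.2.2 + p.1 * p.2.1)

/-- The central involution of `K3`. -/
def k3c : K3 := (0, 0, 1)

theorem k3mul_inv : ∀ p : K3, k3mul (k3inv p) p = 0 := by decide

theorem k3mul_eq_zero : ∀ p q : K3, k3mul p q = 0 → p = k3inv q := by decide

theorem m2_mul_eq_one : ∀ x y : M2, x * y = 1 → x = y := by decide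

theorem prod_zmod2 (f : ZMod 2 → M2) : ∏ a : ZMod 2, f a = f 0 * f 1 := Fin.prod_univ_two f

variable [Finite T] {W : Subgroup T}

namespace Hyp

theorem lamf_mul (h : Hyp W) {x y : T} (hx : x ∈ Z T 3) (hy : y ∈ Z T 3) :
    lamf (x * y) = lamf x * lamf y := by
  by_cases h1 : x ∈ Z T 2
  · rw [lamf_eq_one.mpr h1, one_mul]
    exact lamf_congr (mul_mem_cancel_left h1)
  · rw [(m2_cases (lamf x)).resolve_left (mt lamf_eq_one.mp h1)]
    by_cases h2 : y ∈ Z T 2
    · rw [lamf_eq_one.mpr h2, mul_one]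
      exact (m2_cases _).resolve_left
        (mt lamf_eq_one.mp fun hh => h1 ((mul_mem_cancel_right h2).mp hh))
    · rw [(m2_cases (lamf y)).resolve_left (mt lamf_eq_one.mp h2), eps_mul_eps, lamf_eq_one]
      exact mul_mem_Z h.doubling (by norm_num) hx hy h1 h2

/-- The commutator form with one argument fixed. -/
noncomputable def form (h : Hyp W) {a : T} (ha : a ∈ W) : W →* M2 :=
  MonoidHom.mk' (fun b => lamf ⁅a, (b : T)⁆) fun b c => by
    rw [coe_mul, h.comm_mul_right ha b.2 c.2,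
      h.lamf_mul (h.comm_mem ha b.2) (h.comm_mem ha c.2)]

/-- The elements of `W` orthogonal to `a`. -/
noncomputable def orth (h : Hyp W) {a : T} (ha : a ∈ W) : Subgroup T :=
  (h.form ha).ker.map W.subtype

theorem mem_orth (h : Hyp W) {a b : T} (ha : a ∈ W) :
    b ∈ h.orth ha ↔ b ∈ W ∧ lamf ⁅a, b⁆ = 1 := by
  constructor
  · rintro ⟨x, hx, rfl⟩
    exact ⟨x.2, MonoidHom.mem_ker.mp hx⟩
  · rintro ⟨hb, hl⟩
    exact ⟨⟨b, hb⟩, MonoidHom.mem_ker.mpr hl, rfl⟩

theorem lamf_comm_Z_three (h : Hyp W) {a b : T} (ha : a ∈ W) (hb : b ∈ Z T 3) :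
    lamf ⁅a, b⁆ = 1 := by
  rw [lamf_eq_one, ← commutatorElement_inv, h.comm_eq_one hb ha, inv_one]
  exact one_mem _

theorem Z_three_le_orth (h : Hyp W) {a : T} (ha : a ∈ W) : Z T 3 ≤ h.orth ha := fun b hb =>
  (h.mem_orth ha).mpr ⟨h.Z_three_le hb, h.lamf_comm_Z_three ha hb⟩

/-- Subgroups above `Z₃` are normalized by `W`. -/
theorem conj_mem_of_ge (h : Hyp W) {L : Subgroup T} (h3 : Z T 3 ≤ L) (hLW : L ≤ W) {u l : T}
    (hu : u ∈ W) (hl : l ∈ L) : u * l * u⁻¹ ∈ L := by
  have e : u * l * u⁻¹ = ⁅u, l⁆ * l := by rw [commutatorElement_def]; group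
  rw [e]
  exact mul_mem (h3 (h.comm_mem hu (hLW hl))) hl

theorem adjoin (h : Hyp W) {L : Subgroup T} (h3 : Z T 3 ≤ L) (hLW : L ≤ W) {u : T}
    (hu : u ∈ W) : ∃ S : Subgroup T, L ≤ S ∧ S ≤ W ∧ u ∈ S ∧ L.relIndex S ≤ 2 := by
  obtain ⟨S, h1, h2, h4⟩ := exists_relIndex_le_two_adjoin L u
    (fun l hl => h.conj_mem_of_ge h3 hLW hu hl) (h3 (h.sq_mem hu))
  refine ⟨S ⊓ W, le_inf h1 hLW, inf_le_right, ⟨h2, hu⟩, le_trans ?_ h4⟩
  exact relIndex_le_of_le_right inf_le_left ((Subgroup.index_ne_zero_of_finite))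

variable [W.Normal] {φ : W →* M2} {e : W}

theorem single_apply (he : coordHom φ e = Pi.mulSingle 1 eps) (t : T) :
    coordHom φ (MulAut.conjNormal t e) = Pi.mulSingle (t : T ⧸ W)⁻¹ eps := by
  funext q
  obtain ⟨s, rfl⟩ := QuotientGroup.mk_surjective q
  have h1 : coordHom φ (MulAut.conjNormal t e) (s : T ⧸ W) =
      coordHom φ e ((s * t : T) : T ⧸ W) := by
    rw [coordHom_apply, coordHom_apply, map_mul]
    rfl
  rw [h1, he, Pi.mulSingle_apply, Pi.mulSingle_apply]
  refine if_congr ?_ rfl rfl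
  rw [QuotientGroup.mk_mul, eq_inv_iff_mul_eq_one]

theorem le_of_conj_mem (h : Hyp W) (hker : ∀ x : W, coordHom φ x = 1 ↔ (x : T) ∈ Z T 3)
    (he : coordHom φ e = Pi.mulSingle 1 eps) {S : Subgroup T} (h3 : Z T 3 ≤ S)
    (hS : ∀ t : T, t * e * t⁻¹ ∈ S) : W ≤ S := by
  intro x hx
  have hall : ∀ f : T ⧸ W → M2, f ∈ (S.subgroupOf W).map (coordHom φ) := by
    intro f
    refine pi_mem_of_mulSingle_mem f fun q => ?_
    rcases m2_cases (f q) with hf | hf
    · rw [hf, Pi.mulSingle_one]; exact one_mem _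
    · obtain ⟨t, ht⟩ := QuotientGroup.mk_surjective q⁻¹
      refine ⟨MulAut.conjNormal t e,
        mem_subgroupOf.mpr (by rw [MulAut.conjNormal_apply]; exact hS t), ?_⟩
      rw [single_apply he, hf, ht, inv_inv]
  obtain ⟨y, hy, hxy⟩ := hall (coordHom φ ⟨x, hx⟩)
  have hd : coordHom φ (y⁻¹ * ⟨x, hx⟩) = 1 := by rw [map_mul, map_inv, hxy, inv_mul_cancel]
  have := mul_mem (mem_subgroupOf.mp hy) (h3 ((hker _).mp hd))
  simpa using this

/-- The value of the form on `e` and its conjugate by a coset. -/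
noncomputable def psi (e : W) (q : T ⧸ W) : M2 := lamf ⁅(e : T), q.out * e * q.out⁻¹⁆

theorem exists_conj_factor (h : Hyp W) (e : W) {t s : T} (hq : (t : T ⧸ W) = s) :
    ∃ c ∈ Z T 3, s * e * s⁻¹ = c * (t * e * t⁻¹) := by
  have hw : t⁻¹ * s ∈ W := QuotientGroup.eq.mp hq
  refine ⟨t * ⁅t⁻¹ * s, (e : T)⁆ * t⁻¹, conj_mem_Z (h.comm_mem hw e.2) t, ?_⟩
  rw [commutatorElement_def]
  group

theorem psi_mk (h : Hyp W) (e : W) (t : T) :
    psi e (t : T ⧸ W) = lamf ⁅(e : T), t * e * t⁻¹⁆ := by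
  obtain ⟨c, hc, hce⟩ := h.exists_conj_factor e
    (show (t : T ⧸ W) = ((t : T ⧸ W).out : T) from (QuotientGroup.out_eq' _).symm)
  rw [psi, hce, h.comm_mul_right e.2 (h.Z_three_le hc) (h.conjN_mem e.2 t),
    h.lamf_mul (h.comm_mem e.2 (h.Z_three_le hc)) (h.comm_mem e.2 (h.conjN_mem e.2 t)),
    h.lamf_comm_Z_three e.2 hc, one_mul]

theorem psi_pair (h : Hyp W) (e : W) (s t : T) :
    lamf ⁅s * e * s⁻¹, t * e * t⁻¹⁆ = psi e ((s⁻¹ * t : T) : T ⧸ W) := by
  rw [h.psi_mk, ← lamf_conj s (⁅(e : T), _⁆)]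
  congr 1
  simp only [commutatorElement_def]
  group

theorem psi_inv (h : Hyp W) (e : W) (q : T ⧸ W) : psi e q⁻¹ = psi e q := by
  obtain ⟨t, rfl⟩ := QuotientGroup.mk_surjective q
  rw [← QuotientGroup.mk_inv]
  have h1 := h.psi_pair e t 1
  have h2 := h.psi_pair e 1 t
  simp only [mul_one, inv_one, one_mul] at h1 h2
  rw [← h1, ← h2, lamf_comm_symm]

theorem psi_one (h : Hyp W) (e : W) : psi e 1 = 1 := by
  rw [← QuotientGroup.mk_one, h.psi_mk]
  simp [commutatorElement_self, lamf_eq_one]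

/-- A coset squaring into `W` acts fixing its value of the form. -/
theorem exists_fixed_of_psi (h : Hyp W) (e : W) {t : T} (ht : ((t : T ⧸ W)) * t = 1)
    (hpsi : psi e (t : T ⧸ W) ≠ 1) : ∃ c ∈ Z T 3, c ∉ Z T 2 ∧ t * c * t⁻¹ = c := by
  have hte := h.conjN_mem e.2 t
  refine ⟨⁅(e : T), t * e * t⁻¹⁆, h.comm_mem e.2 hte, ?_, ?_⟩
  · rwa [h.psi_mk, Ne, lamf_eq_one] at hpsi
  · have htt : t * t ∈ W := by
      rw [← QuotientGroup.eq_one_iff, QuotientGroup.mk_mul]
      exact ht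
    have e1 : t * ⁅(e : T), t * e * t⁻¹⁆ * t⁻¹ =
        ⁅t * e * t⁻¹, ⁅t * t, (e : T)⁆ * e⁆ := by
      simp only [commutatorElement_def]
      group
    have e2 : ⁅(e : T), t * e * t⁻¹⁆⁻¹ = ⁅(e : T), t * e * t⁻¹⁆ :=
      inv_eq_of_mul_eq_one_right (h.Z_three_sq (h.comm_mem e.2 hte))
    have hc3 := h.comm_mem htt e.2
    rw [e1, h.comm_mul_right hte (h.Z_three_le hc3) e.2, ← commutatorElement_inv _ (t * e * t⁻¹),
      h.comm_eq_one hc3 hte, inv_one, one_mul, ← commutatorElement_inv (e : T), e2]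

/-- The centre of `W` is the third term. -/
theorem center_le (h : Hyp W) {x : T} (hxW : x ∈ W) (hx : ∀ w ∈ W, x * w = w * x) :
    x ∈ Z T 3 := by
  have hcn : ((Subgroup.center W).map W.subtype).Normal := inferInstance
  have hxC : x ∈ (Subgroup.center W).map W.subtype :=
    ⟨⟨x, hxW⟩, mem_center_iff.mpr fun w => Subtype.ext (hx w w.2).symm, rfl⟩
  refine ((le_or_Z_le h.p2 h.doubling ((Subgroup.center W).map W.subtype) 3 le_rfl).resolve_right
    fun h4 => ?_) hxC
  have := Fintype.ofFinite (T ⧸ W)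
  obtain ⟨φ, hker, hsurj, z, hz4, hzall⟩ := h.exists_regular
  obtain ⟨e, he⟩ := hsurj (Pi.mulSingle 1 eps)
  obtain ⟨τ, hbij, hmul, hfix⟩ := h.exists_action
  let E : T ⧸ W ≃ K3 := Equiv.ofBijective τ hbij
  have hτ : ∀ p, τ (E.symm p) = p := fun p => E.apply_symm_apply p
  have h00 : τ 1 = 0 := by
    have := hmul 1 1
    rw [one_mul] at this
    revert this
    generalize τ 1 = p
    revert p
    decide
  have hinv : ∀ a, τ a⁻¹ = k3inv (τ a) := fun a =>
    k3mul_eq_zero _ _ (by rw [← hmul, inv_mul_cancel, h00])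
  have hψ : ∀ p, psi e (E.symm (k3inv p)) = psi e (E.symm p) := fun p => by
    have : E.symm (k3inv p) = (E.symm p)⁻¹ := by
      apply E.injective
      show τ _ = τ _
      rw [hτ, hinv, hτ]
    rw [this, h.psi_inv]
  have hinvol : ∀ p : K3, k3mul p p = 0 → (p.2.1 = 1 ∨ (p.1 = 0 ∧ p.2.2 = 1)) →
      psi e (E.symm p) = 1 := by
    intro p hp hcase
    by_contra hne
    obtain ⟨t, ht⟩ := QuotientGroup.mk_surjective (E.symm p)
    rw [← ht] at hne
    have htt : (t : T ⧸ W) * t = 1 := hbij.1 (by rw [hmul, h00, ht, hτ, hp])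
    obtain ⟨c, hc, hc', hct⟩ := h.exists_fixed_of_psi e htt hne
    have := hfix t c hc hc' hct
    rw [ht, hτ] at this
    rcases hcase with hy | ⟨hx0, hz1⟩
    · rw [this.1] at hy; exact absurd hy (by decide)
    · rw [this.2 hx0] at hz1; exact absurd hz1 (by decide)
  -- the product of all values is one
  have hprod : ∏ q : T ⧸ W, psi e q = 1 := by
    have hle : (coordHom φ).ker ≤ (h.form e.2).ker := fun y hy =>
      MonoidHom.mem_ker.mpr (h.lamf_comm_Z_three e.2 ((hker y).mp (MonoidHom.mem_ker.mp hy)))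
    let β := (coordHom φ).liftOfSurjective hsurj ⟨h.form e.2, hle⟩
    have hβ : ∀ y, β (coordHom φ y) = lamf ⁅(e : T), (y : T)⁆ := fun y =>
      MonoidHom.liftOfRightInverse_comp_apply _ _ _ _ y
    have hs : ∀ q, β (Pi.mulSingle q eps) = psi e q := by
      intro q
      obtain ⟨t, ht⟩ := QuotientGroup.mk_surjective q⁻¹
      have := single_apply he t
      rw [ht, inv_inv] at this
      rw [← this, hβ, MulAut.conjNormal_apply, ← h.psi_mk, ht, h.psi_inv]
    have hall : β (coordHom φ z) = 1 := by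
      rw [hβ]
      obtain ⟨y, hy, hyz⟩ := h4 hz4
      rw [show (z : T) = y from hyz.symm, lamf_eq_one]
      have : ⁅(e : T), (y : T)⁆ = 1 :=
        commutatorElement_eq_one_iff_commute.mpr
          (congrArg Subtype.val (mem_center_iff.mp hy e))
      rw [this]
      exact one_mem _
    rw [hzall, ← Finset.univ_prod_mulSingle (fun _ : T ⧸ W => eps), map_prod] at hall
    simpa only [hs] using hall
  -- the form is invariant under the central involution
  have hc : ∀ p, psi e (E.symm (k3mul p k3c)) = psi e (E.symm p) := by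
    rw [← E.symm.prod_comp, Fintype.prod_prod_type] at hprod
    simp only [Fintype.prod_prod_type, prod_zmod2] at hprod
    have v1 := hinvol (0, 0, 1) (by decide) (by decide)
    have v2 := hinvol (0, 1, 0) (by decide) (by decide)
    have v3 := hinvol (0, 1, 1) (by decide) (by decide)
    have v4 : psi e (E.symm (1, 1, 1)) = psi e (E.symm (1, 1, 0)) := hψ (1, 1, 0)
    have v0 : psi e (E.symm (0, 0, 0)) = 1 := by
      rw [show E.symm (0, 0, 0) = 1 from E.injective (by
        show τ _ = τ _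
        rw [hτ, h00]; rfl), h.psi_one]
    simp only [v0, v1, v2, v3, v4, m2_sq, mul_one, one_mul] at hprod
    have v5 := m2_mul_eq_one _ _ hprod
    intro p
    obtain ⟨x, y, w⟩ := p
    rcases zmod2_cases x with rfl | rfl <;> rcases zmod2_cases y with rfl | rfl <;>
      rcases zmod2_cases w with rfl | rfl <;>
      simp [k3mul, k3c, v0, v1, v2, v3, v4, v5, show (1 : ZMod 2) + 1 = 0 by decide]
  -- the radical elements
  let eC : T → T := fun t => t * e * t⁻¹
  have heC : ∀ t, eC t ∈ W := fun t => h.conjN_mem e.2 t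
  obtain ⟨s, hs⟩ := QuotientGroup.mk_surjective (E.symm k3c)
  let D : T → T := fun t => eC t * eC (t * s)
  have hDW : ∀ t, D t ∈ W := fun t => mul_mem (heC t) (heC _)
  have hrad : ∀ t, W ≤ h.orth (hDW t) := by
    intro t
    refine h.le_of_conj_mem hker he (h.Z_three_le_orth _) fun u => (h.mem_orth _).mpr
      ⟨heC u, ?_⟩
    show lamf ⁅eC t * eC (t * s), eC u⁆ = 1
    rw [h.comm_mul_left (heC t) (heC _) (heC u),
      h.lamf_mul (h.comm_mem (heC t) (heC u)) (h.comm_mem (heC _) (heC u))]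
    simp only [eC]
    rw [h.psi_pair, h.psi_pair]
    have hq : (((t * s)⁻¹ * u : T) : T ⧸ W) =
        E.symm (k3mul (τ ((t⁻¹ * u : T) : T ⧸ W)) k3c) := by
      apply E.injective
      show τ _ = τ _
      rw [hτ, mul_inv_rev, mul_assoc, QuotientGroup.mk_mul, hmul, QuotientGroup.mk_inv, hinv,
        hs, hτ]
      generalize τ ((t⁻¹ * u : T) : T ⧸ W) = p
      revert p
      decide
    rw [hq, hc, show E.symm (τ ((t⁻¹ * u : T) : T ⧸ W)) = ((t⁻¹ * u : T) : T ⧸ W) from
      E.symm_apply_apply _, m2_sq]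
  -- the isotropic subgroup
  obtain ⟨b, hb⟩ := QuotientGroup.mk_surjective (E.symm (0, 1, 0))
  obtain ⟨a, ha⟩ := QuotientGroup.mk_surjective (E.symm (1, 0, 0))
  obtain ⟨ab, hab⟩ := QuotientGroup.mk_surjective (E.symm (1, 1, 0))
  let S0 : Set T := (Z T 3 : Set T) ∪ ({(e : T), eC b} ∪ Set.range D)
  have hS0W : ∀ y ∈ S0, y ∈ W := by
    rintro y (hy | (rfl | rfl) | ⟨t, rfl⟩)
    exacts [h.Z_three_le hy, e.2, heC b, hDW t]
  have heb : lamf ⁅(e : T), eC b⁆ = 1 := by
    rw [← h.psi_mk, hb]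
    exact hinvol (0, 1, 0) (by decide) (by decide)
  have hpair : ∀ y ∈ S0, ∀ w ∈ S0, lamf ⁅y, w⁆ = 1 := by
    intro y hy w hw
    have hyW := hS0W y hy
    have hwW := hS0W w hw
    rcases hy with hy | hy | ⟨t, rfl⟩
    · rw [lamf_comm_symm]; exact h.lamf_comm_Z_three hwW hy
    · rcases hw with hw | hw | ⟨t, rfl⟩
      · exact h.lamf_comm_Z_three hyW hw
      · rcases hy with rfl | rfl <;> rcases hw with rfl | rfl
        · simp [commutatorElement_self, lamf_eq_one]
        · exact heb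
        · rw [lamf_comm_symm]; exact heb
        · simp [commutatorElement_self, lamf_eq_one]
      · rw [lamf_comm_symm]; exact ((h.mem_orth _).mp (hrad t hyW)).2
    · exact ((h.mem_orth _).mp (hrad t hwW)).2
  let L := Subgroup.closure S0
  have hLW : L ≤ W := (closure_le W).mpr hS0W
  have h3L : Z T 3 ≤ L := fun y hy => subset_closure (Or.inl hy)
  refine h.key hLW h3L ?_ fun u hu v hv => lamf_eq_one.mp ?_
  · obtain ⟨L2, hL2, hL2W, haL2, hi2⟩ := h.adjoin h3L hLW (heC a)
    obtain ⟨L3, hL3, hL3W, habL3, hi3⟩ := h.adjoin (h3L.trans hL2) hL2W (heC ab)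
    have hstep : ∀ (r : T) (p : K3), τ (r : T ⧸ W) = p → eC r ∈ L3 →
        ∀ u : T, (τ (u : T ⧸ W) = p ∨ τ (u : T ⧸ W) = k3mul p k3c) → eC u ∈ L3 := by
      intro r p hr hmem u hu
      rcases hu with hu | hu
      · obtain ⟨c, hc, hcu⟩ := h.exists_conj_factor e (t := r) (s := u)
          (hbij.1 (hr.trans hu.symm))
        show u * e * u⁻¹ ∈ L3
        rw [hcu]
        exact mul_mem (hL3 (hL2 (h3L hc))) hmem
      · obtain ⟨c, hc, hcu⟩ := h.exists_conj_factor e (t := r * s) (s := u)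
          (hbij.1 (by rw [hu, QuotientGroup.mk_mul, hmul, hr, hs, hτ]))
        show u * e * u⁻¹ ∈ L3
        rw [hcu]
        refine mul_mem (hL3 (hL2 (h3L hc))) ?_
        have hD : D r ∈ L3 := hL3 (hL2 (subset_closure (Or.inr (Or.inr ⟨r, rfl⟩))))
        have := mul_mem (inv_mem hmem) hD
        rw [show (eC r)⁻¹ * D r = eC (r * s) from inv_mul_cancel_left _ _] at this
        exact this
    have hall : ∀ u : T, eC u ∈ L3 := by
      intro u
      have h1 : eC 1 ∈ L3 :=
        hL3 (hL2 (subset_closure (Or.inr (Or.inl (Or.inl (by simp [eC]))))))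
      have hb' : eC b ∈ L3 := hL3 (hL2 (subset_closure (Or.inr (Or.inl (Or.inr rfl)))))
      rcases hp : τ (u : T ⧸ W) with ⟨x, y, w⟩
      rcases zmod2_cases x with rfl | rfl <;> rcases zmod2_cases y with rfl | rfl
      · exact hstep 1 (0, 0, 0) (by rw [QuotientGroup.mk_one]; exact h00) h1 u
          (by rw [hp]; rcases zmod2_cases w with rfl | rfl <;> decide)
      · exact hstep b (0, 1, 0) (by rw [hb, hτ]) hb' u (by rw [hp]; rcases zmod2_cases w with rfl | rfl <;> decide)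
      · exact hstep a (1, 0, 0) (by rw [ha, hτ]) (hL3 haL2) u (by rw [hp]; rcases zmod2_cases w with rfl | rfl <;> decide)
      · exact hstep ab (1, 1, 0) (by rw [hab, hτ]) habL3 u (by rw [hp]; rcases zmod2_cases w with rfl | rfl <;> decide)
    have hW3 : W ≤ L3 := h.le_of_conj_mem hker he ((h3L.trans hL2).trans hL3) hall
    have hWeq : W = L3 := le_antisymm hW3 hL3W
    rw [hWeq, ← relIndex_mul_relIndex L L2 L3 hL2 hL3]
    exact Nat.mul_le_mul hi2 hi3
  · have key1 : ∀ y (hy : y ∈ W), y ∈ S0 → L ≤ h.orth hy := fun y hy hyS =>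
      (closure_le _).mpr fun w hw => (h.mem_orth hy).mpr ⟨hS0W w hw, hpair y hyS w hw⟩
    have key2 : L ≤ h.orth (hLW hu) := (closure_le _).mpr fun w hw => (h.mem_orth _).mpr
      ⟨hS0W w hw, by rw [lamf_comm_symm]; exact ((h.mem_orth _).mp (key1 w (hS0W w hw) hw hu)).2⟩
    exact ((h.mem_orth _).mp (key2 hv)).2

end Hyp

end Cfsg.Agent.InvChar.Rudvalis

namespace Cfsg.Agent.InvChar.Rudvalis.Hyp

variable {T : Type*} [Group T] [Finite T] {W : Subgroup T}

theorem center_eq (h : Hyp W) : Subgroup.center W = (Z T 3).subgroupOf W := by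
  have := h.normal
  ext x
  rw [mem_center_iff, mem_subgroupOf]
  refine ⟨fun hx => h.center_le x.2 fun w hw => (congrArg Subtype.val (hx ⟨w, hw⟩)).symm,
    fun hx g => Subtype.ext ?_⟩
  exact (h.comm_Z_three hx g.2).symm

/-- `T / W` is dihedral of order eight. -/
theorem nonempty_quotient_equiv (h : Hyp W) [W.Normal] :
    Nonempty (T ⧸ W ≃* DihedralGroup 4) := by
  obtain ⟨τ, hbij, hmul, -⟩ := h.exists_action
  have hinj : Function.Injective (toD ∘ τ) := fun a b hab => hbij.1 (toD_injective _ _ hab)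
  refine ⟨MulEquiv.ofBijective (MonoidHom.mk' (toD ∘ τ) fun a b => ?_)
    (hinj.bijective_of_nat_card_le ?_)⟩
  · simp only [Function.comp_apply, hmul, toD_mul]
  · rw [DihedralGroup.nat_card, ← index_eq_card, h.orders.1]

theorem sq_mem_commutator (h : Hyp W) (y : W) : y ^ 2 ∈ commutator W := by
  obtain ⟨x, hx, hxy⟩ := h.commutator_eq ▸ h.sq_mem y.2
  rwa [show y ^ 2 = x from Subtype.ext (by rw [pow_two, coe_mul]; exact hxy.symm)]

theorem card_quotient_commutator (h : Hyp W) : Nat.card (W ⧸ commutator W) = 2 ^ 8 := by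
  have h1 := Subgroup.card_eq_card_quotient_mul_card_subgroup (commutator W)
  have h2 : Nat.card (commutator W) = 8 := by
    rw [← card_map_of_injective W.subtype_injective, h.commutator_eq, h.card_three]
  rw [h.orders.2.1, h2] at h1
  exact Nat.eq_of_mul_eq_mul_right (by norm_num) (h1.symm.trans (by norm_num))

end Cfsg.Agent.InvChar.Rudvalis.Hyp
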