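import Cfsg.Agent.InvChar.RudvalisAut
import Cfsg.Prelude.Def_Transfer
import Mathlib.GroupTheory.SchurZassenhaus

/-!
# Sylow normalizer and weak closure for a Rudvalis-type Sylow 2-subgroup
-/

set_option autoImplicit false

open Subgroup
open scoped commutatorElement

namespace Cfsg.Agent.InvChar.Rudvalis

variable {G : Type*} [Group G] [Finite G] (T : Sylow 2 G)

/-- The Sylow normalizer has a normal 2-complement. -/
theorem normalizer_hasNormalPComplement {W : Subgroup ↥(T : Subgroup G)} (h : Hyp W) :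
    HasNormalPComplement 2 ↥(normalizer ((T : Subgroup G) : Set G)) := by
  have := Fact.mk Nat.prime_two
  let N := normalizer ((T : Subgroup G) : Set G)
  let P : Sylow 2 N := T.subtype le_normalizer
  have hPn : (P : Subgroup N).Normal := by
    show ((T : Subgroup G).subgroupOf N).Normal
    exact normal_in_normalizer
  obtain ⟨C, hC⟩ := exists_right_complement'_of_coprime (P.card_coprime_index)
  have hCodd : Odd (Nat.card C) := by
    have h1 : (P : Subgroup N).index = Nat.card C := by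
      have := hC.index_eq_card
      have h2 := (P : Subgroup N).card_mul_index
      have h3 := hC.card_mul
      exact Nat.eq_of_mul_eq_mul_left Nat.card_pos (h2.trans h3.symm)
    rw [← h1]
    exact Nat.not_even_iff_odd.mp fun he => P.not_dvd_index (even_iff_two_dvd.mp he)
  have hcomm : ∀ c ∈ C, ∀ x ∈ (P : Subgroup N), c * x * c⁻¹ = x := by
    intro c hc x hx
    have hmem : ∀ (d : N) (t : G), t ∈ (T : Subgroup G) → (d : G) * t * (d : G)⁻¹ ∈ (T : Subgroup G) :=
      fun d t ht => (mem_normalizer_iff.mp d.2 t).mp ht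
    let α : (T : Subgroup G) ≃* (T : Subgroup G) :=
      { toFun := fun t => ⟨(c : G) * t * (c : G)⁻¹, hmem c t t.2⟩
        invFun := fun t => ⟨((c⁻¹ : N) : G) * t * ((c⁻¹ : N) : G)⁻¹, hmem c⁻¹ t t.2⟩
        left_inv := fun t => Subtype.ext (by simp [mul_assoc])
        right_inv := fun t => Subtype.ext (by simp [mul_assoc])
        map_mul' := fun s t => Subtype.ext (by simp [mul_assoc]) }
    have hit : ∀ (k : ℕ) (t : (T : Subgroup G)),
        ((α^[k] t : (T : Subgroup G)) : G) = ((c ^ k : N) : G) * t * ((c ^ k : N) : G)⁻¹ := by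
      intro k t
      induction k with
      | zero => simp
      | succ k ih =>
        rw [Function.iterate_succ_apply']
        show (c : G) * _ * (c : G)⁻¹ = _
        rw [ih, pow_succ']
        simp only [coe_mul, mul_inv_rev, mul_assoc]
    have hn : c ^ Nat.card C = 1 := by
      exact congrArg Subtype.val (pow_card_eq_one' (x := (⟨c, hc⟩ : C)))
    have htriv := h.aut_trivial α hCodd (fun t => Subtype.ext (by rw [hit, hn]; simp))
      ⟨(x : G), hx⟩
    have h2 := congrArg Subtype.val htriv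
    exact Subtype.ext h2
  have hCn : C.Normal := by
    refine ⟨fun d hd n => ?_⟩
    have hn : n ∈ (P : Subgroup N) ⊔ C := by rw [hC.sup_eq_top]; exact mem_top n
    obtain ⟨x, hx, c, hc, rfl⟩ := mem_sup_of_normal_left.mp hn
    have h1 : c * d * c⁻¹ ∈ C := mul_mem (mul_mem hc hd) (inv_mem hc)
    have e : x * c * d * (x * c)⁻¹ = x * (c * d * c⁻¹) * x⁻¹ := by group
    rw [e]
    have h2 := hcomm _ h1 x hx
    rw [mul_inv_eq_iff_eq_mul] at h2
    rwa [← h2, mul_inv_cancel_right]
  exact ⟨P, C, hCn, hC.symm⟩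

/-- `W` is weakly closed in the Sylow subgroup. -/
theorem weaklyClosed {W : Subgroup ↥(T : Subgroup G)} (h : Hyp W) :
    IsWeaklyClosed (W.map (T : Subgroup G).subtype) (T : Subgroup G) := by
  refine ⟨map_subtype_le W, fun g hg => ?_⟩
  let TG := (T : Subgroup G)
  let WG := W.map TG.subtype
  let ZG := (Z ↥TG 3).map TG.subtype
  let c := (MulAut.conj g).toMonoidHom
  have hcinj : Function.Injective c := (MulAut.conj g).injective
  have hA : ∀ U : Subgroup G, U.relIndex WG ≤ 16 → ZG ≤ U := fun U hU =>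
    map_le_iff_le_comap.mpr (h.Z_three_le_of_relIndex (by rwa [relIndex_comap]))
  have hB : ∀ U : Subgroup G, U.relIndex (WG.map c) ≤ 16 → ZG.map c ≤ U := fun U hU =>
    map_le_iff_le_comap.mpr (hA _ (by rwa [relIndex_comap]))
  have hcardW : Nat.card WG = 2 ^ 11 := by
    rw [card_map_of_injective TG.subtype_injective]; exact h.orders.2.1
  have hcardW1 : Nat.card (WG.map c) = 2 ^ 11 := by
    rw [card_map_of_injective hcinj]; exact hcardW
  have hWT : WG ≤ TG := map_subtype_le W
  have hrel : ∀ A : Subgroup G, A ≤ TG → Nat.card A = 2 ^ 11 → ∀ B : Subgroup G, B ≤ TG →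
      A.relIndex B ≤ 8 := by
    intro A hA hcard B hB
    refine (relIndex_le_of_le_right hB index_ne_zero_of_finite).trans ?_
    have h1 := relIndex_mul_relIndex (⊥ : Subgroup G) A TG bot_le hA
    rw [relIndex_bot_left, relIndex_bot_left, hcard, h.orders.2.2] at h1
    exact (Nat.eq_of_mul_eq_mul_left (by norm_num)
      (h1.trans (show (2 : ℕ) ^ 14 = 2 ^ 11 * 8 by norm_num))).le
  have hK1 : (WG ⊓ WG.map c).relIndex WG ≤ 8 := by
    rw [inf_relIndex_left]; exact hrel _ hg hcardW1 _ hWT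
  have hK2 : (WG ⊓ WG.map c).relIndex (WG.map c) ≤ 8 := by
    rw [inf_relIndex_right]; exact hrel _ hWT hcardW _ hg
  have hZW : ZG ≤ WG := map_mono h.Z_three_le
  have hsq : ∀ x ∈ WG, x * x ∈ ZG := by
    rintro _ ⟨w, hw, rfl⟩
    exact ⟨w * w, h.sq_mem hw, rfl⟩
  have hN : ∀ x ∈ WG ⊓ WG.map c, x * x ∈ ZG ⊓ ZG.map c := by
    rintro x ⟨hx, w, hw, rfl⟩
    exact ⟨hsq _ hx, w * w, hsq w hw, map_mul c w w⟩
  have hZZ : ZG ≤ ZG.map c := by
    intro z hz
    by_contra hz'
    have hzK : z ∈ WG ⊓ WG.map c := hA _ (hK1.trans (by norm_num)) hz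
    obtain ⟨U, -, hU1, hU2, hU3⟩ := exists_relIndex_two_avoid
      (inf_le_inf hZW (map_mono hZW)) hN hzK (fun hh => hz' hh.2)
    refine hU2 (hA U ?_ hz)
    rw [← relIndex_mul_relIndex U (WG ⊓ WG.map c) WG hU1 inf_le_left, hU3]
    omega
  have hZeq : ZG = ZG.map c := eq_of_le_of_card_ge hZZ (card_map_of_injective hcinj).le
  show WG.map c = WG
  refine eq_of_le_of_card_ge (fun x hx => ?_) (by rw [hcardW, hcardW1])
  obtain ⟨w, hw, rfl⟩ := hx
  have hxT : c w ∈ TG := hg ⟨w, hw, rfl⟩
  refine ⟨⟨c w, hxT⟩, ?_, rfl⟩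
  rw [SetLike.mem_coe, h.eqW, mem_centralizer_iff]
  intro z hz
  apply Subtype.ext
  show (z : G) * c w = c w * z
  have hzG : (z : G) ∈ ZG.map c := hZeq ▸ (⟨z, hz, rfl⟩ : (z : G) ∈ ZG)
  obtain ⟨_, ⟨z', hz', rfl⟩, hzz⟩ := hzG
  obtain ⟨w', hw', rfl⟩ := hw
  rw [← hzz, ← map_mul, ← map_mul, ← map_mul, h.comm_Z_three hz' hw', map_mul]

end Cfsg.Agent.InvChar.Rudvalis
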