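import Cfsg.Agent.InvChar.RudvalisBase

/-!
# 2-groups satisfying conditions of Rudvalis type

The structure theorem behind S3174 and S3175 up to the identification of `W / Z₃` as the regular
module of `T / W`.
-/

set_option autoImplicit false

open Subgroup
open scoped commutatorElement

namespace Cfsg.Agent.InvChar.Rudvalis

variable {T : Type*} [Group T] [Finite T]

/-- The hypotheses on the 2-group `T`. -/
structure Hyp (W : Subgroup T) : Prop where
  p2 : IsPGroup 2 T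
  big : 2 ^ 14 ≤ Nat.card T
  card4 : Nat.card (Z T 4) = 16
  eqW : W = centralizer (Z T 3 : Set T)
  cardPhi : Nat.card (frattini W) ≤ 8
  phi_le : ∀ U : Subgroup W, U.index ≤ 16 → frattini W ≤ U

namespace Hyp

variable {W : Subgroup T}

theorem doubling (h : Hyp W) : Doubling T :=
  card_Z h.p2 (by have := h.big; norm_num at this; omega) h.card4

theorem card_one (h : Hyp W) : Nat.card (Z T 1) = 2 := by simpa using h.doubling 1 (by norm_num)

theorem card_two (h : Hyp W) : Nat.card (Z T 2) = 4 := by simpa using h.doubling 2 (by norm_num)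

theorem card_three (h : Hyp W) : Nat.card (Z T 3) = 8 := by simpa using h.doubling 3 (by norm_num)

theorem normal (h : Hyp W) : W.Normal := by
  rw [h.eqW]
  infer_instance

/-- The subgroup generated by the lower terms and one element outside. -/
theorem Z_succ_le (h : Hyp W) {k : ℕ} (hk : k < 4) {z : T} (hz : z ∈ Z T (k + 1))
    (hz' : z ∉ Z T k) {S : Subgroup T} (hS : Z T k ≤ S) (hzS : z ∈ S) : Z T (k + 1) ≤ S := by
  intro y hy
  by_cases hy' : y ∈ Z T k
  · exact hS hy'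
  · have := mul_mem hzS (hS (inv_mul_mem_Z h.doubling hk hz hy hz' hy'))
    rwa [mul_inv_cancel_left] at this

/-- An element centralizing generators of the third term lies in `W`. -/
theorem mem_of_commute (h : Hyp W) {z2 z3 s : T} (h2 : z2 ∈ Z T 2) (h2' : z2 ∉ Z T 1)
    (h3 : z3 ∈ Z T 3) (h3' : z3 ∉ Z T 2) (hs2 : s * z2 = z2 * s) (hs3 : s * z3 = z3 * s) :
    s ∈ W := by
  rw [h.eqW, mem_centralizer_iff]
  have h1 : Z T 1 ≤ centralizer {s} := fun z hz => mem_centralizer_singleton_iff.mpr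
    (mul_inv_eq_iff_eq_mul.mp (conj_eq_of_mem_Z_one hz s)).symm
  have hle : Z T 3 ≤ centralizer {s} :=
    h.Z_succ_le (by norm_num) h3 h3'
      (h.Z_succ_le (by norm_num) h2 h2' h1 (mem_centralizer_singleton_iff.mpr hs2.symm))
      (mem_centralizer_singleton_iff.mpr hs3.symm)
  exact fun z hz => mem_centralizer_singleton_iff.mp (hle hz)

/-- Elements with the same action on the generators lie in the same coset of `W`. -/
theorem inv_mul_mem_of_conj_eq (h : Hyp W) {z2 z3 t s : T} (h2 : z2 ∈ Z T 2) (h2' : z2 ∉ Z T 1)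
    (h3 : z3 ∈ Z T 3) (h3' : z3 ∉ Z T 2) (he2 : t * z2 * t⁻¹ = s * z2 * s⁻¹)
    (he3 : t * z3 * t⁻¹ = s * z3 * s⁻¹) : t⁻¹ * s ∈ W := by
  refine h.mem_of_commute h2 h2' h3 h3' ?_ ?_
  · calc t⁻¹ * s * z2 = t⁻¹ * (s * z2 * s⁻¹) * s := by group
      _ = t⁻¹ * (t * z2 * t⁻¹) * s := by rw [he2]
      _ = z2 * (t⁻¹ * s) := by group
  · calc t⁻¹ * s * z3 = t⁻¹ * (s * z3 * s⁻¹) * s := by group
      _ = t⁻¹ * (t * z3 * t⁻¹) * s := by rw [he3]
      _ = z3 * (t⁻¹ * s) := by group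

theorem index_le (h : Hyp W) : W.index ≤ 8 := by
  obtain ⟨z2, h2, h2'⟩ := exists_mem_not_mem h.doubling (k := 1) (by norm_num)
  obtain ⟨z3, h3, h3'⟩ := exists_mem_not_mem h.doubling (k := 2) (by norm_num)
  let f : T ⧸ W → Z T 1 × Z T 2 := fun q =>
    (⟨⁅q.out, z2⁆, comm_mem_Z' h2 _⟩, ⟨⁅q.out, z3⁆, comm_mem_Z' h3 _⟩)
  have hf : Function.Injective f := by
    intro q r hqr
    simp only [f, Prod.mk.injEq, Subtype.mk.injEq, commutatorElement_def] at hqr
    have := h.inv_mul_mem_of_conj_eq h2 h2' h3 h3' (t := q.out) (s := r.out)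
      (mul_right_cancel hqr.1) (mul_right_cancel hqr.2)
    rw [← q.out_eq', ← r.out_eq']
    exact QuotientGroup.eq.mpr this
  have := Nat.card_le_card_of_injective f hf
  rw [Nat.card_prod, h.card_one, h.card_two] at this
  rwa [index_eq_card]

theorem card_ge (h : Hyp W) : 2 ^ 11 ≤ Nat.card W := by
  have h1 := W.card_mul_index
  have h2 := h.big
  have h3 := h.index_le
  nlinarith

theorem Z_four_le (h : Hyp W) : Z T 4 ≤ W := by
  have := h.normal
  refine (le_or_Z_le h.p2 h.doubling W 3 le_rfl).resolve_left fun hle => ?_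
  have h1 := card_le_of_le hle
  have h2 := h.card_ge
  rw [h.card_three] at h1
  omega

theorem Z_three_le (h : Hyp W) : Z T 3 ≤ W := (Z_le (by norm_num)).trans h.Z_four_le

theorem comm_Z_three (h : Hyp W) {z w : T} (hz : z ∈ Z T 3) (hw : w ∈ W) : z * w = w * z := by
  rw [h.eqW, mem_centralizer_iff] at hw
  exact hw z hz

theorem conj_eq_self (h : Hyp W) {z w : T} (hz : z ∈ Z T 3) (hw : w ∈ W) : w * z * w⁻¹ = z := by
  rw [← h.comm_Z_three hz hw, mul_inv_cancel_right]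

theorem conjN_mem (h : Hyp W) {x : T} (hx : x ∈ W) (t : T) : t * x * t⁻¹ ∈ W :=
  h.normal.conj_mem x hx t

/-- The image of the Frattini subgroup of `W` in `T`. -/
def phiT (W : Subgroup T) : Subgroup T := (frattini W).map W.subtype

theorem phiT_normal (h : Hyp W) : (phiT W).Normal := by
  have := h.normal
  unfold phiT
  infer_instance

theorem sq_mem_phiT (h : Hyp W) {x : T} (hx : x ∈ W) : x * x ∈ phiT W := by
  have := Fact.mk Nat.prime_two
  exact ⟨⟨x * x, mul_mem hx hx⟩, by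
    simpa [pow_two] using PGroup.pow_mem_frattini (h.p2.to_subgroup W) ⟨x, hx⟩, rfl⟩

theorem comm_mem_phiT (h : Hyp W) {x y : T} (hx : x ∈ W) (hy : y ∈ W) : ⁅x, y⁆ ∈ phiT W := by
  have := Fact.mk Nat.prime_two
  exact ⟨_, PGroup.comm_mem_frattini (h.p2.to_subgroup W) ⟨x, hx⟩ ⟨y, hy⟩, rfl⟩

theorem phiT_le (h : Hyp W) : phiT W ≤ Z T 3 := by
  have := h.phiT_normal
  refine (le_or_Z_le h.p2 h.doubling (phiT W) 3 le_rfl).resolve_right fun hle => ?_
  have h1 := card_le_of_le hle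
  have h2 := h.cardPhi
  have h3 : Nat.card (phiT W) = Nat.card (frattini W) :=
    card_map_of_injective W.subtype_injective
  have h4 : Nat.card (Z T (3 + 1)) = 16 := h.card4
  omega

theorem sq_mem (h : Hyp W) {x : T} (hx : x ∈ W) : x * x ∈ Z T 3 := h.phiT_le (h.sq_mem_phiT hx)

theorem comm_mem (h : Hyp W) {x y : T} (hx : x ∈ W) (hy : y ∈ W) : ⁅x, y⁆ ∈ Z T 3 :=
  h.phiT_le (h.comm_mem_phiT hx hy)

/-- The map `x ↦ (q ↦ φ (conjugate of x by a representative of q))`. -/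
noncomputable def coordHom [W.Normal] (φ : W →* M2) : W →* (T ⧸ W → M2) :=
  MonoidHom.pi fun q => φ.comp (MulAut.conjNormal (H := W) q.out).toMonoidHom

theorem hom_conj_mul [W.Normal] (φ : W →* M2) (t : T) (w x : W) :
    φ (MulAut.conjNormal (t * (w : T)) x) = φ (MulAut.conjNormal t x) := by
  have e : MulAut.conjNormal (t * (w : T)) x = MulAut.conjNormal t (w * x * w⁻¹) := by
    apply Subtype.ext
    simp [MulAut.conjNormal_apply, mul_assoc]
  rw [e, map_mul, map_mul, map_inv, map_mul, map_mul, map_inv, mul_comm (φ _) (φ _),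
    mul_inv_cancel_right]

theorem coordHom_apply [W.Normal] (φ : W →* M2) (x : W) (t : T) :
    coordHom φ x (t : T ⧸ W) = φ (MulAut.conjNormal t x) := by
  obtain ⟨w, hw⟩ := QuotientGroup.mk_out_eq_mul W t
  show φ (MulAut.conjNormal (t : T ⧸ W).out x) = _
  rw [hw, hom_conj_mul]

theorem exists_coord (h : Hyp W) [W.Normal] {j : ℕ} (hj : j ≤ 3)
    (hsq : ∀ x ∈ W, x * x ∈ Z T j) :
    ∃ φ : W →* M2, (∀ x : W, (x : T) ∈ Z T j → φ x = 1) ∧
      (∃ z : W, (z : T) ∈ Z T (j + 1) ∧ φ z ≠ 1) ∧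
      ∀ x : W, coordHom φ x = 1 ↔ (x : T) ∈ Z T j := by
  obtain ⟨z, hz, hz'⟩ := exists_mem_not_mem h.doubling (k := j) (by omega)
  have hzW : z ∈ W := h.Z_four_le (Z_le (by omega) hz)
  obtain ⟨U, hU1, hU2, hU3⟩ := exists_index_two_avoid ((Z T j).subgroupOf W)
    (fun x => mem_subgroupOf.mpr (hsq x x.2)) (z := ⟨z, hzW⟩)
    (fun h' => hz' (mem_subgroupOf.mp h'))
  obtain ⟨φ, hφ⟩ := exists_hom_of_index_two hU3
  have hker : ∀ x : W, (x : T) ∈ Z T j → φ x = 1 := fun x hx => by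
    rw [← MonoidHom.mem_ker, hφ]
    exact hU1 (mem_subgroupOf.mpr hx)
  refine ⟨φ, hker, ⟨⟨z, hzW⟩, hz, fun h' => hU2 (hφ ▸ MonoidHom.mem_ker.mpr h')⟩, fun x => ?_⟩
  constructor
  · intro hx
    have hKn : ((coordHom φ).ker.map W.subtype).Normal := by
      refine ⟨?_⟩
      rintro _ ⟨y, hy, rfl⟩ t
      refine ⟨MulAut.conjNormal t y, MonoidHom.mem_ker.mpr (funext fun q => ?_),
        MulAut.conjNormal_apply t y⟩
      obtain ⟨s, rfl⟩ := QuotientGroup.mk_surjective q
      have := congrFun (MonoidHom.mem_ker.mp hy) ((s * t : T) : T ⧸ W)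
      rw [coordHom_apply, map_mul] at this
      rw [coordHom_apply]
      exact this
    refine (le_or_Z_le h.p2 h.doubling ((coordHom φ).ker.map W.subtype) j hj).resolve_right
      (fun hle => ?_) ⟨x, MonoidHom.mem_ker.mpr hx, rfl⟩
    obtain ⟨y, hy, hyz⟩ := hle hz
    have hy1 := congrFun (MonoidHom.mem_ker.mp hy) ((1 : T) : T ⧸ W)
    rw [coordHom_apply, map_one, Pi.one_apply] at hy1
    refine hU2 ?_
    rw [show (⟨z, hzW⟩ : W) = y from Subtype.ext hyz.symm, ← hφ]
    exact MonoidHom.mem_ker.mpr hy1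
  · intro hx
    funext q
    exact hker _ (by rw [MulEquiv.coe_toMonoidHom, MulAut.conjNormal_apply]; exact conj_mem_Z hx _)

theorem card_le_of_sq (h : Hyp W) {j : ℕ} (hj : j ≤ 3) (hsq : ∀ x ∈ W, x * x ∈ Z T j) :
    Nat.card W ≤ Nat.card (Z T j) * 2 ^ W.index := by
  have := h.normal
  obtain ⟨φ, -, -, hker⟩ := h.exists_coord hj hsq
  have h1 : (coordHom φ).ker = (Z T j).subgroupOf W := by
    ext x
    rw [MonoidHom.mem_ker, hker, mem_subgroupOf]
  have h2 := (coordHom φ).ker.card_mul_index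
  rw [h1, Nat.card_congr (subgroupOfEquivOfLe ((Z_le (by omega)).trans h.Z_four_le)).toEquiv,
    ← h1, index_ker] at h2
  rw [← h2]
  refine Nat.mul_le_mul_left _ ((Finite.card_subtype_le _).trans ?_)
  rw [Nat.card_fun, index_eq_card]
  simp [Nat.card_eq_fintype_card]

theorem not_forall_sq_mem_Z_two (h : Hyp W) : ¬ ∀ x ∈ W, x * x ∈ Z T 2 := by
  intro hsq
  have h1 := h.card_le_of_sq (j := 2) (by norm_num) hsq
  rw [h.card_two] at h1
  have h2 := W.card_mul_index
  have h3 := h.big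
  have h4 := h.index_le
  have h5 : 2 ^ W.index ≤ 2 ^ 8 := Nat.pow_le_pow_right (by norm_num) h4
  nlinarith

theorem phiT_eq (h : Hyp W) : phiT W = Z T 3 := by
  have := h.phiT_normal
  refine le_antisymm h.phiT_le ((le_or_Z_le h.p2 h.doubling (phiT W) 2 (by norm_num)).resolve_left
    fun hle => h.not_forall_sq_mem_Z_two fun x hx => hle (h.sq_mem_phiT hx))

/-- The orders of `T`, `W` and `T / W`. -/
theorem orders (h : Hyp W) : W.index = 8 ∧ Nat.card W = 2 ^ 11 ∧ Nat.card T = 2 ^ 14 := by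
  have h1 := h.card_le_of_sq (j := 3) le_rfl fun x hx => h.sq_mem hx
  rw [h.card_three] at h1
  have h2 := W.card_mul_index
  have h3 := h.big
  have h4 := h.index_le
  have h6 : W.index = 8 := by
    by_contra hne
    have h5 : 2 ^ W.index ≤ 2 ^ 7 := Nat.pow_le_pow_right (by norm_num) (by omega)
    nlinarith
  rw [h6] at h1 h2
  norm_num at h1 h3 ⊢
  exact ⟨h6, by omega, by omega⟩

/-- Subgroups of small index in `W` contain the third term. -/
theorem Z_three_le_of_relIndex (h : Hyp W) {U : Subgroup T} (hU : U.relIndex W ≤ 16) :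
    Z T 3 ≤ U := by
  rw [← h.phiT_eq]
  rintro _ ⟨x, hx, rfl⟩
  exact mem_subgroupOf.mp (h.phi_le (U.subgroupOf W) hU hx)

/-- No subgroup of index at most four in `W` is abelian modulo the second term. -/
theorem key (h : Hyp W) {L : Subgroup T} (hLW : L ≤ W) (h3L : Z T 3 ≤ L)
    (hidx : L.relIndex W ≤ 4) : ¬ ∀ a ∈ L, ∀ b ∈ L, ⁅a, b⁆ ∈ Z T 2 := by
  intro hcomm
  have hd := h.doubling
  have hfac : ∀ a ∈ L, ∀ b ∈ L, ∃ c ∈ Z T 2, a * b * (a * b) = c * (a * a * (b * b)) := by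
    intro a ha b hb
    refine ⟨a * ⁅b, a⁆ * a⁻¹, conj_mem_Z (hcomm b hb a ha) a, ?_⟩
    rw [commutatorElement_def]
    group
  let M : Subgroup T :=
    { carrier := {x | x ∈ L ∧ x * x ∈ Z T 2}
      one_mem' := ⟨one_mem L, by simp⟩
      mul_mem' := fun {a b} ha hb => by
        refine ⟨mul_mem ha.1 hb.1, ?_⟩
        obtain ⟨c, hc, e⟩ := hfac a ha.1 b hb.1
        rw [e]
        exact mul_mem hc (mul_mem ha.2 hb.2)
      inv_mem' := fun {a} ha => ⟨inv_mem ha.1, by rw [← mul_inv_rev]; exact inv_mem ha.2⟩ }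
  have hM1 : M.relIndex L ≤ 2 := by
    refine relIndex_le_two_of_mul_mem fun a ha b hb ha' hb' => ⟨mul_mem ha hb, ?_⟩
    obtain ⟨c, hc, e⟩ := hfac a ha b hb
    rw [e]
    exact mul_mem hc (mul_mem_Z hd (by norm_num) (h.sq_mem (hLW ha)) (h.sq_mem (hLW hb))
      (fun x => ha' ⟨ha, x⟩) fun x => hb' ⟨hb, x⟩)
  have hML : M ≤ L := fun x hx => hx.1
  obtain ⟨z, hz, hz'⟩ := exists_mem_not_mem hd (k := 2) (by norm_num)
  have hzM : z ∈ M := ⟨h3L hz, sq_mem_Z hd (by norm_num) hz⟩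
  have h2M : Z T 2 ≤ M := fun x hx => ⟨h3L (Z_le (by norm_num) hx), mul_mem hx hx⟩
  obtain ⟨U, -, hU1, hU2, hU3⟩ := exists_relIndex_two_avoid h2M (fun x hx => hx.2) hzM hz'
  refine hU2 (h.Z_three_le_of_relIndex ?_ hz)
  rw [← relIndex_mul_relIndex U M W hU1 (hML.trans hLW), hU3,
    ← relIndex_mul_relIndex M L W hML hLW]
  calc 2 * (M.relIndex L * L.relIndex W) ≤ 2 * (2 * 4) :=
        Nat.mul_le_mul_left _ (Nat.mul_le_mul hM1 hidx)
    _ ≤ 16 := by norm_num

theorem commutator_eq (h : Hyp W) : (commutator W).map W.subtype = Z T 3 := by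
  have := h.normal
  have hn : ((commutator W).map W.subtype).Normal := inferInstance
  have hle : (commutator W).map W.subtype ≤ Z T 3 := by
    rintro _ ⟨x, hx, rfl⟩
    have := Fact.mk Nat.prime_two
    exact h.phiT_le ⟨x, PGroup.commutator_le_frattini (h.p2.to_subgroup W) hx, rfl⟩
  refine le_antisymm hle ((le_or_Z_le h.p2 h.doubling _ 2 (by norm_num)).resolve_left fun hc => ?_)
  refine h.key le_rfl h.Z_three_le (by simp) fun a ha b hb => hc ?_
  exact ⟨⁅⟨a, ha⟩, ⟨b, hb⟩⁆, commutator_mem_commutator (mem_top _) (mem_top _), rfl⟩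

theorem comm_mul_right (h : Hyp W) {a b c : T} (ha : a ∈ W) (hb : b ∈ W) (hc : c ∈ W) :
    ⁅a, b * c⁆ = ⁅a, b⁆ * ⁅a, c⁆ := by
  have e : ⁅a, b * c⁆ = ⁅a, b⁆ * (b * ⁅a, c⁆ * b⁻¹) := by
    simp only [commutatorElement_def]
    group
  rw [e, h.conj_eq_self (h.comm_mem ha hc) hb]

theorem comm_mul_left (h : Hyp W) {a b c : T} (ha : a ∈ W) (hb : b ∈ W) (hc : c ∈ W) :
    ⁅a * b, c⁆ = ⁅a, c⁆ * ⁅b, c⁆ := by
  have e : ⁅a * b, c⁆ = a * ⁅b, c⁆ * a⁻¹ * ⁅a, c⁆ := by
    simp only [commutatorElement_def]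
    group
  rw [e, h.conj_eq_self (h.comm_mem hb hc) ha,
    h.comm_Z_three (h.comm_mem hb hc) (h.Z_three_le (h.comm_mem ha hc))]

theorem comm_eq_one (h : Hyp W) {z w : T} (hz : z ∈ Z T 3) (hw : w ∈ W) : ⁅z, w⁆ = 1 :=
  commutatorElement_eq_one_iff_commute.mpr (h.comm_Z_three hz hw)

theorem Z_three_sq (h : Hyp W) {z : T} (hz : z ∈ Z T 3) : z * z = 1 := by
  let E : Subgroup T :=
    { carrier := {x | x ∈ Z T 3 ∧ x * x = 1}
      one_mem' := ⟨one_mem _, mul_one 1⟩
      mul_mem' := fun {a b} ha hb => ⟨mul_mem ha.1 hb.1, by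
        calc a * b * (a * b) = a * (b * a) * b := by group
          _ = a * (a * b) * b := by rw [h.comm_Z_three hb.1 (h.Z_three_le ha.1)]
          _ = (a * a) * (b * b) := by group
          _ = 1 := by rw [ha.2, hb.2, mul_one]⟩
      inv_mem' := fun {a} ha => ⟨inv_mem ha.1, by rw [← mul_inv_rev, ha.2, inv_one]⟩ }
  have hle : (commutator W).map W.subtype ≤ E := by
    rw [commutator_def, map_commutator, ← MonoidHom.range_eq_map, W.range_subtype,
      Subgroup.commutator_le]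
    intro a ha b hb
    refine ⟨h.comm_mem ha hb, ?_⟩
    rw [← h.comm_mul_left ha ha hb, h.comm_eq_one (h.sq_mem ha) hb]
  rw [h.commutator_eq] at hle
  exact (hle hz).2

/-- `W / Z₃` is the regular module of `T / W`. -/
theorem exists_regular (h : Hyp W) [W.Normal] :
    ∃ φ : W →* M2, (∀ x : W, coordHom φ x = 1 ↔ (x : T) ∈ Z T 3) ∧
      Function.Surjective (coordHom φ) ∧
      ∃ z : W, (z : T) ∈ Z T 4 ∧ coordHom φ z = fun _ => eps := by
  obtain ⟨hidx, hcard, -⟩ := h.orders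
  obtain ⟨φ, hker0, ⟨z, hz, hz'⟩, hker⟩ := h.exists_coord le_rfl fun x hx => h.sq_mem hx
  refine ⟨φ, hker, MonoidHom.range_eq_top.mp (eq_top_of_le_card _ ?_), z, hz, ?_⟩
  · have h1 : (coordHom φ).ker = (Z T 3).subgroupOf W := by
      ext x
      rw [MonoidHom.mem_ker, hker, mem_subgroupOf]
    have h2 := (coordHom φ).ker.card_mul_index
    rw [h1, Nat.card_congr (subgroupOfEquivOfLe h.Z_three_le).toEquiv, ← h1, index_ker,
      h.card_three, hcard] at h2
    have h3 : Nat.card (T ⧸ W → M2) = 256 := by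
      rw [Nat.card_fun, ← index_eq_card, hidx]
      simp [Nat.card_eq_fintype_card]
    exact (h3.trans (Nat.eq_of_mul_eq_mul_left (by norm_num)
      (h2.trans (show (2 : ℕ) ^ 11 = 8 * 256 by norm_num))).symm).le
  · funext q
    obtain ⟨t, rfl⟩ := QuotientGroup.mk_surjective q
    rw [coordHom_apply]
    let c : W := ⟨⁅t, (z : T)⁆, h.Z_three_le (comm_mem_Z' hz t)⟩
    have hc : φ c = 1 := hker0 c (comm_mem_Z' hz t)
    have e : MulAut.conjNormal t z = c * z := by
      apply Subtype.ext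
      rw [MulAut.conjNormal_apply]
      show t * (z : T) * t⁻¹ = ⁅t, (z : T)⁆ * z
      rw [commutatorElement_def]
      group
    rw [e, map_mul, hc, one_mul]
    exact (m2_cases _).resolve_left hz'

end Hyp

end Cfsg.Agent.InvChar.Rudvalis
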