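import Cfsg.Agent.KnownSimple58.A8Subgroups

/-!
Subgroups of the alternating group of degree 8 isomorphic to the symmetric group of degree 6 are conjugate.
-/

set_option autoImplicit false

namespace Cfsg.Agent.InvChar.SixInEight

open Cfsg.Agent.KnownSimple58.A8Sub

/-- the stabiliser of a set of points -/
def setStab (s : Set (Fin 8)) : Subgroup A where
  carrier := {g | ∀ x, (g : Equiv.Perm (Fin 8)) x ∈ s ↔ x ∈ s}
  one_mem' := fun _ => Iff.rfl
  mul_mem' := fun {a b} ha hb x => (ha ((b : Equiv.Perm (Fin 8)) x)).trans (hb x)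
  inv_mem' := fun {a} ha x => by
    have h := ha ((a : Equiv.Perm (Fin 8))⁻¹ x)
    rw [← Equiv.Perm.mul_apply, mul_inv_cancel, Equiv.Perm.one_apply] at h
    exact h.symm

theorem card_setStab_le (a b : Fin 8) (hab : a ≠ b) : Nat.card (setStab {a, b}) ≤ 720 := by
  classical
  let B := {x : Fin 8 // ¬ (x = a ∨ x = b)}
  let f : setStab {a, b} → Equiv.Perm B := fun g =>
    (g.1.1).subtypePerm (fun x => by
      have := g.2 x
      simp only [Set.mem_insert_iff, Set.mem_singleton_iff] at this
      exact not_congr this)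
  have hf : Function.Injective f := by
    intro g g' h
    have hout : ∀ x, x ≠ a → x ≠ b → (g.1.1) x = (g'.1.1) x := fun x hxa hxb =>
      congrArg Subtype.val (Equiv.congr_fun h ⟨x, by tauto⟩)
    have key : g.1.1 = g'.1.1 ∨ g.1.1 = g'.1.1 * Equiv.swap a b := by
      have ha : (g.1.1) a = (g'.1.1) a ∨ (g.1.1) a = (g'.1.1) b := by
        obtain ⟨y, hy⟩ := (g'.1.1).surjective ((g.1.1) a)
        by_cases hya : y = a
        · left; rw [← hy, hya]
        by_cases hyb : y = b
        · right; rw [← hy, hyb]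
        exfalso
        exact hya ((g.1.1).injective (by rw [hout y hya hyb, hy]))
      have hrest : ∀ y, (g.1.1) b = (g'.1.1) y → y = a ∨ y = b := fun y hy => by
        by_contra hc
        push Not at hc
        exact hc.2 ((g.1.1).injective (by rw [hout y hc.1 hc.2, hy]))
      obtain ⟨y, hy⟩ := (g'.1.1).surjective ((g.1.1) b)
      rcases ha with ha | ha
      · left
        refine Equiv.ext fun x => ?_
        by_cases hxa : x = a
        · rw [hxa, ha]
        by_cases hxb : x = b
        · subst hxb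
          rcases hrest y hy.symm with h' | h'
          · exact absurd ((g.1.1).injective (ha.trans ((congrArg _ h').symm.trans hy))) hab
          · exact hy.symm.trans (congrArg _ h')
        exact hout x hxa hxb
      · right
        refine Equiv.ext fun x => ?_
        rw [Equiv.Perm.mul_apply]
        by_cases hxa : x = a
        · rw [hxa, Equiv.swap_apply_left, ha]
        by_cases hxb : x = b
        · subst hxb
          rw [Equiv.swap_apply_right]
          rcases hrest y hy.symm with h' | h'
          · exact hy.symm.trans (congrArg _ h')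
          · exact absurd ((g.1.1).injective (ha.trans ((congrArg _ h').symm.trans hy))) hab
        rw [Equiv.swap_apply_of_ne_of_ne hxa hxb]
        exact hout x hxa hxb
    rcases key with h' | h'
    · exact Subtype.ext (Subtype.ext h')
    · exfalso
      have h1 : Equiv.Perm.sign g.1.1 = 1 := g.1.2
      have h2 : Equiv.Perm.sign g'.1.1 = 1 := g'.1.2
      rw [h', map_mul, h2, one_mul, Equiv.Perm.sign_swap hab] at h1
      exact absurd h1 (by decide)
  have hB : Nat.card B = 6 := by
    rw [Nat.card_eq_fintype_card, Fintype.card_subtype_compl, Fintype.card_fin, Fintype.card_subtype]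
    have : (Finset.univ.filter fun x : Fin 8 => x = a ∨ x = b) = {a, b} := by ext x; simp
    rw [this, Finset.card_pair hab]
  refine (Nat.card_le_card_of_injective f hf).trans ?_
  rw [Nat.card_perm, hB]
  exact le_rfl

/-- the image of the symmetric group of degree 6 preserves a pair of points -/
theorem exists_pair (h : Equiv.Perm (Fin 6) →* A) (hh : Function.Injective h) :
    ∃ a b : Fin 8, a ≠ b ∧ h.range = setStab {a, b} := by
  classical
  let N := alternatingGroup (Fin 6)
  let ι : N →* A := h.comp N.subtype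
  have hι : Function.Injective ι := hh.comp N.subtype_injective
  haveI : IsSimpleGroup N := alternatingGroup.isSimpleGroup (by simp)
  have hN : Nat.card N = 360 := by rw [nat_card_alternatingGroup, Nat.card_fin]; rfl
  have hNc : ¬ IsMulCommutative N := SmallGroups.not_comm_of_not_prime (by rw [hN]; norm_num)
  letI : MulAction N (Fin 8) := MulAction.compHom _ ((alternatingGroup (Fin 8)).subtype.comp ι)
  have hsize : ∀ a : Fin 8, (MulAction.orbit N a).ncard = 1 ∨ (MulAction.orbit N a).ncard = 6 := by
    intro a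
    have hle : (MulAction.orbit N a).ncard ≤ 8 := (Set.ncard_le_ncard (Set.subset_univ _)).trans (by simp)
    have hm := (MulAction.stabilizer N a).index_mul_card
    rw [← MulAction.index_stabilizer] at hle ⊢
    by_cases ht : MulAction.stabilizer N a = ⊤
    · left; rw [ht, Subgroup.index_top]
    have h2 := SmallGroups.two_mul_card_dvd_index hNc ht
    rw [hN] at h2 hm
    generalize hk : (MulAction.stabilizer N a).index = k at h2 hm hle
    interval_cases k <;> try (norm_num [Nat.factorial] at h2)
    all_goals try omega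
    exfalso
    have hS : Nat.card (MulAction.stabilizer N a) = 45 := by omega
    haveI : Fact (Nat.Prime 5) := ⟨by norm_num⟩
    obtain ⟨P⟩ : Nonempty (Sylow 5 (MulAction.stabilizer N a)) := inferInstance
    have hd := normalizer_dvd (ι.comp (MulAction.stabilizer N a).subtype)
      (hι.comp (MulAction.stabilizer N a).subtype_injective) 5 60 (by rw [hS]; norm_num) (by norm_num)
      card_normalizer_five P
    have hi := (Subgroup.normalizer ((P : Subgroup (MulAction.stabilizer N a)) :
      Set (MulAction.stabilizer N a))).index_mul_card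
    replace hi : Nat.card (Sylow 5 (MulAction.stabilizer N a)) *
        Nat.card ↥(Subgroup.normalizer ((P : Subgroup (MulAction.stabilizer N a)) :
          Set (MulAction.stabilizer N a))) = 45 := by
      rw [P.card_eq_index_normalizer, ← hS]; exact hi
    have hn5 := card_sylow_modEq_one 5 (MulAction.stabilizer N a)
    have hmem : Nat.card (Sylow 5 (MulAction.stabilizer N a)) ∈ Nat.divisors 45 :=
      Nat.mem_divisors.mpr ⟨Dvd.intro _ hi, by norm_num⟩
    have key : ∀ n ∈ Nat.divisors 45, n % 5 = 1 → n = 1 := by decide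
    rw [key _ hmem hn5, one_mul] at hi
    rw [hi] at hd
    norm_num at hd
  obtain ⟨a₀, ha₀⟩ : ∃ a : Fin 8, (MulAction.orbit N a).ncard = 6 := by
    by_contra hno
    push Not at hno
    have : ∀ n : N, n = 1 := fun n => hι (by
      rw [map_one]
      refine Subtype.ext (Equiv.ext fun a => ?_)
      obtain ⟨b, hb⟩ := Set.ncard_eq_one.mp ((hsize a).resolve_right (hno a))
      have e1 : n • a ∈ MulAction.orbit N a := MulAction.mem_orbit a n
      have e2 : a ∈ MulAction.orbit N a := MulAction.mem_orbit_self a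
      rw [hb] at e1 e2
      exact e1.trans e2.symm)
    haveI : Subsingleton N := ⟨fun x y => (this x).trans (this y).symm⟩
    rw [Nat.card_of_subsingleton (1 : N)] at hN
    norm_num at hN
  let F : Set (Fin 8) := {x | ∀ n : N, n • x = x}
  have hF : F = (MulAction.orbit N a₀)ᶜ := by
    ext b
    constructor
    · intro hb hmem
      have h1 : MulAction.orbit N b = {b} := Set.eq_singleton_iff_unique_mem.mpr
        ⟨MulAction.mem_orbit_self b, fun x ⟨n, hn⟩ => hn ▸ hb n⟩
      rw [← (MulAction.orbit_eq_iff.mpr hmem : MulAction.orbit N b = MulAction.orbit N a₀), h1,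
        Set.ncard_singleton] at ha₀
      norm_num at ha₀
    · intro hb n
      have hdisj : Disjoint (MulAction.orbit N a₀) (MulAction.orbit N b) := Set.disjoint_left.mpr fun x hx hx' => hb (by
        show b ∈ MulAction.orbit N a₀
        rw [← (MulAction.orbit_eq_iff.mpr hx : MulAction.orbit N x = MulAction.orbit N a₀),
          (MulAction.orbit_eq_iff.mpr hx' : MulAction.orbit N x = MulAction.orbit N b)]
        exact MulAction.mem_orbit_self b)
      have h8 : (MulAction.orbit N a₀ ∪ MulAction.orbit N b).ncard ≤ 8 :=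
        (Set.ncard_le_ncard (Set.subset_univ _)).trans (by simp)
      rw [Set.ncard_union_eq hdisj, ha₀] at h8
      obtain ⟨c, hc⟩ := Set.ncard_eq_one.mp ((hsize b).resolve_right (by omega))
      have e1 : n • b ∈ MulAction.orbit N b := MulAction.mem_orbit b n
      have e2 : b ∈ MulAction.orbit N b := MulAction.mem_orbit_self b
      rw [hc] at e1 e2
      exact e1.trans e2.symm
  have hF2 : F.ncard = 2 := by
    rw [hF, Set.ncard_compl, ha₀]; simp
  obtain ⟨a, b, hab, hFab⟩ := Set.ncard_eq_two.mp hF2
  refine ⟨a, b, hab, ?_⟩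
  rw [← hFab]
  have hfwd : ∀ σ : Equiv.Perm (Fin 6), ∀ x ∈ F, (h σ : Equiv.Perm (Fin 8)) x ∈ F := by
    intro σ x hx n
    have hmem : σ⁻¹ * (n : Equiv.Perm (Fin 6)) * σ ∈ N := by
      simpa using (inferInstance : N.Normal).conj_mem _ n.2 σ⁻¹
    have h1 : (h (σ⁻¹ * (n : Equiv.Perm (Fin 6)) * σ) : Equiv.Perm (Fin 8)) x = x := hx ⟨_, hmem⟩
    show (h (n : Equiv.Perm (Fin 6)) : Equiv.Perm (Fin 8)) ((h σ : Equiv.Perm (Fin 8)) x) = _
    have h2 : (n : Equiv.Perm (Fin 6)) * σ = σ * (σ⁻¹ * (n : Equiv.Perm (Fin 6)) * σ) := by group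
    rw [← Equiv.Perm.mul_apply, ← Subgroup.coe_mul, ← map_mul, h2, map_mul, Subgroup.coe_mul,
      Equiv.Perm.mul_apply, h1]
  have hle : h.range ≤ setStab F := by
    rintro _ ⟨σ, rfl⟩ x
    refine ⟨fun hx => ?_, hfwd σ x⟩
    have := hfwd σ⁻¹ _ hx
    rwa [← Equiv.Perm.mul_apply, ← Subgroup.coe_mul, ← map_mul, inv_mul_cancel, map_one, Subgroup.coe_one,
      Equiv.Perm.one_apply] at this
  refine Subgroup.eq_of_le_of_card_ge hle ?_
  rw [← Nat.card_congr (MonoidHom.ofInjective hh).toEquiv, Nat.card_perm, Nat.card_fin, hFab]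
  exact card_setStab_le a b hab

/-- any two embeddings of the symmetric group of degree 6 have conjugate images -/
theorem range_conj (h₁ h₂ : Equiv.Perm (Fin 6) →* A) (hh₁ : Function.Injective h₁) (hh₂ : Function.Injective h₂) :
    ∃ g : A, ∀ σ, ∃ τ, h₂ τ = g * h₁ σ * g⁻¹ := by
  obtain ⟨a, b, hab, e₁⟩ := exists_pair h₁ hh₁
  obtain ⟨c, d, hcd, e₂⟩ := exists_pair h₂ hh₂
  obtain ⟨u, hu1, hu2⟩ : ∃ u : Equiv.Perm (Fin 8), u a = c ∧ u b = d := by
    refine ⟨Equiv.swap (Equiv.swap a c b) d * Equiv.swap a c, ?_, ?_⟩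
    · rw [Equiv.Perm.mul_apply, Equiv.swap_apply_left, Equiv.swap_apply_of_ne_of_ne ?_ hcd]
      intro h
      exact hab ((Equiv.swap a c).injective ((Equiv.swap_apply_left a c).trans h))
    · rw [Equiv.Perm.mul_apply, Equiv.swap_apply_left]
  obtain ⟨g, hg⟩ : ∃ g : A, ∀ x, (g : Equiv.Perm (Fin 8)) x ∈ ({c, d} : Set (Fin 8)) ↔ x ∈ ({a, b} : Set (Fin 8)) := by
    have base : ∀ x, u x ∈ ({c, d} : Set (Fin 8)) ↔ x ∈ ({a, b} : Set (Fin 8)) := fun x => by
      simp only [Set.mem_insert_iff, Set.mem_singleton_iff, ← hu1, ← hu2, u.injective.eq_iff]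
    rcases Int.units_eq_one_or (Equiv.Perm.sign u) with h | h
    · exact ⟨⟨u, h⟩, base⟩
    · refine ⟨⟨Equiv.swap c d * u, ?_⟩, fun x => ?_⟩
      · rw [Equiv.Perm.mem_alternatingGroup, map_mul, Equiv.Perm.sign_swap hcd, h]; rfl
      · rw [← base x]
        show Equiv.swap c d (u x) ∈ _ ↔ _
        simp only [Set.mem_insert_iff, Set.mem_singleton_iff]
        rcases eq_or_ne (u x) c with h1 | h1
        · rw [h1, Equiv.swap_apply_left]; tauto
        rcases eq_or_ne (u x) d with h2 | h2
        · rw [h2, Equiv.swap_apply_right]; tauto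
        rw [Equiv.swap_apply_of_ne_of_ne h1 h2]
  refine ⟨g, fun σ => ?_⟩
  suffices g * h₁ σ * g⁻¹ ∈ h₂.range from this
  rw [e₂]
  intro x
  have hσ : h₁ σ ∈ setStab {a, b} := e₁ ▸ ⟨σ, rfl⟩
  show (g : Equiv.Perm (Fin 8)) ((h₁ σ : Equiv.Perm (Fin 8)) ((g : Equiv.Perm (Fin 8))⁻¹ x)) ∈ _ ↔ _
  rw [hg, hσ, ← hg, ← Equiv.Perm.mul_apply, mul_inv_cancel, Equiv.Perm.one_apply]

end Cfsg.Agent.InvChar.SixInEight
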