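import Cfsg.Agent.Lib.LinearGroup.PSL42
import Mathlib.Algebra.Module.ZMod

/-!
The four dimensional module of the symmetric group of degree 6 over the field with two elements.
-/

set_option autoImplicit false

namespace Cfsg.Agent.InvChar.SixModule

open Cfsg.Agent

abbrev V : Type := Fin 4 → ZMod 2

abbrev S : Type := Equiv.Perm (Fin 6)

/-- even subset with last coordinate zero -/
def lift (y : V) : Fin 6 → ZMod 2 := ![y 0, y 1, y 2, y 3, y 0 + y 1 + y 2 + y 3, 0]

/-- coordinates of an even subset, up to complement -/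
def coords (x : Fin 6 → ZMod 2) : V := fun i => x (Fin.castLE (by norm_num) i) + x 5

def act (σ : S) (y : V) : V := coords (lift y ∘ ⇑σ⁻¹)

theorem lift_add : ∀ a b : V, lift (a + b) = lift a + lift b := by decide +kernel

theorem act_add (σ : S) (a b : V) : act σ (a + b) = act σ a + act σ b := by
  funext i
  simp only [act, coords, lift_add, Function.comp_apply, Pi.add_apply]
  abel

theorem lift_coords : ∀ x : Fin 6 → ZMod 2, (∑ i, x i) = 0 → ∀ i, lift (coords x) i = x i + x 5 := by
  decide +kernel

theorem sum_lift : ∀ y : V, ∑ i, lift y i = 0 := by decide +kernel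

theorem act_mul (σ τ : S) (y : V) : act (σ * τ) y = act σ (act τ y) := by
  have h : ∀ i, lift (act τ y) i = lift y (τ⁻¹ i) + lift y (τ⁻¹ 5) :=
    lift_coords (lift y ∘ ⇑τ⁻¹) (by simp only [Function.comp_apply]; rw [Equiv.sum_comp τ⁻¹ (lift y)]; exact sum_lift y)
  funext i
  show lift y ((σ * τ)⁻¹ _) + lift y ((σ * τ)⁻¹ 5) = lift (act τ y) _ + lift (act τ y) _
  have h2 : lift y (τ⁻¹ 5) + lift y (τ⁻¹ 5) = 0 := CharTwo.add_self_eq_zero _
  rw [h, h, add_add_add_comm, h2, add_zero, mul_inv_rev]
  rfl

theorem act_one : ∀ y : V, act 1 y = y := by decide +kernel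

noncomputable def lin (σ : S) : V →ₗ[ZMod 2] V :=
  AddMonoidHom.toZModLinearMap 2 (AddMonoidHom.mk' (act σ) (act_add σ))

theorem lin_apply (σ : S) (y : V) : lin σ y = act σ y := rfl

noncomputable def mat : S →* Matrix (Fin 4) (Fin 4) (ZMod 2) where
  toFun σ := LinearMap.toMatrix' (lin σ)
  map_one' := by
    rw [show lin 1 = LinearMap.id from LinearMap.ext act_one, LinearMap.toMatrix'_id]
  map_mul' σ τ := by
    rw [← LinearMap.toMatrix'_comp]
    exact congrArg _ (LinearMap.ext (act_mul σ τ))

theorem det_eq_one (M : Matrix (Fin 4) (Fin 4) (ZMod 2)) (h : IsUnit M) : M.det = 1 := by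
  have h := (Matrix.isUnit_iff_isUnit_det _).mp h
  revert h
  generalize M.det = x
  intro h
  fin_cases x
  · exact absurd h not_isUnit_zero
  · rfl

/-- the representation -/
noncomputable def hom : S →* LinearGroup.PSL42.G where
  toFun σ := ⟨mat σ, det_eq_one _ ((Group.isUnit σ).map mat)⟩
  map_one' := Subtype.ext (map_one mat)
  map_mul' σ τ := Subtype.ext (map_mul mat σ τ)

theorem hom_mulVec (σ : S) (y : V) : (hom σ).1.mulVec y = act σ y :=
  ((Matrix.toLin'_apply (LinearMap.toMatrix' (lin σ)) y).symm.trans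
    (LinearMap.congr_fun (Matrix.toLin'_toMatrix' (lin σ)) y) :)

theorem act_ker : ∀ σ : S,
    (∀ y ∈ [![1, 1, 0, 0], ![0, 1, 1, 0], ![0, 0, 1, 1], ![0, 0, 0, 1]], act σ y = y) → σ = 1 := by
  decide +kernel

theorem hom_injective : Function.Injective hom := by
  refine (injective_iff_map_eq_one hom).mpr fun σ h => act_ker σ fun y _ => ?_
  rw [← hom_mulVec, h]
  exact Matrix.one_mulVec y

/-- the elementary abelian subgroup of order 8 generated by three disjoint transpositions -/
def E : Subgroup S where
  carrier := {σ | ∀ i : Fin 6, (σ i).val / 2 = i.val / 2}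
  one_mem' := fun _ => rfl
  mul_mem' := fun {a b} ha hb i => (ha (b i)).trans (hb i)
  inv_mem' := fun {a} ha i => by
    have := ha (a⁻¹ i)
    rw [← Equiv.Perm.mul_apply, mul_inv_cancel, Equiv.Perm.one_apply] at this
    exact this.symm

def el (a b c : Bool) : S :=
  (if a then Equiv.swap 0 1 else 1) * (if b then Equiv.swap 2 3 else 1) * (if c then Equiv.swap 4 5 else 1)

theorem mem_E {σ : S} : σ ∈ E ↔ ∀ i : Fin 6, (σ i).val / 2 = i.val / 2 := Iff.rfl

theorem exists_el : ∀ σ : S, (∀ i : Fin 6, (σ i).val / 2 = i.val / 2) → ∃ a b c, el a b c = σ := by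
  decide +kernel

theorem card_E : Nat.card E = 8 := by
  let f : Bool × Bool × Bool → E := fun t => ⟨el t.1 t.2.1 t.2.2, by
    revert t; simp only [mem_E]; decide +kernel⟩
  have hf : Function.Bijective f := by
    constructor
    · intro s t h
      have := congrArg Subtype.val h
      revert this
      show el s.1 s.2.1 s.2.2 = el t.1 t.2.1 t.2.2 → s = t
      revert s t
      decide +kernel
    · intro σ
      obtain ⟨a, b, c, h⟩ := exists_el σ.1 σ.2
      exact ⟨(a, b, c), Subtype.ext h⟩
  rw [← Nat.card_congr (Equiv.ofBijective f hf)]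
  simp

/-- the two functionals whose common kernel is the commutator space of `E` -/
def func (y : V) : ZMod 2 × ZMod 2 := (y 0 + y 1, y 2 + y 3)

theorem sq_el : ∀ a b c, el a b c * el a b c = 1 := by decide +kernel

theorem func_el : ∀ a b c, ∀ y : V, func (act (el a b c) y + y) = 0 := by decide +kernel

theorem key_el : ∀ a b c, el a b c ≠ 1 → ∀ v : V, act (el a b c) v = v →
    (∀ i j : Fin 6, Equiv.swap i j * el a b c = el a b c * Equiv.swap i j →
      ∃ w : V, act (Equiv.swap i j) v + v = act (el a b c) w + w) → func v = 0 := by decide +kernel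

end Cfsg.Agent.InvChar.SixModule
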