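import Cfsg.Agent.InvChar.SixModule
import Cfsg.Agent.InvChar.SixInEight
import Cfsg.Agent.S3103

/-!
A 2-constrained group of sectional 2-rank at most four has no radical quotient containing a
symmetric group of degree 6.
-/

set_option autoImplicit false
set_option maxHeartbeats 200000

namespace Cfsg.Agent.InvChar.SixRank

open Cfsg.Agent

theorem card_mulAut_le {V : Type*} [CommGroup V] [Finite V] (h2 : ∀ v : V, v ^ 2 = 1) (h8 : Nat.card V ≤ 8) :
    Nat.card (MulAut V) ≤ 512 := by
  classical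
  haveI := Fact.mk Nat.prime_two
  haveI : Module (ZMod 2) (Additive V) := AddCommGroup.zmodModule (fun v => h2 v.toMul)
  haveI : Module.Finite (ZMod 2) (Additive V) := Module.Finite.of_finite
  let b := Module.finBasis (ZMod 2) (Additive V)
  have hd : Nat.card (Additive V) = 2 ^ Module.finrank (ZMod 2) (Additive V) := by
    rw [Module.natCard_eq_pow_finrank (K := ZMod 2), Nat.card_zmod]
  have h8' : 2 ^ Module.finrank (ZMod 2) (Additive V) ≤ 2 ^ 3 := by rw [← hd]; exact h8
  have hd3 := (Nat.pow_le_pow_iff_right (by norm_num)).mp h8'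
  let f : MulAut V → (Fin (Module.finrank (ZMod 2) (Additive V)) → V) := fun g i => g (b i).toMul
  have hf : Function.Injective f := fun g g' h => by
    have he : AddMonoidHom.toZModLinearMap 2 (MonoidHom.toAdditive g.toMonoidHom) =
        AddMonoidHom.toZModLinearMap 2 (MonoidHom.toAdditive g'.toMonoidHom) :=
      b.ext fun i => congrArg Additive.ofMul (congrFun h i)
    exact MulEquiv.ext fun v => congrArg Additive.toMul (LinearMap.congr_fun he (Additive.ofMul v))
  refine (Nat.card_le_card_of_injective f hf).trans ?_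
  rw [Nat.card_fun, Nat.card_fin]
  calc Nat.card V ^ Module.finrank (ZMod 2) (Additive V) ≤ 8 ^ Module.finrank (ZMod 2) (Additive V) :=
        Nat.pow_le_pow_left h8 _
    _ ≤ 8 ^ 3 := Nat.pow_le_pow_right (by norm_num) hd3
    _ = 512 := by norm_num

theorem exists_coords {V : Type*} [CommGroup V] [Finite V] (h2 : ∀ v : V, v ^ 2 = 1) (h16 : Nat.card V = 16) :
    ∃ (a : V → SixModule.V) (N : MulAut V →* LinearGroup.PSL42.G), Function.Surjective a ∧
      Function.Injective N ∧ (∀ u v, a (u * v) = a u + a v) ∧ ∀ g v, (N g).1.mulVec (a v) = a (g v) := by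
  classical
  haveI := Fact.mk Nat.prime_two
  haveI : Module (ZMod 2) (Additive V) := AddCommGroup.zmodModule (fun v => h2 v.toMul)
  haveI : Module.Finite (ZMod 2) (Additive V) := Module.Finite.of_finite
  have hd : Module.finrank (ZMod 2) (Additive V) = 4 := by
    have hh : Nat.card (Additive V) = 2 ^ 4 := (Nat.card_congr Additive.toMul).trans h16
    rw [Module.natCard_eq_pow_finrank (K := ZMod 2), Nat.card_zmod] at hh
    exact Nat.pow_right_injective le_rfl hh
  let b : Module.Basis (Fin 4) (ZMod 2) (Additive V) :=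
    (Module.finBasis (ZMod 2) (Additive V)).reindex (finCongr hd)
  let L : MulAut V →* (Additive V →ₗ[ZMod 2] Additive V) :=
    { toFun := fun g => AddMonoidHom.toZModLinearMap 2 (MonoidHom.toAdditive g.toMonoidHom)
      map_one' := LinearMap.ext fun _ => rfl
      map_mul' := fun _ _ => LinearMap.ext fun _ => rfl }
  let M : MulAut V →* Matrix (Fin 4) (Fin 4) (ZMod 2) := (LinearMap.toMatrixAlgEquiv b).toMonoidHom.comp L
  let N : MulAut V →* LinearGroup.PSL42.G :=
    { toFun := fun g => ⟨M g, SixModule.det_eq_one _ ((Group.isUnit g).map M)⟩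
      map_one' := Subtype.ext (map_one M)
      map_mul' := fun g h => Subtype.ext (map_mul M g h) }
  refine ⟨fun v => b.equivFun (Additive.ofMul v), N, fun y => ?_, ?_, fun u v => map_add b.equivFun _ _, fun g v => ?_⟩
  · exact ⟨(b.equivFun.symm y).toMul, b.equivFun.apply_symm_apply y⟩
  · intro g h hgh
    have h1 : L g = L h := (LinearMap.toMatrixAlgEquiv b).injective (congrArg Subtype.val hgh)
    exact MulEquiv.ext fun v => congrArg Additive.toMul (LinearMap.congr_fun h1 (Additive.ofMul v))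
  · show (LinearMap.toMatrixAlgEquiv b (L g)).mulVec (b.equivFun (Additive.ofMul v)) = _
    simp only [Module.Basis.equivFun_apply]
    exact LinearMap.toMatrix_mulVec_repr b b (L g) (Additive.ofMul v)

/-- the action on the Frattini quotient of a self-centralizing normal 2-subgroup -/
theorem exists_action {X : Type*} [Group X] [Finite X] {Q : Subgroup X} [Q.Normal] (hQ : Q = Cfsg.pCore 2 X)
    (hC : Subgroup.centralizer (Q : Set X) ≤ Q) (h4 : Cfsg.SectionalPRankLE 2 4 ↥Q)
    (h : Equiv.Perm (Fin 6) →* X ⧸ Q) (hh : Function.Injective h) :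
    ∃ (c : ↥Q → SixModule.V) (ρ : X →* LinearGroup.PSL42.G), Function.Surjective c ∧ ρ.ker = Q ∧
      (∀ p q, c (p * q) = c p + c q) ∧ ∀ x q, (ρ x).1.mulVec (c q) = c (MulAut.conjNormal x q) := by
  haveI := Fact.mk Nat.prime_two
  have hQp : IsPGroup 2 Q := hQ ▸ Thompson.isPGroup_pCore
  have hchar : ∀ x : X, (frattini Q).map (MulAut.conjNormal (H := Q) x).toMonoidHom = frattini Q :=
    fun x => Subgroup.characteristic_iff_map_eq.mp inferInstance _
  let φ : X →* MulAut (↥Q ⧸ frattini Q) :=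
    { toFun := fun x => QuotientGroup.congr _ _ (MulAut.conjNormal x) (hchar x)
      map_one' := MulEquiv.ext fun v => by
        obtain ⟨q, rfl⟩ := QuotientGroup.mk_surjective v
        simp
      map_mul' := fun x y => MulEquiv.ext fun v => by
        obtain ⟨q, rfl⟩ := QuotientGroup.mk_surjective v
        show ((MulAut.conjNormal (x * y) q : Q) : ↥Q ⧸ frattini Q) =
          ((MulAut.conjNormal x (MulAut.conjNormal y q) : Q) : ↥Q ⧸ frattini Q)
        rw [map_mul]; rfl }
  letI : CommGroup (↥Q ⧸ frattini Q) :=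
    { (inferInstance : Group (↥Q ⧸ frattini Q)) with mul_comm := fun a b => (PGroup.quotient_frattini_commute hQp a b).eq }
  have hle : Nat.card (↥Q ⧸ frattini Q) ≤ 2 ^ 4 := by
    let π := (QuotientGroup.mk' (frattini ↥Q)).comp (⊤ : Subgroup ↥Q).subtype
    have hsurj : Function.Surjective π := fun v => by
      obtain ⟨q, rfl⟩ := QuotientGroup.mk_surjective v
      exact ⟨⟨q, trivial⟩, rfl⟩
    let e := QuotientGroup.quotientKerEquivOfSurjective π hsurj
    have h := h4 ⊤ π.ker ⊤ ⟨⟨fun a b => Subtype.ext (e.injective (by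
      simp only [Subgroup.coe_mul, map_mul]; exact mul_comm _ _))⟩⟩ (fun a _ => e.injective (by
      rw [map_pow, map_one]; exact PGroup.quotient_frattini_pow hQp _))
    rwa [Subgroup.card_top, Nat.card_congr e.toEquiv] at h
  have hker : φ.ker = Q := by
    ext x
    rw [MonoidHom.mem_ker]
    constructor
    · intro hx
      rw [hQ]
      refine Class49.mem_pCore_of_frattini_trivial (hQ ▸ hC) (a := x) ?_
      rw [← hQ]
      intro q hq
      have h1 : QuotientGroup.mk' (frattini Q) (MulAut.conjNormal x (⟨q, hq⟩ : Q) * (⟨q, hq⟩ : Q)⁻¹) = 1 := by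
        have h2 : ((MulAut.conjNormal x (⟨q, hq⟩ : Q) : Q) : ↥Q ⧸ frattini Q) = ((⟨q, hq⟩ : Q) : ↥Q ⧸ frattini Q) :=
          DFunLike.congr_fun hx (QuotientGroup.mk (⟨q, hq⟩ : Q))
        rw [map_mul, map_inv, QuotientGroup.mk'_apply, QuotientGroup.mk'_apply, h2, mul_inv_cancel]
      exact ⟨_, (QuotientGroup.eq_one_iff _).mp h1, by simp⟩
    · intro hx
      refine MulEquiv.ext fun v => ?_
      obtain ⟨q, rfl⟩ := QuotientGroup.mk_surjective v
      have e : MulAut.conjNormal x q = (⟨x, hx⟩ : Q) * q * (⟨x, hx⟩ : Q)⁻¹ := Subtype.ext (by simp)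
      show ((MulAut.conjNormal x q : Q) : ↥Q ⧸ frattini Q) = _
      rw [e, QuotientGroup.mk_mul, QuotientGroup.mk_mul, QuotientGroup.mk_inv, mul_comm (QuotientGroup.mk (⟨x, hx⟩ : Q)),
        mul_inv_cancel_right]
      rfl
  have h16 : Nat.card (↥Q ⧸ frattini Q) = 16 := by
    by_contra hne
    obtain ⟨d, hd⟩ := (hQp.to_quotient (frattini Q)).exists_card_eq
    have h8 : Nat.card (↥Q ⧸ frattini Q) ≤ 8 := by
      rw [hd] at hne hle ⊢
      have hd4 := (Nat.pow_le_pow_iff_right (by norm_num)).mp hle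
      interval_cases d <;> simp at hne ⊢
    have hc1 := card_mulAut_le (fun v => PGroup.quotient_frattini_pow hQp v) h8
    let e0 := QuotientGroup.quotientMulEquivOfEq hker.symm
    have hc2 := Nat.card_le_card_of_injective _
      ((QuotientGroup.kerLift_injective φ).comp (e0.injective.comp hh))
    rw [Nat.card_perm, Nat.card_fin, show Nat.factorial 6 = 720 from rfl] at hc2
    omega
  obtain ⟨a, N, ha, hN, hadd, heq⟩ := exists_coords (fun v => PGroup.quotient_frattini_pow hQp v) h16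
  refine ⟨fun q => a (QuotientGroup.mk q), N.comp φ, ha.comp QuotientGroup.mk_surjective,
    ?_, fun p q => ?_, fun x q => ?_⟩
  · refine Eq.trans ?_ hker
    ext y
    rw [MonoidHom.mem_ker, MonoidHom.mem_ker, MonoidHom.comp_apply, map_eq_one_iff N hN]
  · show a (QuotientGroup.mk p * QuotientGroup.mk q) = _
    exact hadd _ _
  exact heq (φ x) (QuotientGroup.mk q)

theorem not_six {X : Type*} [Group X] [Finite X] (hc : Cfsg.IsPConstrained 2 X) (hO : Cfsg.oddCore X = ⊥)
    {Q : Subgroup X} [Q.Normal] (hQ : Q = Cfsg.pCore 2 X)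
    (h4 : Cfsg.SectionalPRankLE 2 4 ↥Q) (h4X : Cfsg.SectionalPRankLE 2 4 X)
    (h : Equiv.Perm (Fin 6) →* X ⧸ Q) (hh : Function.Injective h) : False := by
  classical
  have hC : Subgroup.centralizer (Q : Set X) ≤ Q := hQ ▸ S3103.constrained_centralizer hc hO
  obtain ⟨c, ρ, hcs, hρ, hcadd, hceq⟩ := exists_action hQ hC h4 h hh
  obtain ⟨ε⟩ := LinearGroup.PSL42.equiv
  let h₂ : Equiv.Perm (Fin 6) →* KnownSimple58.A8Sub.A :=
    ε.toMonoidHom.comp ((QuotientGroup.kerLift ρ).comp ((QuotientGroup.quotientMulEquivOfEq hρ.symm).toMonoidHom.comp h))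
  have hh₂ : Function.Injective h₂ := ε.injective.comp ((QuotientGroup.kerLift_injective ρ).comp
    ((QuotientGroup.quotientMulEquivOfEq hρ.symm).injective.comp hh))
  obtain ⟨g, hg⟩ := SixInEight.range_conj (ε.toMonoidHom.comp SixModule.hom) h₂
    (ε.injective.comp SixModule.hom_injective) hh₂
  let u : LinearGroup.PSL42.G := ε.symm g
  let ρ' : X →* LinearGroup.PSL42.G := (MulAut.conj u⁻¹).toMonoidHom.comp ρ
  have hρ' : ρ'.ker = Q := by
    rw [← hρ]; ext y
    rw [MonoidHom.mem_ker, MonoidHom.mem_ker]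
    exact map_eq_one_iff _ (MulAut.conj u⁻¹).injective

  have hlift : ∀ σ, ∃ x, ρ' x = SixModule.hom σ := by
    intro σ
    obtain ⟨τ, hτ⟩ := hg σ
    obtain ⟨x, hx⟩ := QuotientGroup.mk_surjective (h τ)
    refine ⟨x, ?_⟩
    have h1 : ρ x = u * SixModule.hom σ * u⁻¹ := ε.injective (by
      rw [map_mul, map_mul, map_inv, MulEquiv.apply_symm_apply]
      refine Eq.trans ?_ hτ
      show ε (ρ x) = ε (QuotientGroup.kerLift ρ (QuotientGroup.quotientMulEquivOfEq hρ.symm (h τ)))
      rw [← hx, QuotientGroup.quotientMulEquivOfEq_mk, QuotientGroup.kerLift_mk])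
    show u⁻¹ * ρ x * u⁻¹⁻¹ = _
    rw [h1]; group
  let c' : ↥Q → SixModule.V := fun q => (u⁻¹).1.mulVec (c q)
  have hc'add : ∀ p q, c' (p * q) = c' p + c' q := fun p q => by
    show (u⁻¹).1.mulVec _ = _
    rw [hcadd, Matrix.mulVec_add]
  have hc'eq : ∀ x q, (ρ' x).1.mulVec (c' q) = c' (MulAut.conjNormal x q) := fun x q => by
    have e1 : ρ' x * u⁻¹ = u⁻¹ * ρ x := by
      simp only [ρ', MonoidHom.comp_apply, MulEquiv.coe_toMonoidHom, MulAut.conj_apply, inv_inv]
      rw [mul_assoc, mul_inv_cancel, mul_one]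
    show (ρ' x).1.mulVec ((u⁻¹).1.mulVec (c q)) = (u⁻¹).1.mulVec (c (MulAut.conjNormal x q))
    rw [← hceq, Matrix.mulVec_mulVec, Matrix.mulVec_mulVec, ← Matrix.SpecialLinearGroup.coe_mul,
      ← Matrix.SpecialLinearGroup.coe_mul, e1]
  have hc's : Function.Surjective c' := fun y => by
    obtain ⟨q, hq⟩ := hcs (u.1.mulVec y)
    refine ⟨q, ?_⟩
    show (u⁻¹).1.mulVec (c q) = y
    rw [hq, Matrix.mulVec_mulVec, ← Matrix.SpecialLinearGroup.coe_mul, inv_mul_cancel, Matrix.SpecialLinearGroup.coe_one,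
      Matrix.one_mulVec]
  have hfadd : ∀ a b, SixModule.func (a + b) = SixModule.func a + SixModule.func b := by decide +kernel
  have hvv : ∀ a : SixModule.V, a + a = 0 := fun a => funext fun i => CharTwo.add_self_eq_zero _
  let χ : ↥Q →* Multiplicative (ZMod 2 × ZMod 2) :=
    MonoidHom.mk' (fun q => Multiplicative.ofAdd (SixModule.func (c' q))) fun p q => by
      show Multiplicative.ofAdd _ = _
      rw [hc'add, hfadd]; rfl
  have hχs : Function.Surjective χ := by
    intro y
    obtain ⟨q, hq⟩ := hc's ![y.toAdd.1, 0, y.toAdd.2, 0]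
    refine ⟨q, ?_⟩
    show Multiplicative.ofAdd (SixModule.func (c' q)) = y
    rw [hq]
    simp [SixModule.func]
  let K : Subgroup X := χ.ker.map Q.subtype
  let H : Subgroup X := (SixModule.E.map SixModule.hom).comap ρ'
  have hQH : Q ≤ H := by
    intro x hx
    rw [Subgroup.mem_comap, (MonoidHom.mem_ker.mp (hρ'.symm ▸ hx) : ρ' x = 1)]
    exact one_mem _
  have hKQ : K ≤ Q := Subgroup.map_subtype_le _
  have hKmem : ∀ x, x ∈ K ↔ ∃ hx : x ∈ Q, SixModule.func (c' ⟨x, hx⟩) = 0 := fun x => by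
    constructor
    · rintro ⟨q, hq, rfl⟩
      exact ⟨q.2, Multiplicative.ofAdd.injective (MonoidHom.mem_ker.mp hq)⟩
    · rintro ⟨hx, h0⟩
      exact ⟨⟨x, hx⟩, by show Multiplicative.ofAdd _ = 1; rw [h0]; rfl, rfl⟩
  have hQH' : Q.relIndex H = 8 := by
    rw [← hρ', ← MonoidHom.comap_bot, Subgroup.relIndex_comap, Subgroup.relIndex_bot_left,
      Subgroup.map_comap_eq_self, Subgroup.card_map_of_injective SixModule.hom_injective, SixModule.card_E]
    rintro _ ⟨σ, -, rfl⟩
    exact hlift σ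
  have hKQ' : K.relIndex Q = 4 := by
    show (K.subgroupOf Q).index = 4
    rw [show K.subgroupOf Q = χ.ker from Subgroup.comap_map_eq_self_of_injective Q.subtype_injective _,
      Subgroup.index_ker, MonoidHom.range_eq_top.mpr hχs, Subgroup.card_top]
    simp
  have hstep : ∀ x ∈ H, ∀ q : ↥Q, SixModule.func (c' (MulAut.conjNormal x q)) = SixModule.func (c' q) := by
    intro x hx q
    obtain ⟨σ, hσ, hσx⟩ := hx
    obtain ⟨a, b, d, rfl⟩ := SixModule.exists_el σ hσ
    have h0 := SixModule.func_el a b d (c' q)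
    have hz : ∀ a b : ZMod 2 × ZMod 2, a + b = 0 → a = b := by decide +kernel
    rw [← hc'eq, ← hσx, SixModule.hom_mulVec]
    rw [hfadd] at h0
    exact hz _ _ h0
  haveI hN : (K.subgroupOf H).Normal := ⟨fun k hk x => by
    rw [Subgroup.mem_subgroupOf] at hk ⊢
    obtain ⟨hkQ, hk0⟩ := (hKmem _).mp hk
    refine (hKmem _).mpr ⟨Subgroup.Normal.conj_mem inferInstance _ hkQ x.1, ?_⟩
    refine Eq.trans (congrArg (fun q => SixModule.func (c' q)) (Subtype.ext ?_)) ((hstep x.1 x.2 ⟨_, hkQ⟩).trans hk0)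
    rw [MulAut.conjNormal_apply]
    simp⟩
  have hsq : ∀ x ∈ H, x * x ∈ K := by
    intro x hx
    obtain ⟨σ, hσ, hσx⟩ := hx
    obtain ⟨a, b, d, rfl⟩ := SixModule.exists_el σ hσ
    have hss := SixModule.sq_el a b d
    have hxx : x * x ∈ Q := by
      rw [← hρ', MonoidHom.mem_ker, map_mul, ← hσx, ← map_mul, hss, map_one]
    refine (hKmem _).mpr ⟨hxx, ?_⟩
    by_cases h1 : SixModule.el a b d = 1
    · have hxQ : x ∈ Q := by rw [← hρ', MonoidHom.mem_ker, ← hσx, h1, map_one]
      rw [show (⟨x * x, hxx⟩ : ↥Q) = ⟨x, hxQ⟩ * ⟨x, hxQ⟩ from rfl, hc'add, hvv]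
      rfl
    refine SixModule.key_el a b d h1 _ ?_ fun i j hij => ?_
    · rw [← SixModule.hom_mulVec, hσx, hc'eq]
      exact congrArg c' (Subtype.ext (by rw [MulAut.conjNormal_apply]; group))
    obtain ⟨y, hy⟩ := hlift (Equiv.swap i j)
    have hqQ : x⁻¹ * (y * x * y⁻¹) ∈ Q := by
      rw [← hρ', MonoidHom.mem_ker]
      simp only [map_mul, map_inv, hy, ← hσx]
      rw [← map_inv, ← map_inv, ← map_mul, ← map_mul, ← map_mul, hij, mul_assoc (SixModule.el a b d),
        mul_inv_cancel, mul_one, inv_mul_cancel, map_one]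
    refine ⟨c' ⟨_, hqQ⟩, ?_⟩
    have hinv : (SixModule.el a b d)⁻¹ = SixModule.el a b d := inv_eq_of_mul_eq_one_right hss
    rw [← SixModule.hom_mulVec, ← SixModule.hom_mulVec, ← hy, hc'eq,
      show SixModule.hom (SixModule.el a b d) = ρ' x⁻¹ by rw [map_inv, ← hσx, ← map_inv, hinv], hc'eq]
    have he : MulAut.conjNormal y (⟨x * x, hxx⟩ : ↥Q) =
        ⟨x * x, hxx⟩ * MulAut.conjNormal x⁻¹ ⟨_, hqQ⟩ * ⟨_, hqQ⟩ := by
      refine Subtype.ext ?_
      simp only [Subgroup.coe_mul, MulAut.conjNormal_apply]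
      group
    rw [he, hc'add, hc'add, add_comm, ← add_assoc, ← add_assoc, hvv, zero_add]
  have helem : ∀ v : ↥H ⧸ K.subgroupOf H, v * v = 1 := by
    intro v
    obtain ⟨x, rfl⟩ := QuotientGroup.mk_surjective v
    rw [← QuotientGroup.mk_mul, QuotientGroup.eq_one_iff, Subgroup.mem_subgroupOf]
    exact hsq x.1 x.2
  have hinv : ∀ v : ↥H ⧸ K.subgroupOf H, v⁻¹ = v := fun v => inv_eq_of_mul_eq_one_right (helem v)
  have hbound := h4X H (K.subgroupOf H) ⊤
    ⟨⟨fun a b => Subtype.ext (by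
      simp only [Subgroup.coe_mul]
      rw [← hinv (a.1 * b.1), _root_.mul_inv_rev, hinv, hinv])⟩⟩
    fun a _ => by rw [pow_two]; exact helem a
  rw [Subgroup.card_top, ← Subgroup.index_eq_card, show (K.subgroupOf H).index = K.relIndex H from rfl,
    ← Subgroup.relIndex_mul_relIndex K Q H hKQ hQH, hKQ', hQH'] at hbound
  norm_num at hbound

end Cfsg.Agent.InvChar.SixRank
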