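import Cfsg.Agent.InvChar.UTFour
import Cfsg.Agent.FGS76.Fpf3
import Cfsg.Agent.Lib.PGroup.Basic
import Cfsg.Agent.Lib.SmallGroups.Order168
import Cfsg.Agent.Lib.Perm.QuaternionClassTwo
import Mathlib.GroupTheory.SpecificGroups.Quaternion

/-!
# Groups of order 64 with a symmetric group of degree three acting, the rotation without
fixed points
-/

set_option autoImplicit false

open Subgroup
open scoped commutatorElement

namespace Cfsg.Agent.InvChar.SixtyFour

variable {T : Type*} [Group T]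

/-- Powers with exponents in `ZMod 2`. -/
def pow2 (s : T) (a : ZMod 2) : T := s ^ a.val

@[simp] theorem pow2_zero (s : T) : pow2 s 0 = 1 := by simp [pow2]

@[simp] theorem pow2_one (s : T) : pow2 s 1 = s := by simp [pow2, ZMod.val_one]

theorem pow2_add {s : T} (hs : s * s = 1) (a b : ZMod 2) :
    pow2 s (a + b) = pow2 s a * pow2 s b := by
  rcases zmod2_or a with rfl | rfl <;> rcases zmod2_or b with rfl | rfl <;>
    simp [hs, show (1 : ZMod 2) + 1 = 0 by decide]

/-- The hypotheses. -/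
structure Hyp (ρ x : T ≃* T) : Prop where
  card : Nat.card T = 64
  notComm : ¬ ∀ a b : T, Commute a b
  rho3 : ∀ t, ρ (ρ (ρ t)) = t
  x2 : ∀ t, x (x t) = t
  xrho : ∀ t, x (ρ t) = ρ (ρ (x t))
  fpf : ∀ t, ρ t = t → t = 1

namespace Hyp

variable {ρ x : T ≃* T} [Finite T]

theorem pgroup (h : Hyp ρ x) : IsPGroup 2 T := IsPGroup.of_card (n := 6) (by rw [h.card]; norm_num)

theorem rel (h : Hyp ρ x) (t : T) : t * ρ t * ρ (ρ t) = 1 :=
  FGS76.fpf3_relation ρ h.fpf h.rho3 t

theorem comm_rho (h : Hyp ρ x) (t : T) : Commute t (ρ t) :=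
  FGS76.fpf3_commute ρ h.fpf h.rho3 t

theorem rho2_eq (h : Hyp ρ x) (t : T) : ρ (ρ t) = (t * ρ t)⁻¹ := eq_inv_of_mul_eq_one_right (h.rel t)

theorem comm_central (h : Hyp ρ x) (a b c : T) : Commute ⁅a, b⁆ c :=
  FGS76.commutator_mem_center_of_engel (FGS76.fpf3_engel ρ h.fpf h.rho3)
    (by rw [h.card]; norm_num) a b c

theorem comm_mem (h : Hyp ρ x) (a b : T) : ⁅a, b⁆ ∈ center T :=
  mem_center_iff.mpr fun c => (h.comm_central a b c).symm.eq

theorem map_center (_h : Hyp ρ x) (φ : T ≃* T) {z : T} (hz : z ∈ center T) : φ z ∈ center T := by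
  rw [mem_center_iff] at hz ⊢
  intro g
  obtain ⟨g, rfl⟩ := φ.surjective g
  rw [← map_mul, ← map_mul, hz g]

/-- The two elements `s`, `ρ s` are independent modulo an invariant subgroup not containing `s`. -/
theorem indep (h : Hyp ρ x) {N : Subgroup T} (hN : ∀ n ∈ N, ρ n ∈ N) {s : T} (hs : s ∉ N)
    (i j : ZMod 2) (hij : pow2 s i * pow2 (ρ s) j ∈ N) : i = 0 ∧ j = 0 := by
  rcases zmod2_or i with rfl | rfl <;> rcases zmod2_or j with rfl | rfl <;> simp at hij ⊢
  · exact hs (h.rho3 s ▸ hN _ (hN _ hij))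
  · exact hs hij
  · have h2 : ρ (ρ s) ∈ N := by rw [h.rho2_eq]; exact inv_mem hij
    exact hs (h.rho3 s ▸ hN _ h2)

theorem four_mul_card_le (h : Hyp ρ x) {N S : Subgroup T} [N.Normal] (hN : ∀ n ∈ N, ρ n ∈ N)
    {s : T} (hs : s ∉ N) (hs2 : s * s ∈ N) (hNS : N ≤ S) (hsS : s ∈ S) (hrS : ρ s ∈ S) :
    4 * Nat.card N ≤ Nat.card S := by
  let π := QuotientGroup.mk' N
  have h1 : π s * π s = 1 := by
    rw [← map_mul]; exact (QuotientGroup.eq_one_iff _).mpr hs2
  have h2 : π (ρ s) * π (ρ s) = 1 := by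
    rw [← map_mul, ← map_mul]; exact (QuotientGroup.eq_one_iff _).mpr (hN _ hs2)
  have hpw : ∀ (g : T) (a : ZMod 2), π (pow2 g a) = pow2 (π g) a := fun g a => map_pow π g _
  have hc : ∀ a b, π (pow2 s a * pow2 (ρ s) b) = π (pow2 (ρ s) b * pow2 s a) := fun a b => by
    exact congrArg π ((h.comm_rho s).pow_pow a.val b.val).eq
  let f : (ZMod 2 × ZMod 2) × N → S := fun p =>
    ⟨pow2 s p.1.1 * pow2 (ρ s) p.1.2 * (p.2 : T),
      mul_mem (mul_mem (pow_mem hsS _) (pow_mem hrS _)) (hNS p.2.2)⟩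
  have hf : Function.Injective f := by
    rintro ⟨⟨i, j⟩, n⟩ ⟨⟨i', j'⟩, n'⟩ he
    have he' : pow2 s i * pow2 (ρ s) j * (n : T) = pow2 s i' * pow2 (ρ s) j' * (n' : T) :=
      congrArg Subtype.val he
    have hn : ∀ m : N, π (m : T) = 1 := fun m => (QuotientGroup.eq_one_iff _).mpr m.2
    have he2 := congrArg π he'
    rw [map_mul, map_mul, map_mul π (_ * _), map_mul, hn, hn, mul_one, mul_one, hpw, hpw, hpw,
      hpw] at he2
    have hc2 := hc (i + i') (j + j')
    have h0 : π (pow2 s (i + i') * pow2 (ρ s) (j + j')) = 1 := by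
      have hcm := hc i' j
      rw [map_mul, map_mul, hpw, hpw] at hcm
      rw [map_mul, hpw, hpw, add_comm i i', add_comm j j', pow2_add h1, pow2_add h2]
      calc pow2 (π s) i' * pow2 (π s) i * (pow2 (π (ρ s)) j' * pow2 (π (ρ s)) j)
          = pow2 (π s) i' * (pow2 (π s) i * pow2 (π (ρ s)) j) *
              (pow2 (π (ρ s)) j)⁻¹ * (pow2 (π (ρ s)) j' * pow2 (π (ρ s)) j) := by group
        _ = pow2 (π s) i' * (pow2 (π s) i' * pow2 (π (ρ s)) j') *
              (pow2 (π (ρ s)) j)⁻¹ * (pow2 (π (ρ s)) j' * pow2 (π (ρ s)) j) := by rw [he2]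
        _ = 1 := by
          have q1 : pow2 (π s) i' * pow2 (π s) i' = 1 := by
            rw [← pow2_add h1, show i' + i' = 0 from CharTwo.add_self_eq_zero _, pow2_zero]
          rcases zmod2_or j with rfl | rfl <;> rcases zmod2_or j' with rfl | rfl <;>
            simp [← mul_assoc, q1, h2, inv_eq_of_mul_eq_one_right h2]
    obtain ⟨e1, e2⟩ := h.indep hN hs _ _ ((QuotientGroup.eq_one_iff _).mp h0)
    have hi : ∀ a b : ZMod 2, a + b = 0 → a = b := by decide
    obtain rfl := hi _ _ e1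
    obtain rfl := hi _ _ e2
    exact Prod.ext rfl (Subtype.ext (mul_left_cancel he'))
  have := Nat.card_le_card_of_injective f hf
  simpa [Nat.card_prod] using this

theorem index_center_ne (h : Hyp ρ x) : (center T).index ≠ 1 ∧ (center T).index ≠ 2 := by
  constructor
  · intro hi
    rw [index_eq_one] at hi
    exact h.notComm fun a b => (mem_center_iff.mp (hi ▸ mem_top a) b).symm
  · intro hi
    obtain ⟨a, ha⟩ := index_eq_two_iff.mp hi
    apply h.notComm
    have hall : ∀ b, b ∈ center T ∨ b * a ∈ center T := fun b => by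
      rcases ha b with ⟨h1, -⟩ | ⟨h1, -⟩
      exacts [Or.inr h1, Or.inl h1]
    intro b c
    rcases hall b with hb | hb
    · exact (mem_center_iff.mp hb c).symm
    rcases hall c with hc | hc
    · exact mem_center_iff.mp hc b
    have e1 : Commute (b * a) (c * a) := (mem_center_iff.mp hb _).symm
    have e2 : Commute (b * a) a := (mem_center_iff.mp hb _).symm
    have e3 : Commute (c * a) a := (mem_center_iff.mp hc _).symm
    have := (e1.mul_right e2.inv_right).mul_left ((e3.symm.inv_left).mul_right (Commute.refl a).inv_left.inv_right)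
    simpa using this

theorem center_small (h : Hyp ρ x) : Nat.card (center T) < 16 := by
  by_contra hbig
  push Not at hbig
  obtain ⟨h1, h2⟩ := h.index_center_ne
  have hmul := (center T).card_mul_index
  rw [h.card] at hmul
  have hidx : (center T).index = 3 ∨ (center T).index = 4 := by
    have := index_ne_zero_of_finite (H := center T)
    rcases Nat.lt_or_ge (center T).index 5 with h3 | h3
    · omega
    · nlinarith
  have hidx' : (center T).index = 4 := by
    refine hidx.resolve_left fun h3 => ?_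
    rw [h3] at hmul
    omega
  obtain ⟨s, hs⟩ : ∃ s, s ∉ center T := by
    by_contra hc
    push Not at hc
    exact h.notComm fun a b => (mem_center_iff.mp (hc a) b).symm
  by_cases hs2 : s * s ∈ center T
  · let S := Subgroup.closure ((center T : Set T) ∪ {s, ρ s})
    have hcomm : ∀ a ∈ ((center T : Set T) ∪ {s, ρ s}), ∀ b ∈ ((center T : Set T) ∪ {s, ρ s}),
        a * b = b * a := by
      intro a ha b hb
      simp only [Set.mem_union, Set.mem_insert_iff, Set.mem_singleton_iff, SetLike.mem_coe] at ha hb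
      rcases ha with ha | ha | ha <;> rcases hb with hb | hb | hb
      all_goals first
        | exact ((mem_center_iff.mp ha) _).symm
        | exact (mem_center_iff.mp hb) _
        | (rw [ha, hb]; done)
        | (rw [ha, hb]; exact (h.comm_rho s).eq)
        | (rw [ha, hb]; exact (h.comm_rho s).symm.eq)
    have hS := h.four_mul_card_le (fun n hn => h.map_center ρ hn) hs hs2
      (S := S) (fun g hg => subset_closure (Or.inl hg))
      (subset_closure (Or.inr (Or.inl rfl))) (subset_closure (Or.inr (Or.inr rfl)))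
    have htop : S = ⊤ := eq_top_of_le_card _ (by rw [h.card]; omega)
    have := Subgroup.isMulCommutative_closure hcomm
    exact h.notComm fun a b => congrArg Subtype.val
      (this.is_comm.comm (⟨a, by show a ∈ S; rw [htop]; exact mem_top a⟩ : S) ⟨b, by show b ∈ S; rw [htop]; exact mem_top b⟩)
  · have hq : (QuotientGroup.mk' (center T) s) ^ (center T).index = 1 := by
      rw [← map_pow]; exact (QuotientGroup.eq_one_iff _).mpr (pow_index_mem _ s)
    have hcyc : IsCyclic (T ⧸ center T) := by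
      have := Fact.mk Nat.prime_two
      refine isCyclic_of_orderOf_eq_card (QuotientGroup.mk' (center T) s) ?_
      rw [← index_eq_card, hidx']
      refine orderOf_eq_prime_pow (p := 2) (n := 1) ?_ (by rw [hidx'] at hq; exact hq)
      rw [pow_one, pow_two, ← map_mul]
      exact fun hh => hs2 ((QuotientGroup.eq_one_iff _).mp hh)
    exact h.notComm fun a b =>
      (commGroupOfCyclicCenterQuotient (QuotientGroup.mk' (center T)) (by simp)).mul_comm a b

/-- The centre is a four-group, and squares are central. -/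
theorem center_facts (h : Hyp ρ x) :
    Nat.card (center T) = 4 ∧ (∀ z ∈ center T, z * z = 1) ∧ ∀ t : T, t * t ∈ center T := by
  classical
  have := Fact.mk Nat.prime_two
  have := Fact.mk Nat.prime_three
  have := h.center_small
  have hne : center T ≠ ⊥ := by
    have : Nontrivial T := Finite.one_lt_card_iff_nontrivial.mp (by rw [h.card]; norm_num)
    exact h.pgroup.bot_lt_center.ne'
  obtain ⟨z, hz, hz1, hz2⟩ := PGroup.exists_mem_pow_eq_one h.pgroup hne
  rw [pow_two] at hz2
  let E : Subgroup T :=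
    { carrier := {g | g ∈ center T ∧ g * g = 1}
      one_mem' := ⟨one_mem _, mul_one 1⟩
      mul_mem' := fun {a b} ha hb => ⟨mul_mem ha.1 hb.1, by
        calc a * b * (a * b) = a * (b * a) * b := by group
          _ = a * (a * b) * b := by rw [mem_center_iff.mp hb.1 a]
          _ = (a * a) * (b * b) := by group
          _ = 1 := by rw [ha.2, hb.2, mul_one]⟩
      inv_mem' := fun {a} ha => ⟨inv_mem ha.1, by rw [← mul_inv_rev, ha.2, inv_one]⟩ }
  have hEZ : E ≤ center T := fun g hg => hg.1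
  have hEn : E.Normal := ⟨fun g hg t => by
    rwa [mem_center_iff.mp hg.1 t, mul_inv_cancel_right]⟩
  have hEr : ∀ g ∈ E, ρ g ∈ E := fun g hg =>
    ⟨h.map_center ρ hg.1, by rw [← map_mul, hg.2, map_one]⟩
  have hE4 : 4 ≤ Nat.card E := by
    have := h.four_mul_card_le (N := (⊥ : Subgroup T)) (S := E) (fun n hn => by
      rw [mem_bot] at hn ⊢; rw [hn, map_one]) (by simpa using hz1) (by simpa using hz2) bot_le
      ⟨hz, hz2⟩ (hEr z ⟨hz, hz2⟩)
    simpa using this
  have hstep : ∀ g ∈ center T, g * g ∈ E → g ∈ E := fun g hg hg2 => by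
    by_contra hgE
    have := h.four_mul_card_le hEr hgE hg2 hEZ hg (h.map_center ρ hg)
    omega
  have hpow : ∀ n, ∀ g ∈ center T, g ^ 2 ^ n = 1 → g ∈ E := by
    intro n
    induction n with
    | zero =>
      intro g _ hg
      rw [pow_zero, pow_one] at hg
      rw [hg]
      exact one_mem _
    | succ n ih =>
      intro g hg hgn
      exact hstep g hg (ih _ (mul_mem hg hg) (by rw [← pow_two, ← pow_mul, ← pow_succ']; exact hgn))
  have hexp : ∀ g ∈ center T, g * g = 1 := fun g hg => by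
    obtain ⟨n, hn⟩ := h.pgroup g
    exact (hpow n g hg hn).2
  refine ⟨?_, hexp, fun t => mem_center_iff.mpr fun b => ?_⟩
  · obtain ⟨k, hk⟩ := PGroup.exists_card_eq_pow h.pgroup (center T)
    have hle := hE4.trans (card_le_of_le hEZ)
    have hmod : Nat.card (center T) ≡ 1 [MOD 3] := by
      let f : Function.End (center T) := fun g => ⟨ρ g, h.map_center ρ g.2⟩
      have hf : f ^ 3 ^ 1 = 1 := by
        funext g
        exact Subtype.ext (h.rho3 g)
      let _ : Fintype (center T) := Fintype.ofFinite _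
      have h1 := Equiv.Perm.card_fixedPoints_modEq hf
      have h2 : Fintype.card f.fixedPoints = 1 := by
        rw [Fintype.card_eq_one_iff]
        exact ⟨⟨1, Subtype.ext (map_one ρ)⟩, fun ⟨g, hg⟩ => Subtype.ext (Subtype.ext
          (h.fpf g (congrArg Subtype.val hg)))⟩
      rw [h2] at h1
      rwa [Nat.card_eq_fintype_card]
    rw [hk] at hle hmod this ⊢
    have : k < 4 := (Nat.pow_lt_pow_iff_right (a := 2) (by norm_num)).mp (lt_of_lt_of_eq this (by norm_num))
    interval_cases k <;> simp_all [Nat.ModEq]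
  · have hc := mem_center_iff.mp (h.comm_mem t b)
    have h1 := hexp _ (h.comm_mem t b)
    have e : t * t * b * (t * t)⁻¹ * b⁻¹ = 1 := by
      calc t * t * b * (t * t)⁻¹ * b⁻¹ = (t * ⁅t, b⁆) * t⁻¹ * ⁅t, b⁆ := by
            rw [commutatorElement_def]; group
        _ = 1 := by rw [hc t, mul_inv_cancel_right, h1]
    rw [mul_inv_eq_one, mul_inv_eq_iff_eq_mul] at e
    exact e.symm

theorem cent (_h : Hyp ρ x) {z : T} (hz : z ∈ center T) (g : T) : z * g = g * z :=
  (mem_center_iff.mp hz g).symm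

theorem comm_mul_left (h : Hyp ρ x) (a b c : T) : ⁅a * b, c⁆ = ⁅a, c⁆ * ⁅b, c⁆ := by
  have e : ⁅a * b, c⁆ = a * ⁅b, c⁆ * a⁻¹ * ⁅a, c⁆ := by simp only [commutatorElement_def]; group
  rw [e, ← h.cent (h.comm_mem b c) a, mul_inv_cancel_right, h.cent (h.comm_mem b c)]

theorem comm_symm (h : Hyp ρ x) (a b : T) : ⁅a, b⁆ = ⁅b, a⁆ := by
  rw [← commutatorElement_inv b a, inv_eq_of_mul_eq_one_right (h.center_facts.2.1 _ (h.comm_mem b a))]

theorem comm_mul_right (h : Hyp ρ x) (a b c : T) : ⁅a, b * c⁆ = ⁅a, b⁆ * ⁅a, c⁆ := by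
  rw [h.comm_symm, h.comm_mul_left, h.comm_symm b, h.comm_symm c]

theorem comm_inv_right (h : Hyp ρ x) (a b : T) : ⁅a, b⁻¹⁆ = ⁅a, b⁆ := by
  have e := h.comm_mul_right a b b⁻¹
  rw [mul_inv_cancel, commutatorElement_one_right] at e
  rw [eq_inv_of_mul_eq_one_right e.symm,
    inv_eq_of_mul_eq_one_right (h.center_facts.2.1 _ (h.comm_mem a b))]

theorem map_comm (_h : Hyp ρ x) (φ : T ≃* T) (a b : T) : φ ⁅a, b⁆ = ⁅φ a, φ b⁆ :=
  map_commutatorElement φ a b

theorem comm_rho_self (h : Hyp ρ x) (t : T) : ⁅t, ρ t⁆ = 1 :=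
  commutatorElement_eq_one_iff_commute.mpr (h.comm_rho t)

theorem sq_mul (h : Hyp ρ x) (a b : T) : a * b * (a * b) = a * a * (b * b) * ⁅b, a⁆ := by
  have hc := h.comm_mem b a
  calc a * b * (a * b) = a * ⁅b, a⁆ * a * b * b := by rw [commutatorElement_def]; group
    _ = ⁅b, a⁆ * a * a * b * b := by rw [← h.cent hc a]
    _ = _ := by rw [mul_assoc, mul_assoc, mul_assoc, h.cent hc]; group

theorem rho2_center (h : Hyp ρ x) {z : T} (hz : z ∈ center T) : ρ (ρ z) = z * ρ z := by
  rw [h.rho2_eq]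
  exact inv_eq_of_mul_eq_one_right (h.center_facts.2.1 _ (mul_mem hz (h.map_center ρ hz)))

theorem exists_lift (h : Hyp ρ x) {e : T} (he : e⁻¹ * x e ∈ center T) :
    ∃ e', x e' = e' ∧ e⁻¹ * e' ∈ center T := by
  obtain ⟨-, hexp, -⟩ := h.center_facts
  obtain ⟨c, hc, hxe⟩ : ∃ c ∈ center T, x e = e * c := ⟨_, he, (mul_inv_cancel_left _ _).symm⟩
  have hxc : x c = c := by
    have h1 := h.x2 e
    rw [hxe, map_mul, hxe, mul_assoc, mul_eq_left] at h1
    exact (eq_inv_of_mul_eq_one_right h1).trans (inv_eq_of_mul_eq_one_right (hexp c hc))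
  refine ⟨e * ρ c, ?_, by rw [inv_mul_cancel_left]; exact h.map_center ρ hc⟩
  rw [map_mul, h.xrho, hxe, hxc, h.rho2_center hc, mul_assoc, ← mul_assoc c c, hexp c hc, one_mul]

theorem exists_fixed_not_mem (h : Hyp ρ x) {N : Subgroup T} (hZ : center T ≤ N)
    (hρ : ∀ n ∈ N, ρ n ∈ N) (hN : N ≠ ⊤) : ∃ e, x e = e ∧ e ∉ N := by
  obtain ⟨-, hexp, hsq⟩ := h.center_facts
  have hn : N.Normal := ⟨fun n hn g => by
    have e : g * n * g⁻¹ = ⁅g, n⁆ * n := by rw [commutatorElement_def]; group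
    rw [e]
    exact mul_mem (hZ (h.comm_mem g n)) hn⟩
  by_contra hc
  push Not at hc
  have hy : ∀ y, y * x y ∈ N := by
    intro y
    obtain ⟨e', he1, he2⟩ := h.exists_lift (e := y * x y) (by
      rw [map_mul, h.x2]
      have e : (y * x y)⁻¹ * (x y * y) = ⁅(x y)⁻¹, y⁻¹⁆ := by rw [commutatorElement_def]; group
      rw [e]
      exact h.comm_mem _ _)
    exact (mul_mem_cancel_left (hZ he2)).mp (by
      have := hc e' he1
      rw [show e' = (y * x y) * ((y * x y)⁻¹ * e') from (mul_inv_cancel_left _ _).symm] at this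
      rw [h.cent he2]
      exact this)
  apply hN
  rw [eq_top_iff]
  intro t _
  have hy' : ∀ y, y⁻¹ * x y ∈ N := fun y => by
    rw [show y⁻¹ * x y = (y * y)⁻¹ * (y * x y) by group]
    exact mul_mem (inv_mem (hZ (hsq y))) (hy y)
  -- the rotation fixes every coset
  have hrot' : ∀ y, (ρ (ρ y))⁻¹ * ρ y ∈ N := by
    intro y
    have h1 := hy' (ρ (ρ y))
    rw [h.xrho, h.xrho, h.rho3] at h1
    have h2 := hρ _ (hy' y)
    rw [map_mul, map_inv] at h2
    rw [show (ρ (ρ y))⁻¹ * ρ y =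
      ((ρ (ρ y))⁻¹ * ρ (x y)) * ((ρ y)⁻¹ * ρ (x y))⁻¹ by group]
    exact mul_mem h1 (inv_mem h2)
  have hrot : ∀ y, y⁻¹ * ρ y ∈ N := by
    intro y
    have h1 := inv_mem (hrot' (ρ (ρ y)))
    rwa [h.rho3, h.rho3, mul_inv_rev, inv_inv] at h1
  have hq : ∀ g, QuotientGroup.mk' N (ρ g) = QuotientGroup.mk' N g := fun g =>
    (QuotientGroup.eq.mpr (hrot g)).symm
  have h3 : t * t * t ∈ N := by
    have hr := congrArg (QuotientGroup.mk' N) (h.rel t)
    rw [map_mul, map_mul, map_one, hq, hq, hq, ← map_mul, ← map_mul] at hr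
    exact (QuotientGroup.eq_one_iff _).mp hr
  exact (mul_mem_cancel_left (hZ (hsq t))).mp h3

/-- The mixed commutator of two fixed elements. -/
theorem comm_mixed (h : Hyp ρ x) {e1 e2 : T} (h1 : x e1 = e1) (h2 : x e2 = e2) :
    ⁅e1, ρ e2⁆ = ρ (ρ ⁅e1, e2⁆) := by
  obtain ⟨-, hexp, -⟩ := h.center_facts
  have hz := h.comm_mem e1 e2
  have hc := h.comm_mem e1 (ρ e2)
  have hρc : ρ ⁅e1, ρ e2⁆ = ⁅ρ e1, e2⁆ * ρ ⁅e1, e2⁆ := by
    rw [h.map_comm, h.rho2_eq e2, h.comm_inv_right, h.comm_mul_right, h.map_comm]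
  have hxc : x ⁅e1, ρ e2⁆ = ⁅e1, e2⁆ * ⁅e1, ρ e2⁆ := by
    rw [h.map_comm, h1, h.xrho, h2, h.rho2_eq e2, h.comm_inv_right, h.comm_mul_right]
  have hxd : x ⁅ρ e1, e2⁆ = ⁅e1, e2⁆ * ⁅ρ e1, e2⁆ := by
    rw [h.map_comm, h2, h.xrho, h1, h.rho2_eq e1, h.comm_symm _ e2, h.comm_inv_right,
      h.comm_mul_right, h.comm_symm e2 e1, h.comm_symm e2 (ρ e1)]
  have hxz : x ⁅e1, e2⁆ = ⁅e1, e2⁆ := by rw [h.map_comm, h1, h2]
  generalize ⁅e1, e2⁆ = z at hz hρc hxc hxd hxz ⊢
  generalize ⁅ρ e1, e2⁆ = d at hρc hxd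
  generalize ⁅e1, ρ e2⁆ = c at hc hρc hxc ⊢
  have hd : d = ρ c * ρ z := by
    rw [hρc, mul_assoc, hexp _ (h.map_center ρ hz), mul_one]
  have hrc := h.map_center ρ hc
  -- compare the two computations of `x (ρ c)`
  have e : ρ (ρ (z * c)) = z * d * ρ (ρ z) := by
    rw [← hxd, ← hxc, ← h.xrho, hρc, map_mul, h.xrho, hxz]
  rw [map_mul, map_mul, hd, h.rho2_center hc, h.rho2_center hz] at e
  have hrz := h.map_center ρ hz
  have hcomm : z * (ρ c * ρ z) * (z * ρ z) = z * ρ z * (z * ρ z) * ρ c := by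
    calc z * (ρ c * ρ z) * (z * ρ z) = z * (ρ c * (ρ z * (z * ρ z))) := by group
      _ = z * ((ρ z * (z * ρ z)) * ρ c) := by rw [h.cent hrc]
      _ = _ := by group
  rw [hcomm, hexp _ (mul_mem hz hrz), one_mul] at e
  have key : z * ρ z * c = 1 := by
    refine mul_right_cancel (b := ρ c) ?_
    rw [one_mul, mul_assoc]
    exact e
  rw [h.rho2_center hz, eq_inv_of_mul_eq_one_left key]
  exact (inv_eq_of_mul_eq_one_right (hexp c hc)).symm

/-- The subgroup `Z ⟨s, ρ s⟩`. -/
def line (ρ : T ≃* T) (s : T) : Subgroup T :=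
  Subgroup.closure ((center T : Set T) ∪ {s, ρ s})

theorem center_le_line (_h : Hyp ρ x) (s : T) : center T ≤ line ρ s := fun _ hg =>
  subset_closure (Or.inl hg)

theorem mem_line (_h : Hyp ρ x) (s : T) : s ∈ line ρ s ∧ ρ s ∈ line ρ s :=
  ⟨subset_closure (Or.inr (Or.inl rfl)), subset_closure (Or.inr (Or.inr rfl))⟩

theorem line_invariant (h : Hyp ρ x) (s : T) : ∀ n ∈ line ρ s, ρ n ∈ line ρ s := by
  have hle : line ρ s ≤ (line ρ s).comap ρ.toMonoidHom := by
    refine (closure_le _).mpr ?_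
    rintro g (hg | rfl | rfl)
    · exact h.center_le_line s (h.map_center ρ hg)
    · exact (h.mem_line g).2
    · show ρ (ρ s) ∈ line ρ s
      rw [h.rho2_eq]
      exact inv_mem (mul_mem (h.mem_line s).1 (h.mem_line s).2)
  exact fun n hn => hle hn

theorem line_normal (h : Hyp ρ x) (s : T) : (line ρ s).Normal := ⟨fun n hn g => by
  have e : g * n * g⁻¹ = ⁅g, n⁆ * n := by rw [commutatorElement_def]; group
  rw [e]
  exact mul_mem (h.center_le_line s (h.comm_mem g n)) hn⟩

theorem line_comm (h : Hyp ρ x) (s : T) {a b : T} (ha : a ∈ line ρ s) (hb : b ∈ line ρ s) :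
    a * b = b * a := by
  have hle : ∀ g ∈ ((center T : Set T) ∪ {s, ρ s}), line ρ s ≤ centralizer {g} := by
    intro g hg
    refine (closure_le _).mpr fun u hu => mem_centralizer_singleton_iff.mpr ?_
    rcases hu with hu | hu
    · exact h.cent hu g
    rcases hg with hg | hg
    · exact (h.cent hg u).symm
    simp only [Set.mem_insert_iff, Set.mem_singleton_iff] at hu hg
    rcases hu with hu | hu <;> rcases hg with hg | hg <;> rw [hu, hg]
    · exact (h.comm_rho s).eq
    · exact (h.comm_rho s).symm.eq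
  have hle2 : line ρ s ≤ centralizer {a} := (closure_le _).mpr fun g hg =>
    mem_centralizer_singleton_iff.mpr (mem_centralizer_singleton_iff.mp (hle g hg ha)).symm
  exact (mem_centralizer_singleton_iff.mp (hle2 hb)).symm

theorem card_line_ge (h : Hyp ρ x) {s : T} (hs : s ∉ center T) :
    16 ≤ Nat.card (line ρ s) := by
  obtain ⟨hc, -, hsq⟩ := h.center_facts
  have := h.four_mul_card_le (fun n hn => h.map_center ρ hn) hs (hsq s) (h.center_le_line s)
    (h.mem_line s).1 (h.mem_line s).2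
  omega

theorem exists_pair (h : Hyp ρ x) :
    ∃ e1 e2, x e1 = e1 ∧ x e2 = e2 ∧ ⁅e1, e2⁆ ≠ 1 := by
  obtain ⟨-, hexp, hsq⟩ := h.center_facts
  obtain ⟨e1, h1, h1'⟩ := h.exists_fixed_not_mem le_rfl (fun n hn => h.map_center ρ hn)
    (fun htop => h.notComm fun a b => (mem_center_iff.mp (htop ▸ mem_top a) b).symm)
  obtain ⟨e2, h2, h2'⟩ := h.exists_fixed_not_mem (h.center_le_line e1) (h.line_invariant e1)
    (fun htop => h.notComm fun a b => h.line_comm e1 (htop ▸ mem_top a) (htop ▸ mem_top b))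
  refine ⟨e1, e2, h1, h2, fun hz => ?_⟩
  have hc1 : ⁅e1, ρ e2⁆ = 1 := by rw [h.comm_mixed h1 h2, hz, map_one, map_one]
  have hc2 : ⁅e2, ρ e1⁆ = 1 := by rw [h.comm_mixed h2 h1, h.comm_symm e2, hz, map_one, map_one]
  have hc3 : ⁅ρ e1, ρ e2⁆ = 1 := by rw [← h.map_comm, hz, map_one]
  have hS : line ρ e1 ⊔ line ρ e2 = ⊤ := by
    have := h.line_normal e1
    have h4 := h.four_mul_card_le (h.line_invariant e1) h2'
      (h.center_le_line e1 (hsq e2)) (le_sup_left : line ρ e1 ≤ line ρ e1 ⊔ line ρ e2)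
      (mem_sup_right (h.mem_line e2).1) (mem_sup_right (h.mem_line e2).2)
    have h5 := h.card_line_ge h1'
    exact eq_top_of_le_card _ (by rw [h.card]; omega)
  have hcen : ∀ g ∈ ((center T : Set T) ∪ {e1, ρ e1}),
      ∀ u ∈ ((center T : Set T) ∪ {e2, ρ e2}), u * g = g * u := by
    intro g hg u hu
    rcases hu with hu | hu
    · exact h.cent hu g
    rcases hg with hg | hg
    · exact (h.cent hg u).symm
    simp only [Set.mem_insert_iff, Set.mem_singleton_iff] at hu hg
    rcases hg with hg | hg <;> rcases hu with hu | hu <;> rw [hg, hu] <;>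
      refine (commutatorElement_eq_one_iff_commute.mp ?_).eq
    · rwa [h.comm_symm]
    · rwa [h.comm_symm]
    · exact hc2
    · rwa [h.comm_symm]
  have hle1 : ∀ u ∈ ((center T : Set T) ∪ {e2, ρ e2}), line ρ e1 ≤ centralizer {u} :=
    fun u hu => (closure_le _).mpr fun g hg =>
      mem_centralizer_singleton_iff.mpr (hcen g hg u hu).symm
  have hcross : ∀ a ∈ line ρ e1, ∀ b ∈ line ρ e2, a * b = b * a := by
    intro a ha b hb
    have hle2 : line ρ e2 ≤ centralizer {a} := (closure_le _).mpr fun u hu =>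
      mem_centralizer_singleton_iff.mpr (mem_centralizer_singleton_iff.mp (hle1 u hu ha)).symm
    exact (mem_centralizer_singleton_iff.mp (hle2 hb)).symm
  apply h.notComm
  have hn := h.line_normal e1
  intro a b
  obtain ⟨a1, ha1, a2, ha2, rfl⟩ :=
    mem_sup_of_normal_left.mp (show a ∈ line ρ e1 ⊔ line ρ e2 by rw [hS]; exact mem_top a)
  obtain ⟨b1, hb1, b2, hb2, rfl⟩ :=
    mem_sup_of_normal_left.mp (show b ∈ line ρ e1 ⊔ line ρ e2 by rw [hS]; exact mem_top b)
  have p1 : Commute a1 b1 := h.line_comm e1 ha1 hb1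
  have p2 : Commute a1 b2 := hcross a1 ha1 b2 hb2
  have p3 : Commute a2 b1 := (hcross b1 hb1 a2 ha2).symm
  have p4 : Commute a2 b2 := h.line_comm e2 ha2 hb2
  exact (p1.mul_right p2).mul_left (p3.mul_right p4)

theorem pow2_comm_left (h : Hyp ρ x) (s b : T) (i : ZMod 2) : ⁅pow2 s i, b⁆ = pow2 ⁅s, b⁆ i := by
  rcases zmod2_or i with rfl | rfl <;> simp

theorem pow2_comm_right (h : Hyp ρ x) (a s : T) (i : ZMod 2) : ⁅a, pow2 s i⁆ = pow2 ⁅a, s⁆ i := by
  rcases zmod2_or i with rfl | rfl <;> simp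

theorem pow2_pow2 (_h : Hyp ρ x) (s : T) (i j : ZMod 2) : pow2 (pow2 s i) j = pow2 s (i * j) := by
  rcases zmod2_or i with rfl | rfl <;> rcases zmod2_or j with rfl | rfl <;> simp

/-- The recognition from two involutions. -/
theorem recognize (h : Hyp ρ x) {f g : T} (hf : f * f = 1) (hg : g * g = 1) (hne : ⁅f, g⁆ ≠ 1)
    (hfg : ⁅f, ρ g⁆ = ρ (ρ ⁅f, g⁆)) :
    ∃ (F : Type) (_ : Field F) (_ : Fintype F), Fintype.card F = 4 ∧
      ∃ S : Sylow 2 (Matrix.ProjectiveSpecialLinearGroup (Fin 3) F),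
        Nonempty (T ≃* ↥(S : Subgroup (Matrix.ProjectiveSpecialLinearGroup (Fin 3) F))) := by
  obtain ⟨hcard, hexp, hsq⟩ := h.center_facts
  have hz := h.comm_mem f g
  have hrz := h.map_center ρ hz
  have hrrz := h.map_center ρ hrz
  have hrf : ρ f * ρ f = 1 := by rw [← map_mul, hf, map_one]
  have hrg : ρ g * ρ g = 1 := by rw [← map_mul, hg, map_one]
  have hgf : ⁅ρ f, g⁆ = ρ (ρ ⁅f, g⁆) := by
    have e : ρ ⁅f, ρ g⁆ = ⁅ρ f, g⁆ * ρ ⁅f, g⁆ := by
      rw [h.map_comm, h.rho2_eq g, h.comm_inv_right, h.comm_mul_right, h.map_comm]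
    rw [hfg, h.rho3] at e
    calc ⁅ρ f, g⁆ = ⁅ρ f, g⁆ * ρ ⁅f, g⁆ * ρ ⁅f, g⁆ := by rw [mul_assoc, hexp _ hrz, mul_one]
      _ = ⁅f, g⁆ * ρ ⁅f, g⁆ := by rw [← e]
      _ = _ := (h.rho2_center hz).symm
  have hff : ρ ⁅f, g⁆ = ⁅f, g⁆ * ρ (ρ ⁅f, g⁆) := by
    rw [h.rho2_center hz, ← mul_assoc, hexp _ hz, one_mul]
  let u : P4 → T := fun p => pow2 f p.1 * pow2 (ρ f) p.2
  let v : P4 → T := fun p => pow2 g p.1 * pow2 (ρ g) p.2
  let w : P4 → T := fun p => pow2 ⁅f, g⁆ p.1 * pow2 (ρ (ρ ⁅f, g⁆)) p.2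
  have hadd : ∀ a b : T, a * a = 1 → b * b = 1 → Commute a b → ∀ p q : P4,
      pow2 a (p + q).1 * pow2 b (p + q).2 = pow2 a p.1 * pow2 b p.2 * (pow2 a q.1 * pow2 b q.2) := by
    intro a b ha hb hab p q
    rw [Prod.fst_add, Prod.snd_add, pow2_add ha, pow2_add hb]
    exact ((hab.symm.pow_pow p.2.val q.1.val : Commute (pow2 b p.2) (pow2 a q.1)).mul_mul_mul_comm
      (pow2 a p.1) (pow2 b q.2)).symm
  have hu : ∀ p q, u (p + q) = u p * u q := hadd _ _ hf hrf (h.comm_rho f)
  have hv : ∀ p q, v (p + q) = v p * v q := hadd _ _ hg hrg (h.comm_rho g)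
  have hw : ∀ p q, w (p + q) = w p * w q :=
    hadd _ _ (hexp _ hz) (hexp _ hrrz) (h.cent hz _)
  have hwc : ∀ p, w p ∈ center T := fun p => mul_mem (pow_mem hz _) (pow_mem hrrz _)
  have huv : ∀ p q, ⁅u p, v q⁆ = w (mul4 p q) := by
    intro p q
    obtain ⟨i, j⟩ := p
    obtain ⟨k, l⟩ := q
    simp only [u, v, h.comm_mul_left, h.comm_mul_right, h.pow2_comm_left, h.pow2_comm_right,
      h.pow2_pow2, hfg, hgf, ← h.map_comm ρ f g]
    have e1 := hexp _ hz
    have e2 := hexp _ hrrz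
    have e3 : ρ (ρ ⁅f, g⁆) * ⁅f, g⁆ = ⁅f, g⁆ * ρ (ρ ⁅f, g⁆) := h.cent hrrz _
    have e4 : ρ ⁅f, g⁆ = ⁅f, g⁆ * ρ (ρ ⁅f, g⁆) := hff
    simp only [w]
    generalize ρ (ρ ⁅f, g⁆) = z2 at e2 e3 e4 ⊢
    generalize ρ ⁅f, g⁆ = z1 at e4 ⊢
    generalize ⁅f, g⁆ = z at e1 e3 e4 ⊢
    subst e4
    have e5 : z2 * (z2 * z) = z := by rw [← mul_assoc, e2, one_mul]
    have e6 : ∀ y, z * (z * y) = y := fun y => by rw [← mul_assoc, e1, one_mul]
    have e7 : z2 * (z * z2) = z := by rw [← e3]; exact e5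
    rcases zmod2_or i with rfl | rfl <;> rcases zmod2_or j with rfl | rfl <;>
      rcases zmod2_or k with rfl | rfl <;> rcases zmod2_or l with rfl | rfl <;>
      simp [mul4, show (1 : ZMod 2) + 1 = 0 by decide, e1, e2, e3, e5, e6, e7, mul_assoc]
  let Ψ : P4 × P4 × P4 → T := fun p => v p.2.1 * u p.1 * w p.2.2
  have hmul : ∀ p q, Ψ p * Ψ q =
      Ψ (p.1 + q.1, p.2.1 + q.2.1, p.2.2 + q.2.2 + mul4 p.1 q.2.1) := by
    intro p q
    obtain ⟨a, b, c⟩ := p
    obtain ⟨a', b', c'⟩ := q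
    show v b * u a * w c * (v b' * u a' * w c') = v (b + b') * u (a + a') * w (c + c' + mul4 a b')
    rw [hu, hv, hw, hw, ← huv]
    have e1 : u a * v b' = v b' * u a * ⁅u a, v b'⁆ := by
      rw [← h.cent (h.comm_mem _ _) (v b' * u a), commutatorElement_def]; group
    calc v b * u a * w c * (v b' * u a' * w c')
        = v b * u a * (w c * (v b' * u a')) * w c' := by group
      _ = v b * u a * (v b' * u a' * w c) * w c' := by rw [h.cent (hwc c)]
      _ = v b * (u a * v b') * u a' * w c * w c' := by group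
      _ = v b * v b' * u a * (⁅u a, v b'⁆ * u a') * w c * w c' := by rw [e1]; group
      _ = v b * v b' * u a * u a' * (⁅u a, v b'⁆ * (w c * w c')) := by
          rw [h.cent (h.comm_mem _ _) (u a')]; group
      _ = _ := by rw [h.cent (h.comm_mem (u a) (v b')) (w c * w c')]; group
  refine exists_sylow_of_law h.card Ψ ?_ hmul
  have hΨ0 : Ψ 0 = 1 := by simp [Ψ, u, v, w]
  let R : Subgroup T :=
    { carrier := Set.range Ψ
      one_mem' := ⟨0, hΨ0⟩
      mul_mem' := by
        rintro _ _ ⟨p, rfl⟩ ⟨q, rfl⟩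
        exact ⟨_, (hmul p q).symm⟩
      inv_mem' := by
        rintro _ ⟨p, rfl⟩
        refine ⟨(p.1, p.2.1, p.2.2 + mul4 p.1 p.2.1), eq_inv_of_mul_eq_one_left ?_⟩
        rw [hmul]
        refine (congrArg Ψ (?_ : _ = (0 : P4 × P4 × P4))).trans hΨ0
        · obtain ⟨a, b, c⟩ := p
          have e : ∀ r : P4, r + r = 0 := by decide
          show (a + a, b + b, c + mul4 a b + c + mul4 a b) = 0
          rw [e, e, show c + mul4 a b + c + mul4 a b = (c + mul4 a b) + (c + mul4 a b) by abel, e]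
          rfl }
  have hfN : f ∉ center T := fun hh =>
    hne (commutatorElement_eq_one_iff_commute.mpr (h.cent hh g))
  have hgN : g ∉ line ρ f := fun hh =>
    hne (commutatorElement_eq_one_iff_commute.mpr (h.line_comm f (h.mem_line f).1 hh))
  have hzc : center T ≤ R := by
    have hind := h.indep (N := (⊥ : Subgroup T))
      (fun n hn => by rw [mem_bot] at hn ⊢; rw [hn, map_one])
      (s := ⁅f, g⁆) (by simpa using hne)
    let F : P4 → center T := fun p => ⟨w p, hwc p⟩
    have hF : Function.Injective F := by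
      intro p q hpq
      have e : w (p + q) = 1 := by
        rw [hw, show w p = w q from congrArg Subtype.val hpq, hexp _ (hwc q)]
      have e' : pow2 ⁅f, g⁆ ((p + q).1 + (p + q).2) * pow2 (ρ ⁅f, g⁆) (p + q).2 = 1 := by
        rw [← e]
        simp only [w, h.rho2_center hz]
        have e1 := hexp _ hz
        generalize ρ ⁅f, g⁆ = z1
        generalize ⁅f, g⁆ = z at e1 ⊢
        rcases zmod2_or (p + q).1 with h1 | h1 <;> rcases zmod2_or (p + q).2 with h2 | h2 <;>
          rw [h1, h2] <;>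
          simp [show (1 : ZMod 2) + 1 = 0 by decide, ← mul_assoc, e1]
      obtain ⟨a1, a2⟩ := hind _ _ (mem_bot.mpr e')
      have hP : ∀ r s : P4, (r + s).1 + (r + s).2 = 0 → (r + s).2 = 0 → r = s := by decide
      exact hP p q a1 a2
    intro c hc
    obtain ⟨p, hp⟩ := (hF.bijective_of_nat_card_le (by
      rw [hcard]; simp [Nat.card_eq_fintype_card])).2 ⟨c, hc⟩
    exact ⟨(0, 0, p), by simpa [Ψ, u, v] using congrArg Subtype.val hp⟩
  have hline : line ρ f ≤ R := (closure_le _).mpr (by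
    rintro a (ha | rfl | rfl)
    · exact hzc ha
    · exact ⟨((1, 0), 0, 0), by simp [Ψ, u, v, w]⟩
    · exact ⟨((0, 1), 0, 0), by simp [Ψ, u, v, w]⟩)
  have := h.line_normal f
  have h16 := h.card_line_ge hfN
  have h64 := h.four_mul_card_le (h.line_invariant f) hgN (h.center_le_line f (hsq g)) hline
    (show g ∈ R from ⟨(0, (1, 0), 0), by simp [Ψ, u, v, w]⟩)
    (show ρ g ∈ R from ⟨(0, (0, 1), 0), by simp [Ψ, u, v, w]⟩)
  have hR : R = ⊤ := eq_top_of_le_card _ (by rw [h.card]; omega)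
  have hsurj : Function.Surjective Ψ := fun t => (hR ▸ mem_top t : t ∈ R)
  exact hsurj.bijective_of_nat_card_le (by rw [h.card]; simp [Nat.card_eq_fintype_card])

theorem center_fixed (h : Hyp ρ x) {z c : T} (hz : z ∈ center T) (hz1 : z ≠ 1) (hxz : x z = z)
    (hc : c ∈ center T) (hxc : x c = c) : c = 1 ∨ c = z := by
  obtain ⟨hcard, hexp, -⟩ := h.center_facts
  have hrz := h.map_center ρ hz
  have hind := h.indep (N := (⊥ : Subgroup T))
    (fun n hn => by rw [mem_bot] at hn ⊢; rw [hn, map_one]) (s := z) (by simpa using hz1)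
  let F : P4 → center T := fun p => ⟨pow2 z p.1 * pow2 (ρ z) p.2,
    mul_mem (pow_mem hz _) (pow_mem hrz _)⟩
  have hF : Function.Injective F := by
    intro p q hpq
    have e0 : pow2 z p.1 * pow2 (ρ z) p.2 = pow2 z q.1 * pow2 (ρ z) q.2 :=
      congrArg Subtype.val hpq
    have e1 := hexp _ hz
    have e2 := hexp _ hrz
    have e : pow2 z (p.1 + q.1) * pow2 (ρ z) (p.2 + q.2) = 1 := by
      rw [pow2_add e1, pow2_add e2,
        ((show Commute (pow2 z q.1) (pow2 (ρ z) p.2) from
          (show Commute z (ρ z) from h.cent hz _).pow_pow q.1.val p.2.val)).mul_mul_mul_comm,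
        ← e0]
      exact hexp _ (F p).2
    obtain ⟨a1, a2⟩ := hind _ _ (mem_bot.mpr e)
    exact Prod.ext (CharTwo.add_eq_zero.mp a1) (CharTwo.add_eq_zero.mp a2)
  obtain ⟨⟨i, j⟩, hij⟩ := (hF.bijective_of_nat_card_le (by
    rw [hcard]; simp [Nat.card_eq_fintype_card])).2 ⟨c, hc⟩
  have hij' : pow2 z i * pow2 (ρ z) j = c := congrArg Subtype.val hij
  rcases zmod2_or j with rfl | rfl
  · rcases zmod2_or i with rfl | rfl <;> simp at hij'
    · exact Or.inl hij'.symm
    · exact Or.inr hij'.symm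
  · exfalso
    subst hij'
    have hzi : x (pow2 z i) = pow2 z i := by rw [pow2, map_pow, hxz]
    rw [map_mul, hzi, pow2_one, h.xrho, hxz, mul_left_cancel_iff] at hxc
    have := ρ.injective hxc
    exact hz1 (h.fpf z this)

theorem card_fixed_le (h : Hyp ρ x) (C : Subgroup T) (hC : ∀ y, y ∈ C ↔ x y = y) {z : T}
    (hz : z ∈ center T) (hz1 : z ≠ 1) (hxz : x z = z) : Nat.card C ≤ 8 := by
  obtain ⟨hcard, hexp, hsq⟩ := h.center_facts
  let f := (QuotientGroup.mk' (center T)).comp C.subtype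
  have hker : Nat.card f.ker ≤ 2 := by
    classical
    let g : f.ker → Bool := fun a => decide (((a : C) : T) = 1)
    refine (Nat.card_le_card_of_injective g ?_).trans (by simp [Nat.card_eq_fintype_card])
    intro a b hab
    have hz' : ∀ u : f.ker, ((u : C) : T) = 1 ∨ ((u : C) : T) = z := fun u =>
      h.center_fixed hz hz1 hxz ((QuotientGroup.eq_one_iff _).mp u.2) ((hC _).mp (u : C).2)
    apply Subtype.ext
    apply Subtype.ext
    have hab' := decide_eq_decide.mp hab
    rcases hz' a with ha | ha <;> rcases hz' b with hb | hb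
    · rw [ha, hb]
    · exact absurd ((hab'.mp ha).symm.trans hb) hz1.symm
    · exact absurd ((hab'.mpr hb).symm.trans ha) hz1.symm
    · rw [ha, hb]
  choose rep hrep using fun k : f.range => k.2
  let G : f.range × f.range → T ⧸ center T := fun p =>
    QuotientGroup.mk' (center T) ((rep p.1 : T) * ρ (rep p.2 : T))
  have habel : ∀ u v : T ⧸ center T, u * v = v * u := by
    intro u v
    obtain ⟨u, rfl⟩ := QuotientGroup.mk_surjective u
    obtain ⟨v, rfl⟩ := QuotientGroup.mk_surjective v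
    rw [← QuotientGroup.mk_mul, ← QuotientGroup.mk_mul, QuotientGroup.eq]
    have e : (u * v)⁻¹ * (v * u) = ⁅v⁻¹, u⁻¹⁆ := by rw [commutatorElement_def]; group
    rw [e]
    exact h.comm_mem _ _
  have hG : Function.Injective G := by
    intro p q hpq
    have hfix : ∀ k : f.range, x (rep k : T) = rep k := fun k => (hC _).mp (rep k).2
    set A : T := (rep q.1 : T)⁻¹ * rep p.1 with hA
    set B : T := (rep q.2 : T)⁻¹ * rep p.2 with hB
    have hAB : A * ρ B ∈ center T := by
      rw [← QuotientGroup.eq_one_iff, ← QuotientGroup.mk'_apply, hA, hB]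
      simp only [map_mul, map_inv]
      have e : QuotientGroup.mk' (center T) (rep p.1 : T) * QuotientGroup.mk' (center T) (ρ (rep p.2 : T))
          = QuotientGroup.mk' (center T) (rep q.1 : T) * QuotientGroup.mk' (center T) (ρ (rep q.2 : T)) := by
        rw [← map_mul, ← map_mul]; exact hpq
      generalize QuotientGroup.mk' (center T) (rep p.1 : T) = a at e ⊢
      generalize QuotientGroup.mk' (center T) (ρ (rep p.2 : T)) = b at e ⊢
      generalize QuotientGroup.mk' (center T) (rep q.1 : T) = a' at e ⊢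
      generalize QuotientGroup.mk' (center T) (ρ (rep q.2 : T)) = b' at e ⊢
      calc a'⁻¹ * a * (b'⁻¹ * b) = a'⁻¹ * (a * b'⁻¹) * b := by group
        _ = a'⁻¹ * (b'⁻¹ * a) * b := by rw [habel a]
        _ = (b' * a')⁻¹ * (a * b) := by group
        _ = 1 := by rw [e, habel b' a', inv_mul_cancel]
    have hxA : x A = A := by rw [hA, map_mul, map_inv, hfix, hfix]
    have hxB : x B = B := by rw [hB, map_mul, map_inv, hfix, hfix]
    have hAB' : A * ρ (ρ B) ∈ center T := by
      have := h.map_center x hAB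
      rwa [map_mul, hxA, h.xrho, hxB] at this
    have hBr : B⁻¹ * ρ B ∈ center T := by
      have := h.map_center ρ (h.map_center ρ (mul_mem (inv_mem hAB) hAB'))
      rwa [mul_inv_rev, mul_assoc, inv_mul_cancel_left, map_mul, map_mul, map_inv, map_inv,
        h.rho3] at this
    have hB3 : B ∈ center T := by
      have hq : ∀ g, QuotientGroup.mk' (center T) g = QuotientGroup.mk' (center T) (ρ g) →
          QuotientGroup.mk' (center T) (ρ g) = QuotientGroup.mk' (center T) (ρ (ρ g)) := by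
        intro g hg
        exact QuotientGroup.eq.mpr (by
          have := h.map_center ρ (QuotientGroup.eq.mp hg)
          rwa [map_mul, map_inv] at this)
      have h1 : QuotientGroup.mk' (center T) B = QuotientGroup.mk' (center T) (ρ B) :=
        QuotientGroup.eq.mpr hBr
      have hr := congrArg (QuotientGroup.mk' (center T)) (h.rel B)
      rw [map_mul, map_mul, map_one, ← hq B h1, ← h1, ← map_mul, ← map_mul] at hr
      exact (mul_mem_cancel_left (hsq B)).mp ((QuotientGroup.eq_one_iff _).mp hr)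
    have hA3 : A ∈ center T := (mul_mem_cancel_right (h.map_center ρ hB3)).mp hAB
    have hk : ∀ k l : f.range, (rep l : T)⁻¹ * rep k ∈ center T → k = l := by
      intro k l hkl
      apply Subtype.ext
      rw [← hrep k, ← hrep l]
      exact (QuotientGroup.eq.mpr hkl).symm
    exact Prod.ext (hk _ _ hA3) (hk _ _ hB3)
  have h16 := Nat.card_le_card_of_injective G hG
  rw [Nat.card_prod, ← index_eq_card] at h16
  have hidx := (center T).card_mul_index
  rw [h.card, hcard] at hidx
  have hmul := f.ker.card_mul_index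
  rw [index_ker] at hmul
  have : Nat.card f.range ≤ 4 := by nlinarith
  rw [← hmul]
  exact (Nat.mul_le_mul hker this).trans (by norm_num)

/-- Main theorem. -/
theorem main (h : Hyp ρ x) (C : Subgroup T) (hC : ∀ y, y ∈ C ↔ x y = y) :
    (∃ (F : Type) (_ : Field F) (_ : Fintype F), Fintype.card F = 4 ∧
      ∃ S : Sylow 2 (Matrix.ProjectiveSpecialLinearGroup (Fin 3) F),
        Nonempty (T ≃* ↥(S : Subgroup (Matrix.ProjectiveSpecialLinearGroup (Fin 3) F)))) ∧
    (Nonempty (↥C ≃* DihedralGroup 4) ∨ Nonempty (↥C ≃* QuaternionGroup 2)) := by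
  obtain ⟨hcard, hexp, hsq⟩ := h.center_facts
  obtain ⟨e1, e2, h1, h2, hne⟩ := h.exists_pair
  have hz := h.comm_mem e1 e2
  have hxz : x ⁅e1, e2⁆ = ⁅e1, e2⁆ := by rw [h.map_comm, h1, h2]
  have hfix : ∀ e, x e = e → e * e = 1 ∨ e * e = ⁅e1, e2⁆ := fun e he =>
    h.center_fixed hz hne hxz (hsq e) (by rw [map_mul, he])
  have hsym : ⁅e2, e1⁆ = ⁅e1, e2⁆ := h.comm_symm _ _
  have he12 : x (e1 * e2) = e1 * e2 := by rw [map_mul, h1, h2]
  have hcard8 : Nat.card C = 8 := by
    refine le_antisymm (h.card_fixed_le C hC hz hne hxz) ?_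
    have := Fact.mk Nat.prime_two
    obtain ⟨k, hk⟩ := PGroup.exists_card_eq_pow h.pgroup C
    by_contra hlt
    rw [hk] at hlt
    have hk3 : k < 3 := by
      by_contra hc
      push Not at hc
      exact hlt ((show 8 = 2 ^ 3 by norm_num) ▸ Nat.pow_le_pow_right (by norm_num) hc)
    have hab : ∀ a b : C, a * b = b * a := by
      interval_cases k
      · intro a b
        have : Subsingleton C := (Nat.card_eq_one_iff_unique.mp (by simpa using hk)).1
        exact Subsingleton.elim _ _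
      · exact fun a b => (PGroup.commute_of_card_prime (p := 2) (by simpa using hk) a b).eq
      · intro a b
        have := IsPGroup.isMulCommutative_of_card_eq_prime_sq (p := 2) hk
        exact this.is_comm.comm a b
    exact hne (commutatorElement_eq_one_iff_commute.mpr
      (congrArg Subtype.val (hab ⟨e1, (hC _).mpr h1⟩ ⟨e2, (hC _).mpr h2⟩)))
  have hncomm : ¬ ∀ a b : C, a * b = b * a := fun hab =>
    hne (commutatorElement_eq_one_iff_commute.mpr
      (congrArg Subtype.val (hab ⟨e1, (hC _).mpr h1⟩ ⟨e2, (hC _).mpr h2⟩)))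
  -- two fixed elements, the first an involution, with the same commutator
  have hdih : ∀ f g, x f = f → x g = g → f * f = 1 → ⁅f, g⁆ ≠ 1 →
      Nonempty (↥C ≃* DihedralGroup 4) := by
    intro f g hf hg hff hfg
    refine SmallGroups.dihedral_of_card_eight hcard8 ⟨f, (hC f).mpr hf⟩ ?_ ?_
    · refine orderOf_eq_prime (Subtype.ext (by simpa [pow_two] using hff)) fun hh => hfg ?_
      rw [show f = 1 from congrArg Subtype.val hh]
      exact commutatorElement_one_left g
    · exact fun hh => hfg (commutatorElement_eq_one_iff_commute.mpr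
        (congrArg Subtype.val (mem_center_iff.mp hh ⟨g, (hC g).mpr hg⟩)).symm)
  have c12 : ⁅e1 * e2, e2⁆ = ⁅e1, e2⁆ := by
    rw [h.comm_mul_left, commutatorElement_self, mul_one]
  have c21 : ⁅e1, e1 * e2⁆ = ⁅e1, e2⁆ := by
    rw [h.comm_mul_right, commutatorElement_self, one_mul]
  have hsq12 : e1 * e2 * (e1 * e2) = e1 * e1 * (e2 * e2) * ⁅e1, e2⁆ := by rw [h.sq_mul, hsym]
  rcases hfix e1 h1 with q1 | q1
  · refine ⟨?_, Or.inl (hdih e1 e2 h1 h2 q1 hne)⟩
    rcases hfix e2 h2 with q2 | q2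
    · exact h.recognize q1 q2 hne (h.comm_mixed h1 h2)
    · have q3 : e1 * e2 * (e1 * e2) = 1 := by rw [hsq12, q1, q2, one_mul, hexp _ hz]
      exact h.recognize q1 q3 (by rwa [c21]) (h.comm_mixed h1 he12)
  rcases hfix e2 h2 with q2 | q2
  · have q3 : e1 * e2 * (e1 * e2) = 1 := by rw [hsq12, q1, q2, mul_one, hexp _ hz]
    exact ⟨h.recognize q3 q2 (by rwa [c12]) (h.comm_mixed he12 h2),
      Or.inl (hdih e2 e1 h2 h1 q2 (by rwa [hsym]))⟩
  refine ⟨?_, Or.inr ?_⟩
  · have hc := h.comm_mixed h1 h2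
    have hrz := h.map_center ρ hz
    have hrrz := h.map_center ρ hrz
    have hd : ⁅e1, ρ (ρ e2)⁆ = ρ ⁅e1, e2⁆ := by
      rw [h.rho2_eq, h.comm_inv_right, h.comm_mul_right, hc, h.rho2_center hz, ← mul_assoc,
        hexp _ hz, one_mul]
    refine h.recognize (f := e1 * ρ e2) (g := e1 * ρ (ρ e2)) ?_ ?_ ?_ ?_
    · rw [h.sq_mul, q1, ← map_mul, q2, h.comm_symm (ρ e2) e1, hc, h.rho2_center hz]
      exact hexp _ (mul_mem hz hrz)
    · rw [h.sq_mul, q1, ← map_mul, ← map_mul, q2, h.comm_symm (ρ (ρ e2)) e1, hd, h.rho2_center hz, ← mul_assoc,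
        hexp _ hz, one_mul, hexp _ hrz]
    · have e : ⁅e1 * ρ e2, e1 * ρ (ρ e2)⁆ = ⁅e1, e2⁆ := by
        rw [h.comm_mul_left, h.comm_mul_right, h.comm_mul_right, commutatorElement_self, hd,
          h.comm_symm (ρ e2) e1, hc, h.comm_rho_self, one_mul, mul_one, h.rho2_center hz,
          h.cent hz, ← mul_assoc, hexp _ hrz, one_mul]
      rwa [e]
    · have hg' : ρ (e1 * ρ (ρ e2)) = ρ e1 * e2 := by rw [map_mul, h.rho3]
      have e : ⁅e1 * ρ e2, e1 * ρ (ρ e2)⁆ = ⁅e1, e2⁆ := by
        rw [h.comm_mul_left, h.comm_mul_right, h.comm_mul_right, commutatorElement_self, hd,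
          h.comm_symm (ρ e2) e1, hc, h.comm_rho_self, one_mul, mul_one, h.rho2_center hz,
          h.cent hz, ← mul_assoc, hexp _ hrz, one_mul]
      rw [e, hg', h.comm_mul_left, h.comm_mul_right, h.comm_mul_right, h.comm_rho_self,
        h.comm_symm (ρ e2) e2, h.comm_rho_self, one_mul, mul_one, ← h.map_comm, h.comm_symm e2 e1,
        h.rho2_center hz]
  · obtain ⟨φ, hφI, hφJ⟩ := Perm.ClassTwo.exists_quaternion_hom (M := C) ⟨e1, (hC _).mpr h1⟩
      ⟨e2, (hC _).mpr h2⟩ (Subtype.ext (q1.trans q2.symm))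
      (Subtype.ext (by
        show e2 * e2 * (e2 * e2) = 1
        rw [q2, hexp _ hz]))
      (Subtype.ext (by
        show e1 * e2 * e1 = e2
        calc e1 * e2 * e1 = ⁅e1, e2⁆ * (e2 * (e1 * e1)) := by rw [commutatorElement_def]; group
          _ = e2 := by rw [q1, ← h.cent hz e2, ← mul_assoc, hexp _ hz, one_mul]))
    have hr : φ.range = ⊤ := by
      refine eq_top_of_le_card _ ?_
      by_contra hlt
      push Not at hlt
      rw [hcard8] at hlt
      have := Fact.mk Nat.prime_two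
      obtain ⟨k, hk⟩ := PGroup.exists_card_eq_pow (IsPGroup.of_card (n := 3) (by rw [hcard8]; rfl) : IsPGroup 2 C) φ.range
      have hk3 : k < 3 := by
        by_contra hc
        push Not at hc
        have : 2 ^ 3 ≤ 2 ^ k := Nat.pow_le_pow_right (by norm_num) hc
        omega
      have hab : ∀ a b : φ.range, a * b = b * a := by
        interval_cases k
        · intro a b
          have : Subsingleton φ.range := (Nat.card_eq_one_iff_unique.mp (by simpa using hk)).1
          exact Subsingleton.elim _ _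
        · exact fun a b => (PGroup.commute_of_card_prime (p := 2) (by simpa using hk) a b).eq
        · intro a b
          have := IsPGroup.isMulCommutative_of_card_eq_prime_sq (p := 2) hk
          exact this.is_comm.comm a b
      exact hne (commutatorElement_eq_one_iff_commute.mpr (congrArg Subtype.val (congrArg
        Subtype.val (hab ⟨_, ⟨_, hφI⟩⟩ ⟨_, ⟨_, hφJ⟩⟩))))
    have hsurj : Function.Surjective φ := MonoidHom.range_eq_top.mp hr
    exact ⟨(MulEquiv.ofBijective φ (hsurj.bijective_of_nat_card_le (by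
      rw [hcard8, Nat.card_eq_fintype_card, QuaternionGroup.card]))).symm⟩

end Hyp

end Cfsg.Agent.InvChar.SixtyFour
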