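import Cfsg.Prelude.Def_Local
import Cfsg.Prelude.Def_Transfer
import Cfsg.Agent.Lib.Thompson.Cores
import Cfsg.Agent.Lib.Coprime.Generation
import Cfsg.Agent.Lib.Components.GenFitting
import Cfsg.Agent.Lib.PGroup.Basic

/-!
# Standard subgroups: elementary facts
-/

set_option autoImplicit false

namespace Cfsg.Agent.InvChar

open Subgroup

variable {G : Type*} [Group G]

theorem map_conj_eq_of_mem_normalizer {H : Subgroup G} {x : G} (hx : x ∈ normalizer (H : Set G)) :
    H.map (MulAut.conj x).toMonoidHom = H :=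
  Components.map_conj_eq_iff_mem_normalizer.mpr hx

theorem orderOf_eq_two_mul_self {t : G} (ht : orderOf t = 2) : t * t = 1 := by
  rw [← pow_two, ← ht]; exact pow_orderOf_eq_one t

/-- The centralizer of an involution centralizing a standard subgroup normalizes it. -/
theorem centralizer_involution_le {A : Subgroup G} (hA : Cfsg.IsStandardSubgroup A) {t : G}
    (ht : orderOf t = 2) (htA : t ∈ centralizer (A : Set G)) :
    centralizer ({t} : Set G) ≤ normalizer (A : Set G) := by
  intro x hx
  rw [hA.2.2.2]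
  by_contra hxn
  have hodd := hA.2.1.2 x hxn
  have htm : t ∈ centralizer (A : Set G) ⊓ (centralizer (A : Set G)).map (MulAut.conj x).toMonoidHom := by
    refine ⟨htA, ⟨t, htA, ?_⟩⟩
    have : t * x = x * t := hx t rfl
    simp [← this]
  have h2 : orderOf (⟨t, htm⟩ : ↥(centralizer (A : Set G) ⊓ (centralizer (A : Set G)).map (MulAut.conj x).toMonoidHom)) = 2 := by
    rw [← Subgroup.orderOf_coe]; exact ht
  have := orderOf_dvd_natCard (⟨t, htm⟩ : ↥(centralizer (A : Set G) ⊓ (centralizer (A : Set G)).map (MulAut.conj x).toMonoidHom))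
  rw [h2] at this
  exact (Nat.not_even_iff_odd.mpr hodd) (even_iff_two_dvd.mpr this)

/-- An element normalizing `A` and lying in a normal subgroup `W` not containing `A` centralizes the
quasisimple group `A`. -/
theorem mem_centralizer_of_normal {A W : Subgroup G} [W.Normal] (hA : Cfsg.IsQuasisimple A)
    (hAW : ¬ A ≤ W) {x : G} (hxA : x ∈ normalizer (A : Set G)) (hxW : x ∈ W) :
    x ∈ centralizer (A : Set G) := by
  have hperf : ⁅A, A⁆ = A := Subgroup.isPerfect_iff.mp hA.1
  refine Components.mem_centralizer_of_commutator_mem_centralizer hperf hxA fun l hl => ?_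
  have hmem : x * l * x⁻¹ * l⁻¹ ∈ A ⊓ W := by
    refine ⟨A.mul_mem ((mem_normalizer_iff.mp hxA l).mp hl) (A.inv_mem hl), ?_⟩
    have : l * x⁻¹ * l⁻¹ ∈ W := ‹W.Normal›.conj_mem _ (W.inv_mem hxW) l
    simpa [mul_assoc] using W.mul_mem hxW this
  have hn : (W.subgroupOf A).Normal := inferInstance
  rcases Components.normal_eq_top_or_le_center hA (W.subgroupOf A) with h | h
  · exact absurd (Subgroup.subgroupOf_eq_top.mp h) hAW
  · have := h (show (⟨_, hmem.1⟩ : A) ∈ W.subgroupOf A from hmem.2)
    intro y hy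
    exact congrArg Subtype.val (mem_center_iff.mp this ⟨y, hy⟩)

/-- A subgroup normalized by a quasisimple group `A` and meeting it noncentrally contains it. -/
theorem le_of_noncentral_mem {A K : Subgroup G} (hA : Cfsg.IsQuasisimple A)
    (hK : A ≤ normalizer (K : Set G)) {a : G} (ha : a ∈ A) (haK : a ∈ K)
    (hac : a ∉ centralizer (A : Set G)) : A ≤ K := by
  have hn : (K.subgroupOf A).Normal := ⟨fun n hn g => (mem_normalizer_iff.mp (hK g.2) _).mp hn⟩
  rcases Components.normal_eq_top_or_le_center hA (K.subgroupOf A) with h | h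
  · exact Subgroup.subgroupOf_eq_top.mp h
  · refine absurd ?_ hac
    have := h (show (⟨a, ha⟩ : A) ∈ K.subgroupOf A from haK)
    intro y hy
    exact congrArg Subtype.val (mem_center_iff.mp this ⟨y, hy⟩)

/-- The four group `{1, a, b, ab}` generated by two commuting involutions. -/
def fourGroup (a b : G) (ha : a * a = 1) (hb : b * b = 1) (hc : a * b = b * a) : Subgroup G where
  carrier := {z | z = 1 ∨ z = a ∨ z = b ∨ z = a * b}
  one_mem' := Or.inl rfl
  mul_mem' := by
    have e1 : a * (a * b) = b := by rw [← mul_assoc, ha, one_mul]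
    have e2 : b * (a * b) = a := by rw [hc, ← mul_assoc, hb, one_mul]
    have e3 : (a * b) * a = b := by rw [hc, mul_assoc, ha, mul_one]
    have e4 : (a * b) * b = a := by rw [mul_assoc, hb, mul_one]
    have e5 : (a * b) * (a * b) = 1 := by rw [mul_assoc, e2, ha]
    have hcs : b * a = a * b := hc.symm
    intro z w hz hw
    rcases hz with h | h | h | h <;> subst z <;> rcases hw with h | h | h | h <;> subst w <;>
      simp only [Set.mem_setOf_eq, one_mul, mul_one, ha, hb, e1, e2, e3, e4, e5, hcs, true_or, or_true]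
  inv_mem' := by
    intro z hz
    rcases hz with h | h | h | h <;> subst z
    · exact Or.inl inv_one
    · exact Or.inr (Or.inl (inv_eq_of_mul_eq_one_left ha))
    · exact Or.inr (Or.inr (Or.inl (inv_eq_of_mul_eq_one_left hb)))
    · refine Or.inr (Or.inr (Or.inr ?_))
      rw [mul_inv_rev, inv_eq_of_mul_eq_one_left ha, inv_eq_of_mul_eq_one_left hb, hc]

theorem mem_fourGroup {a b : G} {ha : a * a = 1} {hb : b * b = 1} {hc : a * b = b * a} {z : G} :
    z ∈ fourGroup a b ha hb hc ↔ z = 1 ∨ z = a ∨ z = b ∨ z = a * b := Iff.rfl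

theorem fourGroup_comm {a b : G} (ha : a * a = 1) (hb : b * b = 1) (hc : a * b = b * a) :
    IsMulCommutative (fourGroup a b ha hb hc) := by
  refine ⟨⟨fun z w => Subtype.ext ?_⟩⟩
  have hsq : ∀ z ∈ fourGroup a b ha hb hc, z * z = 1 := by
    rintro z (rfl | rfl | rfl | rfl)
    · exact mul_one 1
    · exact ha
    · exact hb
    · rw [show a * b * (a * b) = a * (b * a) * b by group, ← hc, show a * (a * b) * b = (a * a) * (b * b) by group, ha, hb, one_mul]
  show (z : G) * w = w * z
  rw [eq_inv_of_mul_eq_one_left (hsq _ (mul_mem z.2 w.2)), mul_inv_rev,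
    inv_eq_of_mul_eq_one_left (hsq _ z.2), inv_eq_of_mul_eq_one_left (hsq _ w.2)]

theorem fourGroup_not_cyclic {a b : G} (ha : a * a = 1) (hb : b * b = 1) (hc : a * b = b * a)
    (ha1 : a ≠ 1) (hb1 : b ≠ 1) (hab : a ≠ b) : ¬ IsCyclic (fourGroup a b ha hb hc) := by
  intro hcyc
  obtain ⟨g, hg⟩ := hcyc.exists_generator
  have hg2 : g * g = 1 := by
    refine Subtype.ext ?_
    rcases g.2 with h | h | h | h <;> rw [Subgroup.coe_mul, h, Subgroup.coe_one]
    · exact mul_one 1
    · exact ha
    · exact hb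
    · rw [show a * b * (a * b) = a * (b * a) * b by group, ← hc, show a * (a * b) * b = (a * a) * (b * b) by group, ha, hb, one_mul]
  have h2 : ∀ z : fourGroup a b ha hb hc, z = 1 ∨ z = g := by
    intro z
    obtain ⟨k, rfl⟩ := hg z
    rcases Int.even_or_odd k with ⟨j, rfl⟩ | ⟨j, rfl⟩
    · left
      show g ^ (j + j) = 1
      rw [← two_mul, zpow_mul, zpow_two, hg2, one_zpow]
    · right
      show g ^ (2 * j + 1) = g
      rw [zpow_add_one, zpow_mul, zpow_two, hg2, one_zpow, one_mul]
  have hA : (⟨a, Or.inr (Or.inl rfl)⟩ : fourGroup a b ha hb hc) = g :=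
    (h2 _).resolve_left fun h => ha1 (congrArg Subtype.val h)
  have hB : (⟨b, Or.inr (Or.inr (Or.inl rfl))⟩ : fourGroup a b ha hb hc) = g :=
    (h2 _).resolve_left fun h => hb1 (congrArg Subtype.val h)
  exact hab (congrArg Subtype.val (hA.trans hB.symm))

theorem fourGroup_card_coprime [Finite G] {a b : G} (ha : a * a = 1) (hb : b * b = 1) (hc : a * b = b * a)
    {K : Subgroup G} (hK : Odd (Nat.card K)) :
    (Nat.card (fourGroup a b ha hb hc)).Coprime (Nat.card K) := by
  have hp : IsPGroup 2 (fourGroup a b ha hb hc) := by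
    intro z
    refine ⟨1, Subtype.ext ?_⟩
    simp only [pow_one, pow_two, Subgroup.coe_mul, Subgroup.coe_one]
    rcases z.2 with h | h | h | h <;> rw [h]
    · exact mul_one 1
    · exact ha
    · exact hb
    · rw [show a * b * (a * b) = a * (b * a) * b by group, ← hc, show a * (a * b) * b = (a * a) * (b * b) by group, ha, hb, one_mul]
  haveI : Fact (Nat.Prime 2) := ⟨Nat.prime_two⟩
  obtain ⟨k, hk⟩ := IsPGroup.iff_card.mp hp
  rw [hk]
  exact (Nat.coprime_two_left.mpr hK).pow_left k

/-- Commuting involutions coincide in a subgroup of 2-rank at most one. -/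
theorem involution_eq_of_rank_one [Finite G] {H : Subgroup G} (hr : Cfsg.PRankLE 2 1 H) {u v : G}
    (hu : u ∈ H) (hv : v ∈ H) (hu2 : u * u = 1) (hu1 : u ≠ 1) (hv2 : v * v = 1) (hv1 : v ≠ 1)
    (hc : u * v = v * u) : u = v := by
  by_contra hne
  set E := fourGroup u v hu2 hv2 hc with hE
  have hEH : E ≤ H := by
    intro z hz
    rcases hz with h | h | h | h <;> rw [h]
    · exact H.one_mem
    · exact hu
    · exact hv
    · exact H.mul_mem hu hv
  have hsq : ∀ z ∈ E, z ^ 2 = 1 := by
    intro z hz
    rw [pow_two]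
    rcases hz with h | h | h | h <;> rw [h]
    · exact mul_one 1
    · exact hu2
    · exact hv2
    · rw [show u * v * (u * v) = u * (v * u) * v by group, ← hc,
        show u * (u * v) * v = (u * u) * (v * v) by group, hu2, hv2, one_mul]
  haveI := fourGroup_comm hu2 hv2 hc
  have hcomm : IsMulCommutative (E.subgroupOf H) := ⟨⟨fun z w => Subtype.ext (Subtype.ext (by
    have := congrArg Subtype.val (mul_comm' (⟨_, mem_subgroupOf.mp z.2⟩ : E) ⟨_, mem_subgroupOf.mp w.2⟩)
    simpa using this))⟩⟩
  have hle := hr (E.subgroupOf H) hcomm fun z hz => Subtype.ext (by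
    rw [SubmonoidClass.coe_pow, hsq _ (mem_subgroupOf.mp hz), Subgroup.coe_one])
  rw [Nat.card_congr (subgroupOfEquivOfLe hEH).toEquiv] at hle
  have hf : Function.Injective (fun i : Fin 3 => (![⟨1, E.one_mem⟩, ⟨u, Or.inr (Or.inl rfl)⟩,
      ⟨v, Or.inr (Or.inr (Or.inl rfl))⟩] : Fin 3 → E) i) := by
    intro i j h
    have h' := congrArg Subtype.val h
    fin_cases i <;> fin_cases j <;> first
      | rfl
      | exact absurd h' hu1 | exact absurd h'.symm hu1
      | exact absurd h' hv1 | exact absurd h'.symm hv1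
      | exact absurd h' hne | exact absurd h'.symm hne
  have := Nat.card_le_card_of_injective _ hf
  rw [Nat.card_fin] at this
  omega

/-- If the odd normal subgroup `W` has all `t`-centralized elements in `C(p)`, and the conjugate
`t' ∈ {p, tp}` of `t` has equally many fixed points on `W`, then `tt'` centralizes `W`. -/
theorem le_centralizer_of_conj_involution [Finite G] {W : Subgroup G} [W.Normal] (hW : Odd (Nat.card W))
    {t t' g : G} (ht : t * t = 1) (ht1 : t ≠ 1) (hc : t * t' = t' * t) (hne : t ≠ t')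
    (hg : g * t * g⁻¹ = t')
    (hfix : W ⊓ centralizer ({t} : Set G) ≤ centralizer ({t'} : Set G)) :
    W ≤ centralizer ({t * t'} : Set G) := by
  have ht'2 : t' * t' = 1 := by
    rw [← hg, show g * t * g⁻¹ * (g * t * g⁻¹) = g * (t * t) * g⁻¹ by group, ht, mul_one, mul_inv_cancel]
  have ht'1 : t' ≠ 1 := fun h => ht1 (by
    rw [← hg, mul_inv_eq_one] at h
    exact mul_left_cancel (h.trans (mul_one g).symm))
  have hle : W ⊓ centralizer ({t} : Set G) ≤ W ⊓ centralizer ({t'} : Set G) := le_inf inf_le_left hfix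
  have heq : W ⊓ centralizer ({t} : Set G) = W ⊓ centralizer ({t'} : Set G) := by
    refine eq_of_le_of_card_ge hle ?_
    rw [← card_map_of_injective (K := W ⊓ centralizer ({t} : Set G)) (f := (MulAut.conj g).toMonoidHom) (MulAut.conj g).injective]
    refine card_le_of_le ?_
    intro y hy
    obtain ⟨hyW, hyC⟩ := hy
    refine ⟨g⁻¹ * y * g, ⟨?_, ?_⟩, by simp [mul_assoc]⟩
    · simpa using ‹W.Normal›.conj_mem y hyW g⁻¹
    · intro z hz
      rw [Set.mem_singleton_iff.mp hz]
      have h1 : t' * y = y * t' := hyC t' rfl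
      rw [← hg] at h1
      have := congrArg (fun v => g⁻¹ * v * g) h1
      simpa [mul_assoc] using this
  haveI := fourGroup_comm ht ht'2 hc
  refine Coprime.le_of_centralizer_le (fourGroup t t' ht ht'2 hc) W _
    (fourGroup_not_cyclic ht ht'2 hc ht1 ht'1 hne) ?_ (fourGroup_card_coprime ht ht'2 hc hW) ?_
  · rw [normalizer_eq_top]; exact le_top
  · intro e he he1 y hy
    have key : ∀ y ∈ W ⊓ centralizer ({t} : Set G), y ∈ centralizer ({t * t'} : Set G) := by
      intro y hy z hz
      rw [Set.mem_singleton_iff.mp hz]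
      have h1 : t * y = y * t := hy.2 t rfl
      have h2 : t' * y = y * t' := hfix hy t' rfl
      rw [mul_assoc, h2, ← mul_assoc, h1, mul_assoc]
    rcases he with rfl | rfl | rfl | rfl
    · exact absurd rfl he1
    · exact key y hy
    · exact key y (heq ▸ hy)
    · exact hy.2

end Cfsg.Agent.InvChar
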