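import Mathlib
import Cfsg.Agent.InvChar.AnisoPair
import Cfsg.Agent.S0093
import Cfsg.Agent.S0121
import Cfsg.Agent.Lib.PGroup.Basic

/-! Two-groups with three involutions have solvable automorphism groups. -/

set_option autoImplicit false

namespace Cfsg.Agent.InvChar.ThreeInvolutions

open Subgroup
open scoped commutatorElement

/-- A subgroup of automorphisms whose odd elements are trivial is solvable. -/
theorem solvable_of_odd_trivial {A : Type*} [Group A] [Finite A]
    (h : ∀ a : A, Odd (orderOf a) → a = 1) : Group.IsSolvable A := by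
  haveI := Fact.mk Nat.prime_two
  have hp : IsPGroup 2 A := by
    intro a
    obtain ⟨k, m, hm, hkm⟩ := Nat.exists_eq_two_pow_mul_odd (n := orderOf a) (orderOf_pos a).ne'
    refine ⟨k, h _ ?_⟩
    rw [orderOf_pow_of_dvd (by positivity) ⟨m, hkm⟩, hkm, Nat.mul_div_cancel_left _ (by positivity)]
    exact hm
  haveI := hp.isNilpotent
  infer_instance

/-- Restriction of automorphisms to a characteristic subgroup. -/
def restrict {G : Type*} [Group G] (D : Subgroup G) [hD : D.Characteristic] : MulAut G →* MulAut D where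
  toFun a := (a.subgroupMap D).trans (MulEquiv.subgroupCongr (characteristic_iff_map_eq.mp hD a))
  map_one' := by ext; rfl
  map_mul' _ _ := by ext; rfl

theorem restrict_apply {G : Type*} [Group G] (D : Subgroup G) [D.Characteristic] (a : MulAut G) (d : D) :
    (restrict D a d : G) = a d := rfl

theorem solvable_of_restrict {G : Type*} [Group G] [Finite G] (D : Subgroup G) [D.Characteristic]
    (hD : Group.IsSolvable (MulAut D))
    (h : ∀ a : MulAut G, Odd (orderOf a) → (∀ d ∈ D, a d = d) → a = 1) : Group.IsSolvable (MulAut G) := by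
  haveI := hD
  haveI : Group.IsSolvable (restrict D).ker := solvable_of_odd_trivial fun a ha => Subtype.ext
    (h a (by rwa [Subgroup.orderOf_coe]) fun d hd =>
      (restrict_apply D (a : MulAut G) ⟨d, hd⟩).symm.trans
        (congrArg Subtype.val (DFunLike.congr_fun (MonoidHom.mem_ker.mp a.2) (⟨d, hd⟩ : D))))
  exact Group.isSolvable_of_ker_le_range (restrict D).ker.subtype (restrict D) (by rw [Subgroup.range_subtype])

/-- The fixed point of a coprime automorphism argument. -/
theorem odd_trick {G : Type*} [Group G] (a : MulAut G) (ha : Odd (orderOf a)) {x c : G}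
    (hx : a x = x * c) (hc : a c = c) (h4 : c ^ 4 = 1) : c = 1 := by
  have hpow : ∀ j : ℕ, (a ^ j) x = x * c ^ j := by
    intro j
    induction j with
    | zero => simp
    | succ j ih =>
      rw [pow_succ', MulAut.mul_apply, ih, map_mul, map_pow, hc, hx, pow_succ', mul_assoc]
  have h := hpow (orderOf a)
  rw [pow_orderOf_eq_one, MulAut.one_apply, left_eq_mul] at h
  have : orderOf c ∣ Nat.gcd (orderOf a) 4 :=
    Nat.dvd_gcd (orderOf_dvd_of_pow_eq_one h) (orderOf_dvd_of_pow_eq_one h4)
  have hco : Nat.gcd (orderOf a) 4 = 1 := (Nat.coprime_two_right.mpr ha).pow_right 2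
  rw [hco] at this
  exact orderOf_eq_one_iff.mp (Nat.dvd_one.mp this)

section ClassTwo

variable {C : Type*} [Group C] [Finite C]
  (hsq : ∀ x y : C, Commute (x * x) y) (hcl : ∀ x y z : C, Commute ⁅x, y⁆ z)

include hsq hcl in
omit [Finite C] in
theorem mul_sq (x y : C) : (x * y) * (x * y) = (x * x) * (y * y) * ⁅y, x⁆ ∧ ⁅y, x⁆ * ⁅y, x⁆ = 1 := by
  obtain ⟨k, hk⟩ : ∃ k, ⁅y, x⁆ = k := ⟨_, rfl⟩
  have hyx : y * x = k * (x * y) := by rw [← hk, commutatorElement_def]; group
  have hkc : ∀ z, Commute k z := hk ▸ hcl y x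
  refine ⟨?_, ?_⟩
  · rw [hk]
    calc (x * y) * (x * y) = x * (y * x) * y := by group
      _ = (x * k) * (x * y) * y := by rw [hyx]; group
      _ = (k * x) * (x * y) * y := by rw [(hkc x).eq]
      _ = k * ((x * x) * (y * y)) := by group
      _ = (x * x) * (y * y) * k := (hkc _).eq
  · rw [hk]
    have h1 : (y * y) * x = (k * k) * (x * (y * y)) := by
      calc (y * y) * x = y * (y * x) := by group
        _ = (y * k) * (x * y) := by rw [hyx]; group
        _ = (k * y) * (x * y) := by rw [(hkc y).eq]
        _ = k * (y * x) * y := by group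
        _ = (k * k) * (x * (y * y)) := by rw [hyx]; group
    rw [(hsq y x).eq] at h1
    exact right_eq_mul.mp h1

include hsq hcl in
theorem aut_solvable_exp_four (h4 : ∀ x : C, (x * x) * (x * x) = 1)
    (h3 : Nat.card {x : C // orderOf x = 2} ≤ 3) : Group.IsSolvable (MulAut C) := by
  classical
  haveI := Fintype.ofFinite C
  have key : ∀ l : List C, l.Nodup → (∀ x ∈ l, x ≠ 1 ∧ x * x = 1) → l.length ≤ 3 := by
    intro l hl hx
    refine le_trans ?_ h3
    rw [Nat.card_eq_fintype_card, Fintype.card_subtype, ← List.toFinset_card_of_nodup hl]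
    refine Finset.card_le_card fun x hxl => Finset.mem_filter.mpr ⟨Finset.mem_univ _, ?_⟩
    obtain ⟨h1, h2⟩ := hx x (List.mem_toFinset.mp hxl)
    exact orderOf_eq_prime (by rw [pow_two, h2]) h1
  have hcomm : ∀ x s : C, Commute x s → x * s * (x * s) = x * x * (s * s) := fun x s h => by
    calc x * s * (x * s) = x * (s * x) * s := by group
      _ = x * (x * s) * s := by rw [h.eq]
      _ = x * x * (s * s) := by group
  have hinv : ∀ s : C, s * s = 1 → ∀ x, Commute s x := by
    intro s hs x
    obtain ⟨c, hc⟩ : ∃ c, ⁅s, x⁆ = c := ⟨_, rfl⟩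
    by_cases hc1 : c = 1
    · exact commutatorElement_eq_one_iff_mul_comm.mp (hc.trans hc1)
    exfalso
    have hs1 : s ≠ 1 := fun e => hc1 (by rw [← hc, e, commutatorElement_one_left])
    have hcc : c * c = 1 := hc ▸ (mul_sq hsq hcl x s).2
    have hccom : ∀ z, Commute c z := hc ▸ hcl s x
    have hsc : s ≠ c := fun e => hc1 (by
      rw [← hc]; exact commutatorElement_eq_one_iff_mul_comm.mpr (e ▸ (hccom x)).eq)
    have hscm : (s * c) * (s * c) = 1 := by rw [hcomm s c (hccom s).symm, hs, hcc, one_mul]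
    have hsc1 : s * c ≠ 1 := fun e => hsc ((eq_inv_of_mul_eq_one_left e).trans (inv_eq_of_mul_eq_one_right hcc))
    have hlist : ∀ w : C, w * w = 1 → w = 1 ∨ w = s ∨ w = c ∨ w = s * c := by
      intro w hw
      by_contra hn
      simp only [not_or] at hn
      have := key [w, s, c, s * c] (by simp [hn.2.1, hn.2.2.1, hn.2.2.2, hsc, hs1, hc1]) (by
        simp [hw, hs, hcc, hn.1, hs1, hc1, hsc1, hscm])
      simp at this
    have hx0 : x * x ≠ 1 := fun e => hc1 (by
      rw [← hc]
      refine commutatorElement_eq_one_iff_mul_comm.mpr ?_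
      rcases hlist x e with rfl | rfl | rfl | rfl
      · exact (Commute.one_right _).eq
      · rfl
      · exact (hccom _).symm.eq
      · exact ((Commute.refl s).mul_right (hccom s).symm).eq)
    have hx2 : x * x = c := by
      rcases hlist (x * x) (h4 x) with h | h | h | h
      · exact absurd h hx0
      · exact absurd (commutatorElement_eq_one_iff_mul_comm.mpr (h ▸ hsq x x).eq) (hc ▸ hc1)
      · exact h
      · exfalso
        apply hc1
        rw [← hc]
        refine commutatorElement_eq_one_iff_mul_comm.mpr ?_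
        have : s = x * x * c := by rw [h, mul_assoc, hcc, mul_one]
        rw [this]
        exact ((hsq x x).mul_left (hccom x)).eq
    have hxs : (x * s) * (x * s) = 1 := by rw [(mul_sq hsq hcl x s).1, hx2, hs, hc, mul_one, hcc]
    refine hc1 ?_
    rw [← hc]
    refine commutatorElement_eq_one_iff_mul_comm.mpr ?_
    have hxss : x = x * s * s := by rw [mul_assoc, hs, mul_one]
    rcases hlist _ hxs with h | h | h | h <;> rw [h] at hxss <;> rw [hxss]
    · simp
    · exact ((Commute.refl s).mul_right (Commute.refl s)).eq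
    · exact ((hccom s).symm.mul_right (Commute.refl s)).eq
    · exact (((Commute.refl s).mul_right (hccom s).symm).mul_right (Commute.refl s)).eq
  let E : Subgroup C :=
    { carrier := {x | x * x = 1}
      one_mem' := one_mul 1
      mul_mem' := fun {a b} ha hb => by
        show a * b * (a * b) = 1
        rw [hcomm a b (hinv a ha b), ha, hb, one_mul]
      inv_mem' := fun {a} ha => by
        show a⁻¹ * a⁻¹ = 1
        rw [← mul_inv_rev, ha, inv_one] }
  haveI hEchar : E.Characteristic := by
    refine characteristic_iff_map_le.mpr fun φ => ?_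
    rintro _ ⟨e, he, rfl⟩
    show φ e * φ e = 1
    rw [← map_mul, (he : e * e = 1), map_one]
  haveI : E.Normal := normal_of_characteristic E
  letI : CommGroup E := { (inferInstance : Group E) with mul_comm := fun a b => Subtype.ext (hinv a a.2 b).eq }
  have hmkc : ∀ a b : C, (QuotientGroup.mk (a * b) : C ⧸ E) = QuotientGroup.mk (b * a) := by
    intro a b
    refine QuotientGroup.eq.mpr ?_
    show (a * b)⁻¹ * (b * a) * ((a * b)⁻¹ * (b * a)) = 1
    have e : (a * b)⁻¹ * (b * a) = ⁅b⁻¹, a⁻¹⁆ := by simp [commutatorElement_def, mul_assoc]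
    rw [e]
    exact (mul_sq hsq hcl a⁻¹ b⁻¹).2
  letI : CommGroup (C ⧸ E) :=
    { (inferInstance : Group (C ⧸ E)) with
      mul_comm := fun a b => by
        induction a using QuotientGroup.induction_on with | H a =>
        induction b using QuotientGroup.induction_on with | H b =>
        exact hmkc a b }
  have hV : ∀ v : C ⧸ E, v * v = 1 := by
    intro v
    induction v using QuotientGroup.induction_on with | H a =>
    exact (QuotientGroup.eq_one_iff _).mpr (show a * a * (a * a) = 1 from h4 a)
  have hE : ∀ e : E, e * e = 1 := fun e => Subtype.ext e.2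
  have hEcard : Nat.card E ≤ 4 := by
    by_contra hlt
    haveI := Fintype.ofFinite E
    rw [Nat.card_eq_fintype_card, ← Finset.card_univ] at hlt
    have h4' : 4 ≤ ((Finset.univ : Finset E).erase 1).card := by
      rw [Finset.card_erase_of_mem (Finset.mem_univ _)]; omega
    have := key (((Finset.univ : Finset E).erase 1).toList.map Subtype.val)
      ((Finset.nodup_toList _).map Subtype.val_injective) (by
        intro x hx
        obtain ⟨e, he, rfl⟩ := List.mem_map.mp hx
        exact ⟨fun h => (Finset.mem_erase.mp (Finset.mem_toList.mp he)).1 (Subtype.ext h), e.2⟩)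
    rw [List.length_map, Finset.length_toList] at this; omega
  let q : C ⧸ E → E := Quotient.lift (fun x : C => (⟨x * x, h4 x⟩ : E)) fun x y h => by
    obtain ⟨e, he, rfl⟩ : ∃ e, e * e = 1 ∧ y = x * e :=
      ⟨x⁻¹ * y, QuotientGroup.leftRel_apply.mp h, by group⟩
    apply Subtype.ext
    show x * x = x * e * (x * e)
    rw [hcomm x e (hinv e he x).symm, he, mul_one]
  have hqmk : ∀ x : C, q (QuotientGroup.mk x) = ⟨x * x, h4 x⟩ := fun _ => rfl
  have hq : ∀ v, q v = 1 ↔ v = 1 := by
    intro v
    induction v using QuotientGroup.induction_on with | H x =>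
    rw [hqmk, QuotientGroup.eq_one_iff]
    exact ⟨fun h => congrArg Subtype.val h, fun h => Subtype.ext h⟩
  have hB : ∀ a b c : C ⧸ E, q (a * b * c) * q (a * b) * q c = (q (a * c) * q a * q c) * (q (b * c) * q b * q c) := by
    have hB1 : ∀ x y : C, q (QuotientGroup.mk x * QuotientGroup.mk y) * q (QuotientGroup.mk x) * q (QuotientGroup.mk y)
        = (⟨⁅y, x⁆, (mul_sq hsq hcl x y).2⟩ : E) := by
      intro x y
      rw [← QuotientGroup.mk_mul, hqmk, hqmk, hqmk]
      have e : (⟨x * y * (x * y), h4 (x * y)⟩ : E) = ⟨x * x, h4 x⟩ * ⟨y * y, h4 y⟩ * ⟨⁅y, x⁆, (mul_sq hsq hcl x y).2⟩ :=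
        Subtype.ext (mul_sq hsq hcl x y).1
      rw [e]
      simp only [mul_comm, mul_left_comm, mul_assoc]
      simp only [← mul_assoc, hE, one_mul, mul_one]
    intro a b c
    induction a using QuotientGroup.induction_on with | H x =>
    induction b using QuotientGroup.induction_on with | H y =>
    induction c using QuotientGroup.induction_on with | H z =>
    rw [hB1, hB1, ← QuotientGroup.mk_mul, hB1]
    apply Subtype.ext
    show ⁅z, x * y⁆ = ⁅z, x⁆ * ⁅z, y⁆
    calc ⁅z, x * y⁆ = ⁅z, x⁆ * (x * ⁅z, y⁆ * x⁻¹) := by simp [commutatorElement_def, mul_assoc]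
      _ = ⁅z, x⁆ * ⁅z, y⁆ := by rw [← (hcl z y x).eq, mul_inv_cancel_right]
  let φ : MulAut C →* MulAut (C ⧸ E) :=
    { toFun := fun a => QuotientGroup.congr E E a (characteristic_iff_map_eq.mp hEchar a)
      map_one' := MulEquiv.ext fun v => by
        induction v using QuotientGroup.induction_on with | H x => rfl
      map_mul' := fun a b => MulEquiv.ext fun v => by
        induction v using QuotientGroup.induction_on with | H x => rfl }
  haveI : Group.IsSolvable (MulAut E) := by
    have hinj : Function.Injective (MulAut.toPerm E) := fun a b h => MulEquiv.ext fun x => Equiv.congr_fun h x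
    haveI := Fintype.ofFinite E
    have hd : Nat.card (MulAut E) ∣ 2 ^ 3 * 3 := by
      refine (Subgroup.card_dvd_of_injective _ hinj).trans ?_
      rw [Nat.card_perm]
      exact Nat.factorial_dvd_factorial (n := 4) hEcard
    obtain ⟨d₁, d₂, h1, h2, he⟩ := exists_dvd_and_dvd_of_dvd_mul hd
    obtain ⟨a, -, rfl⟩ := (Nat.dvd_prime_pow Nat.prime_two).mp h1
    obtain ⟨b, -, rfl⟩ := (Nat.dvd_prime_pow Nat.prime_three).mp ((pow_one 3).symm ▸ h2)
    exact S0144.result 2 3 a b Nat.prime_two Nat.prime_three he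
  obtain ⟨K, hK⟩ : ∃ K, (restrict E).ker = K := ⟨_, rfl⟩
  have hKfix : ∀ a : K, ∀ e ∈ E, (a : MulAut C) e = e := fun a e he =>
    (restrict_apply E (a : MulAut C) ⟨e, he⟩).symm.trans <| congrArg Subtype.val (DFunLike.congr_fun (MonoidHom.mem_ker.mp (hK ▸ a.2 : (a : MulAut C) ∈ (restrict E).ker)) (⟨e, he⟩ : E))
  haveI : Group.IsSolvable ((φ.comp K.subtype).range) := by
    refine AnisoPair.isometry_solvable hV hE hEcard q hq hB _ ?_
    rintro _ ⟨a, rfl⟩ v
    induction v using QuotientGroup.induction_on with | H x =>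
    show q (QuotientGroup.mk ((a : MulAut C) x)) = q (QuotientGroup.mk x)
    rw [hqmk, hqmk]
    apply Subtype.ext
    show (a : MulAut C) x * (a : MulAut C) x = x * x
    rw [← map_mul]
    exact hKfix a _ (h4 x)
  haveI : Group.IsSolvable ((φ.comp K.subtype).ker) := solvable_of_odd_trivial fun a ha => by
    have ha' : Odd (orderOf ((a : K) : MulAut C)) := by rwa [Subgroup.orderOf_coe, Subgroup.orderOf_coe]
    apply Subtype.ext; apply Subtype.ext
    refine MulEquiv.ext fun x => ?_
    have h : x⁻¹ * ((a : K) : MulAut C) x ∈ E :=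
      QuotientGroup.eq.mp (DFunLike.congr_fun (MonoidHom.mem_ker.mp a.2) (x : C ⧸ E)).symm
    have hc4 : (x⁻¹ * ((a : K) : MulAut C) x) ^ 4 = 1 := by
      have h' : x⁻¹ * ((a : K) : MulAut C) x * (x⁻¹ * ((a : K) : MulAut C) x) = 1 := h
      rw [show (4 : ℕ) = 2 * 2 from rfl, pow_mul, pow_two (x⁻¹ * _), h', one_pow]
    have h0 := odd_trick _ ha' (c := x⁻¹ * ((a : K) : MulAut C) x) (mul_inv_cancel_left x _).symm (hKfix _ _ h) hc4
    exact (inv_mul_eq_one.mp h0).symm
  haveI : Group.IsSolvable K := Group.isSolvable_of_ker_le_range (φ.comp K.subtype).ker.subtype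
    (φ.comp K.subtype).rangeRestrict (by rw [MonoidHom.ker_rangeRestrict, Subgroup.range_subtype])
  exact Group.isSolvable_of_ker_le_range K.subtype (restrict E) (by rw [Subgroup.range_subtype, hK])

include hsq hcl in
theorem aut_solvable_classTwo (h2 : IsPGroup 2 C)
    (h3 : Nat.card {x : C // orderOf x = 2} ≤ 3) : Group.IsSolvable (MulAut C) := by
  let D : Subgroup C :=
    { carrier := {x | (x * x) * (x * x) = 1}
      one_mem' := by simp
      mul_mem' := fun {a b} ha hb => by
        show (a * b * (a * b)) * (a * b * (a * b)) = 1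
        have ha' : a * a * (a * a) = 1 := ha
        have hb' : b * b * (b * b) = 1 := hb
        obtain ⟨e, hk⟩ := mul_sq hsq hcl a b
        rw [e]
        have c1 : Commute (a * a) (b * b * ⁅b, a⁆) := hsq a _
        have c2 : Commute (b * b) ⁅b, a⁆ := hsq b _
        calc a * a * (b * b) * ⁅b, a⁆ * (a * a * (b * b) * ⁅b, a⁆)
            = a * a * ((b * b * ⁅b, a⁆) * (a * a)) * (b * b * ⁅b, a⁆) := by group
          _ = (a * a) * (a * a) * (b * b * ⁅b, a⁆ * (b * b * ⁅b, a⁆)) := by rw [← c1.eq]; group
          _ = (b * b) * (⁅b, a⁆ * (b * b)) * ⁅b, a⁆ := by rw [ha']; group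
          _ = (b * b) * (b * b) * (⁅b, a⁆ * ⁅b, a⁆) := by rw [← c2.eq]; group
          _ = 1 := by rw [hb', hk, one_mul]
      inv_mem' := fun {a} ha => by
        show a⁻¹ * a⁻¹ * (a⁻¹ * a⁻¹) = 1
        calc a⁻¹ * a⁻¹ * (a⁻¹ * a⁻¹) = ((a * a) * (a * a))⁻¹ := by group
          _ = 1 := by rw [show a * a * (a * a) = 1 from ha, inv_one] }
  haveI : D.Characteristic := by
    refine characteristic_iff_map_le.mpr fun φ => ?_
    rintro _ ⟨e, he, rfl⟩
    show φ e * φ e * (φ e * φ e) = 1
    rw [← map_mul, ← map_mul, show e * e * (e * e) = 1 from he, map_one]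
  have hsol : Group.IsSolvable (MulAut D) := by
    refine aut_solvable_exp_four (fun x y => Subtype.ext (hsq x y).eq) (fun x y z => Subtype.ext (hcl x y z).eq)
      (fun x => Subtype.ext x.2) ?_
    refine le_trans (Nat.card_le_card_of_injective
      (fun x => (⟨(x.1 : C), by rw [Subgroup.orderOf_coe]; exact x.2⟩ : {x : C // orderOf x = 2})) ?_) h3
    intro a b h
    have h' := congrArg Subtype.val h
    dsimp only at h'
    exact Subtype.ext (Subtype.ext h')
  refine solvable_of_restrict D hsol fun a ha hfix => MulEquiv.ext fun x => ?_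
  obtain ⟨k, hk⟩ := h2 x
  induction k generalizing x with
  | zero => rw [pow_zero, pow_one] at hk; simp [hk]
  | succ k ih =>
    have hx2 : a (x * x) = x * x := ih (x * x) (by rw [← pow_two, ← pow_mul, ← pow_succ']; exact hk)
    obtain ⟨c, hc⟩ : ∃ c, x⁻¹ * a x = c := ⟨_, rfl⟩
    have hax : a x = x * c := by rw [← hc]; group
    obtain ⟨e, hk2⟩ := mul_sq hsq hcl x c
    have hcD : c ∈ D := by
      show c * c * (c * c) = 1
      have h0 : (x * x) * (c * c) * ⁅c, x⁆ = x * x * 1 := by
        rw [mul_one, ← e, ← hax, ← map_mul, hx2]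
      rw [mul_assoc] at h0
      have h1 : c * c = ⁅c, x⁆⁻¹ := eq_inv_of_mul_eq_one_left (mul_left_cancel h0)
      rw [h1, ← mul_inv_rev, hk2, inv_one]
    have h4 : c ^ 4 = 1 := by
      rw [show (4 : ℕ) = 2 * 2 from rfl, pow_mul, pow_two c, pow_two, show c * c * (c * c) = 1 from hcD]
    rw [hax, odd_trick a ha hax (hfix c hcD) h4, mul_one]
    rfl

end ClassTwo

theorem aut_solvable {X : Type*} [Group X] [Finite X] (h2 : IsPGroup 2 X)
    (h3 : Nat.card {x : X // orderOf x = 2} ≤ 3) : Group.IsSolvable (MulAut X) := by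
  haveI := Fact.mk Nat.prime_two
  obtain ⟨H, hHc, hΦ, hcomm, hcen⟩ := S0093.result h2
  haveI := hHc
  have hHp : IsPGroup 2 H := h2.to_subgroup H
  have hsq : ∀ x y : H, Commute (x * x) y := fun x y => Subtype.ext
    (mem_centralizer_iff.mp (hΦ ⟨x * x, pow_two x ▸ PGroup.pow_mem_frattini hHp x, rfl⟩) y y.2).symm
  have hcl : ∀ x y z : H, Commute ⁅x, y⁆ z := fun x y z => Subtype.ext
    (mem_centralizer_iff.mp (hΦ ⟨_, PGroup.comm_mem_frattini hHp x y, rfl⟩) z z.2).symm
  refine solvable_of_restrict H (aut_solvable_classTwo hsq hcl hHp ?_) fun a ha hfix =>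
    S0121.result h2 H hHc hΦ hcomm hcen a (Nat.coprime_two_right.mpr ha) hfix
  refine le_trans (Nat.card_le_card_of_injective
    (fun x => (⟨(x.1 : X), by rw [Subgroup.orderOf_coe]; exact x.2⟩ : {x : X // orderOf x = 2})) ?_) h3
  intro a b h
  have h' := congrArg Subtype.val h
  dsimp only at h'
  exact Subtype.ext (Subtype.ext h')

end Cfsg.Agent.InvChar.ThreeInvolutions
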