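import Mathlib.FieldTheory.Finite.GaloisField
import Mathlib.GroupTheory.Sylow
import Mathlib.LinearAlgebra.Matrix.ProjectiveSpecialLinearGroup
import Cfsg.Agent.Lib.LinearGroup.Card

/-!
# A group of order 64 with the multiplication law of the unitriangular group over the field of
four elements is a Sylow 2-subgroup of `PSL(3, 4)`
-/

set_option autoImplicit false

open Matrix

namespace Cfsg.Agent.InvChar.SixtyFour

/-- Coordinates of the field with four elements. -/
abbrev P4 := ZMod 2 × ZMod 2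

/-- Multiplication in coordinates with respect to `1, ω`. -/
def mul4 (p q : P4) : P4 := (p.1 * q.1 + p.2 * q.2, p.1 * q.2 + p.2 * q.1 + p.2 * q.2)

theorem zmod2_or : ∀ a : ZMod 2, a = 0 ∨ a = 1 := by decide

theorem card_PSL_three_four {F : Type} [Field F] [Fintype F] (hF : Fintype.card F = 4) :
    Nat.card (ProjectiveSpecialLinearGroup (Fin 3) F) = 20160 := by
  have h1 := LinearGroup.gcd_mul_card_PSL (F := F) (n := Fin 3)
  have h2 := LinearGroup.card_SL_eq_pow_mul_prod (F := F) 2
  rw [h2] at h1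
  simp [Nat.card_eq_fintype_card, hF, Fin.sum_univ_three, Finset.prod_range_succ] at h1
  omega

/-- The recognition theorem. -/
theorem exists_sylow_of_law {T : Type*} [Group T] [Finite T] (hT : Nat.card T = 64)
    (Ψ : P4 × P4 × P4 → T) (hbij : Function.Bijective Ψ)
    (hmul : ∀ p q, Ψ p * Ψ q = Ψ (p.1 + q.1, p.2.1 + q.2.1, p.2.2 + q.2.2 + mul4 p.1 q.2.1)) :
    ∃ (F : Type) (_ : Field F) (_ : Fintype F), Fintype.card F = 4 ∧
      ∃ S : Sylow 2 (ProjectiveSpecialLinearGroup (Fin 3) F),
        Nonempty (T ≃* ↥(S : Subgroup (ProjectiveSpecialLinearGroup (Fin 3) F))) := by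
  classical
  have := Fact.mk Nat.prime_two
  let F := GaloisField 2 2
  let _ : Fintype F := Fintype.ofFinite F
  have hF : Fintype.card F = 4 := by
    rw [← Nat.card_eq_fintype_card, GaloisField.card 2 2 (by norm_num)]; norm_num
  refine ⟨F, inferInstance, inferInstance, hF, ?_⟩
  obtain ⟨ω, hω0, hω1⟩ : ∃ ω : F, ω ≠ 0 ∧ ω ≠ 1 := by
    have : ∃ ω ∈ (Finset.univ : Finset F), ω ∉ ({0, 1} : Finset F) := by
      apply Finset.exists_mem_notMem_of_card_lt_card
      rw [Finset.card_univ, hF]
      exact lt_of_le_of_lt Finset.card_le_two (by norm_num)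
    simpa using this
  have hω : ω * ω = ω + 1 := by
    have h3 : ω ^ 3 = 1 := by
      have := FiniteField.pow_card_sub_one_eq_one ω hω0
      rwa [hF] at this
    have h4 : (ω - 1) * (ω * ω + ω + 1) = 0 := by linear_combination h3
    have h5 := (mul_eq_zero.mp h4).resolve_left (sub_ne_zero.mpr hω1)
    linear_combination h5 - CharTwo.add_self_eq_zero (ω + 1)
  let c : ZMod 2 →+* F := algebraMap (ZMod 2) F
  let E : P4 → F := fun p => c p.1 + c p.2 * ω
  have hEadd : ∀ p q, E (p + q) = E p + E q := fun p q => by simp [E, map_add]; ring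
  have hEmul : ∀ p q, E (mul4 p q) = E p * E q := fun p q => by
    simp only [E, mul4, map_add, map_mul]
    linear_combination -(c p.2 * c q.2) * hω
  have hEinj : ∀ p, E p = 0 → p = 0 := by
    rintro ⟨i, j⟩ hp
    have hc := zmod2_or
    rcases hc i with rfl | rfl <;> rcases hc j with rfl | rfl <;> simp [E] at hp ⊢
    · exact hω0 hp
    · exact hω1 (by linear_combination hp - CharTwo.add_self_eq_zero (1 : F))
  let M : P4 × P4 × P4 → SpecialLinearGroup (Fin 3) F := fun p =>
    ⟨!![1, E p.1, E p.2.2; 0, 1, E p.2.1; 0, 0, 1], by simp [Matrix.det_fin_three]⟩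
  let e : P4 × P4 × P4 ≃ T := Equiv.ofBijective Ψ hbij
  let φ : T →* SpecialLinearGroup (Fin 3) F := MonoidHom.mk' (fun t => M (e.symm t)) fun s t => by
    obtain ⟨p, rfl⟩ := hbij.2 s
    obtain ⟨q, rfl⟩ := hbij.2 t
    have hs : ∀ r, e.symm (Ψ r) = r := e.symm_apply_apply
    rw [hmul, hs, hs, hs]
    apply Subtype.ext
    show (M _).1 = (M p).1 * (M q).1
    simp only [M, hEadd, hEmul]
    ext i j
    fin_cases i <;> fin_cases j <;> simp [Matrix.mul_apply, Fin.sum_univ_three] <;> ring
  let π := (QuotientGroup.mk' (Subgroup.center (SpecialLinearGroup (Fin 3) F))).comp φ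
  have h0 : Ψ 0 = 1 := by
    have := (hmul 0 0).trans (congrArg Ψ (Prod.ext (by simp) (Prod.ext (by simp) (by simp [mul4, Prod.ext_iff])) :
      _ = (0 : P4 × P4 × P4)))
    simpa using this
  have hinj : Function.Injective π := by
    rw [injective_iff_map_eq_one]
    intro t ht
    have hmem : φ t ∈ Subgroup.center (SpecialLinearGroup (Fin 3) F) :=
      (QuotientGroup.eq_one_iff _).mp ht
    obtain ⟨r, -, hr⟩ := SpecialLinearGroup.mem_center_iff.mp hmem
    obtain ⟨⟨a, b, d⟩, rfl⟩ := hbij.2 t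
    have hM : (φ (Ψ (a, b, d)) : Matrix (Fin 3) (Fin 3) F) = !![1, E a, E d; 0, 1, E b; 0, 0, 1] := by
      show (M (e.symm (Ψ (a, b, d))) : Matrix (Fin 3) (Fin 3) F) = _
      rw [show e.symm (Ψ (a, b, d)) = (a, b, d) from e.symm_apply_apply _]
    rw [hM] at hr
    have h01 := congrFun (congrFun hr 0) 1
    have h02 := congrFun (congrFun hr 0) 2
    have h12 := congrFun (congrFun hr 1) 2
    simp [Matrix.scalar_apply] at h01 h02 h12
    rw [hEinj a h01.symm, hEinj b h12.symm, hEinj d h02.symm]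
    exact h0
  have hc64 : Nat.card π.range = 2 ^ 6 := by
    rw [← Nat.card_congr (MonoidHom.ofInjective hinj).toEquiv, hT]; norm_num
  obtain ⟨S, hS⟩ := (IsPGroup.of_card hc64).exists_le_sylow
  refine ⟨S, ⟨(MonoidHom.ofInjective hinj).trans (MulEquiv.subgroupCongr
    (Subgroup.eq_of_le_of_card_ge hS ?_))⟩⟩
  rw [hc64, S.card_eq_multiplicity, card_PSL_three_four hF]
  refine Nat.pow_le_pow_right (by norm_num) (le_of_eq ?_)
  rw [show (20160 : ℕ) = 2 ^ 6 * 315 by norm_num, Nat.factorization_mul (by norm_num) (by norm_num),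
    Finsupp.add_apply, Nat.Prime.factorization_pow Nat.prime_two, Finsupp.single_eq_same,
    Nat.factorization_eq_zero_of_not_dvd (by norm_num : ¬ 2 ∣ 315)]

end Cfsg.Agent.InvChar.SixtyFour
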