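import Cfsg.Agent.TwoFusionB.SU3Ext
import Cfsg.Agent.InvChar.NormSemilinear
import Cfsg.Agent.InvChar.CentralSquareIso
import Cfsg.Agent.Lib.RankOne.FieldAut
import Cfsg.Prelude.Def_Solvable
import Cfsg.Prelude.Def_Transfer

/-!
The automorphism group of the Sylow 2-subgroup of `SU₃(2ⁿ)`.
-/

set_option autoImplicit false

namespace Cfsg.Agent.InvChar

open Cfsg.Agent.Unitary Cfsg.Agent.TwoFusionB

section

variable {S : Type*} [Group S] [Finite S] {F : Type*} [Field F] [Fintype F] [CharP F 2] {q : ℕ}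
  {φ : S → F} {ι : F → S} {ν : F} (hF : Fintype.card F = q ^ 2) (hM : HModel S F q φ ι ν)

include hF hM

theorem iota_zero : ι 0 = 1 := by
  have := hM.ι_mul 0 0 (zero_pow_q hF) (zero_pow_q hF)
  rwa [add_zero, left_eq_mul] at this

theorem phi_iota {c : F} (hc : c ^ q = c) : φ (ι c) = 0 := (hM.φ_zero _).2 ⟨c, hc, rfl⟩

theorem phi_one : φ 1 = 0 := by
  rw [← iota_zero hF hM, phi_iota hF hM (zero_pow_q hF)]

theorem phi_inv (a : S) : φ a⁻¹ = φ a := by
  have := hM.φ_mul a a⁻¹
  rw [mul_inv_cancel, phi_one hF hM] at this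
  exact (CharTwo.add_eq_zero.1 this.symm).symm

theorem norm_scaled_fixed (l : F) : (ν * (l * l ^ q)) ^ q = ν * (l * l ^ q) := by
  rw [mul_pow, mul_pow, pow_q_pow_q hF, hM.ν_fix, mul_comm (l ^ q)]

theorem trace_scaled_fixed (a b : F) :
    (ν * (a * b ^ q + a ^ q * b)) ^ q = ν * (a * b ^ q + a ^ q * b) := by
  rw [mul_pow, add_pow_q hF, mul_pow, mul_pow, pow_q_pow_q hF, pow_q_pow_q hF, hM.ν_fix, add_comm]

theorem commute_iff (x y : S) : x * y = y * x ↔ φ x * φ y ^ q + φ x ^ q * φ y = 0 := by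
  have h : x * y * x⁻¹ * y⁻¹ = 1 ↔ x * y = y * x := by
    rw [mul_inv_eq_one, mul_inv_eq_iff_eq_mul]
  rw [← h, hM.comm, ← iota_zero hF hM]
  refine ⟨fun e => ?_, fun e => by rw [e, mul_zero]⟩
  have := hM.ι_inj _ _ (trace_scaled_fixed hF hM _ _) (zero_pow_q hF) e
  exact (mul_eq_zero.1 this).resolve_left hM.ν_ne

theorem square_eq_iff (x y : S) : x * x = y * y ↔ φ x * φ x ^ q = φ y * φ y ^ q := by
  rw [hM.sq, hM.sq]
  refine ⟨fun e => ?_, fun e => by rw [e]⟩
  exact mul_left_cancel₀ hM.ν_ne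
    (hM.ι_inj _ _ (norm_scaled_fixed hF hM _) (norm_scaled_fixed hF hM _) e)

theorem exists_sqrt {c : F} (hc : c ^ q = c) : ∃ x : S, x * x = ι c := by
  obtain ⟨l, hl⟩ := FiniteField.isSquare_of_char_two (ringChar.eq F 2) (c / ν)
  have hlq : l ^ q = l := by
    have e : l ^ q * l ^ q = l * l := by rw [← mul_pow, ← hl, div_pow, hc, hM.ν_fix]
    rcases mul_self_eq_mul_self_iff.1 e with h | h
    · exact h
    · rwa [CharTwo.neg_eq] at h
  obtain ⟨x, rfl⟩ := hM.φ_surj l
  exact ⟨x, by rw [hM.sq, hlq, ← hl, mul_div_cancel₀ _ hM.ν_ne]⟩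

theorem phi_aut_congr (α : MulAut S) {a b : S} (h : φ a = φ b) : φ (α a) = φ (α b) := by
  have h1 : φ (a⁻¹ * b) = 0 := by rw [hM.φ_mul, phi_inv hF hM, h, CharTwo.add_self_eq_zero]
  have h2 : α (a⁻¹ * b) ∈ Subgroup.center S := by
    have h0 := Subgroup.mem_center_iff.1 ((hM.center_eq hF).2 h1)
    refine Subgroup.mem_center_iff.2 fun g => ?_
    obtain ⟨g, rfl⟩ := α.surjective g
    rw [← map_mul, h0, map_mul]
  have h3 := (hM.center_eq hF).1 h2
  rw [map_mul, map_inv, hM.φ_mul, phi_inv hF hM] at h3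
  exact CharTwo.add_eq_zero.1 h3

/-- The action of an automorphism modulo the centre. -/
noncomputable def quotFun (α : MulAut S) (l : F) : F := φ (α (Function.surjInv hM.φ_surj l))

theorem quotFun_phi (α : MulAut S) (x : S) : quotFun hM α (φ x) = φ (α x) :=
  phi_aut_congr hF hM α (Function.surjInv_eq hM.φ_surj _)

theorem quotFun_mul (α β : MulAut S) (l : F) :
    quotFun hM (α * β) l = quotFun hM α (quotFun hM β l) := by
  obtain ⟨x, rfl⟩ := hM.φ_surj l
  rw [quotFun_phi hF hM, quotFun_phi hF hM, quotFun_phi hF hM, MulAut.mul_apply]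

theorem quotFun_one (l : F) : quotFun hM 1 l = l := by
  obtain ⟨x, rfl⟩ := hM.φ_surj l
  rw [quotFun_phi hF hM, MulAut.one_apply]

/-- The representation on the quotient by the centre. -/
noncomputable def quotRep : MulAut S →* Equiv.Perm F where
  toFun α := {
    toFun := quotFun hM α
    invFun := quotFun hM α⁻¹
    left_inv := fun l => by rw [← quotFun_mul hF hM, inv_mul_cancel, quotFun_one hF hM]
    right_inv := fun l => by rw [← quotFun_mul hF hM, mul_inv_cancel, quotFun_one hF hM] }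
  map_one' := Equiv.ext fun l => quotFun_one hF hM l
  map_mul' α β := Equiv.ext fun l => quotFun_mul hF hM α β l

theorem quotRep_phi (α : MulAut S) (x : S) : quotRep hF hM α (φ x) = φ (α x) :=
  quotFun_phi hF hM α x

/-- `x ↦ c * σ x`. -/
def semiPerm (p : Fˣ × (F ≃+* F)) : Equiv.Perm F :=
  p.2.toEquiv.trans (Equiv.mulLeft₀ (p.1 : F) p.1.ne_zero)

omit hF hM [Finite S] [Group S] [Fintype F] [CharP F 2] in
theorem semiPerm_apply (p : Fˣ × (F ≃+* F)) (x : F) : semiPerm p x = p.1 * p.2 x := rfl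

omit hF hM [Finite S] [Group S] [Fintype F] [CharP F 2] in
theorem semiPerm_injective : Function.Injective (semiPerm (F := F)) := by
  rintro ⟨c, σ⟩ ⟨d, τ⟩ h
  have h1 := Equiv.congr_fun h 1
  simp only [semiPerm_apply, map_one, mul_one] at h1
  obtain rfl : c = d := Units.ext h1
  refine Prod.ext rfl (RingEquiv.ext fun x => ?_)
  exact mul_left_cancel₀ c.ne_zero (Equiv.congr_fun h x)

theorem quotRep_semilinear (α : MulAut S) : ∃ p, quotRep hF hM α = semiPerm p := by
  have hinj : Function.Injective (quotRep hF hM α : F → F) := (quotRep hF hM α).injective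
  obtain ⟨c, σ, hc, h⟩ := exists_semilinear hF (T := (quotRep hF hM α : F → F))
    (fun a b => by
      obtain ⟨x, rfl⟩ := hM.φ_surj a
      obtain ⟨y, rfl⟩ := hM.φ_surj b
      rw [← hM.φ_mul, quotRep_phi, quotRep_phi, quotRep_phi, map_mul, hM.φ_mul])
    hinj
    (fun a b hab => by
      obtain ⟨x, rfl⟩ := hM.φ_surj a
      obtain ⟨y, rfl⟩ := hM.φ_surj b
      rw [quotRep_phi, quotRep_phi, ← commute_iff hF hM, ← map_mul, ← map_mul,
        (commute_iff hF hM x y).2 hab])
    (fun a b hab => by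
      obtain ⟨x, rfl⟩ := hM.φ_surj a
      obtain ⟨y, rfl⟩ := hM.φ_surj b
      rw [quotRep_phi, quotRep_phi, ← square_eq_iff hF hM, ← map_mul, ← map_mul,
        (square_eq_iff hF hM x y).2 hab])
  exact ⟨(Units.mk0 c hc, σ), Equiv.ext fun x => by rw [semiPerm_apply]; exact h x⟩

theorem exists_lift (p : Fˣ × (F ≃+* F)) : ∃ α : MulAut S, quotRep hF hM α = semiPerm p := by
  obtain ⟨c, σ⟩ := p
  let W : AddSubgroup F :=
    { carrier := {x | x ^ q = x}
      zero_mem' := zero_pow_q hF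
      add_mem' := fun {a b} ha hb => by
        show (a + b) ^ q = a + b
        rw [add_pow_q hF, show a ^ q = a from ha, show b ^ q = b from hb]
      neg_mem' := fun {a} ha => by
        show (-a) ^ q = -a
        rw [neg_pow_q hF, show a ^ q = a from ha] }
  have hσν : σ ν ≠ 0 := (map_ne_zero σ).2 hM.ν_ne
  set k : F := (c : F) * (c : F) ^ q * ν / σ ν with hk
  have hkq : k ^ q = k := by
    rw [hk, div_pow, mul_pow, mul_pow, pow_q_pow_q hF, hM.ν_fix, ← map_pow, hM.ν_fix,
      mul_comm ((c : F) ^ q)]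
  have hk0 : k ≠ 0 := div_ne_zero
    (mul_ne_zero (mul_ne_zero c.ne_zero (pow_ne_zero _ c.ne_zero)) hM.ν_ne) hσν
  have hback : ∀ w : W, (σ.symm (w.1 / k)) ^ q = σ.symm (w.1 / k) := fun w => by
    rw [← map_pow, div_pow, show (w.1 : F) ^ q = w.1 from w.2, hkq]
  let cP : S → F := fun x => semiPerm (c, σ) (φ x)
  let eP : W → S := fun w => ι (σ.symm (w.1 / k))
  let eA : W → S := fun w => ι w.1
  let sq : F → W := fun v => ⟨ν * (v * v ^ q), norm_scaled_fixed hF hM v⟩
  obtain ⟨f, hf⟩ := exists_iso_over_squares (P := S) (A := S) cP φ eP eA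
    (fun x y => by simp only [cP, semiPerm_apply, hM.φ_mul, map_add, mul_add])
    hM.φ_mul
    (fun v => by
      obtain ⟨x, hx⟩ := hM.φ_surj ((semiPerm (c, σ)).symm v)
      exact ⟨x, by simp [cP, hx]⟩)
    hM.φ_surj
    (fun x => by
      constructor
      · intro h
        have h0 : φ x = 0 := by
          simpa [cP, semiPerm_apply, c.ne_zero] using h
        obtain ⟨d, hd, rfl⟩ := (hM.φ_zero x).1 h0
        refine ⟨⟨σ d * k, ?_⟩, ?_⟩
        · show (σ d * k) ^ q = σ d * k
          rw [mul_pow, ← map_pow, hd, hkq]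
        · simp [eP, hk0]
      · rintro ⟨w, rfl⟩
        simp only [cP, eP, semiPerm_apply, phi_iota hF hM (hback w), map_zero, mul_zero])
    (fun x => by
      rw [hM.φ_zero]
      exact ⟨fun ⟨d, hd, hx⟩ => ⟨⟨d, hd⟩, hx.symm⟩, fun ⟨w, hw⟩ => ⟨w.1, w.2, hw.symm⟩⟩)
    (fun v w => by
      simp only [eP, AddSubgroup.coe_add, add_div, map_add]
      exact hM.ι_mul _ _ (hback v) (hback w))
    (fun v w => hM.ι_mul _ _ v.2 w.2)
    (fun v w h => by
      have := σ.symm.injective (hM.ι_inj _ _ (hback v) (hback w) h)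
      exact Subtype.ext ((div_left_inj' hk0).1 this))
    (fun v w h => Subtype.ext (hM.ι_inj _ _ v.2 w.2 h))
    (fun w g => (Subgroup.mem_center_iff.1 (hM.ι_cent _ (hback w)) g))
    (fun w g => (Subgroup.mem_center_iff.1 (hM.ι_cent _ w.2) g))
    sq
    (fun x => by
      rw [hM.sq]
      show _ = ι (σ.symm (ν * (cP x * cP x ^ q) / k))
      congr 1
      apply σ.injective
      rw [RingEquiv.apply_symm_apply, map_mul, map_mul, map_pow, hk]
      simp only [cP, semiPerm_apply, mul_pow]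
      field_simp
      exact (mul_div_cancel_right₀ _ hM.ν_ne).symm)
    (fun x => hM.sq x)
  refine ⟨f, Equiv.ext fun l => ?_⟩
  obtain ⟨x, rfl⟩ := hM.φ_surj l
  rw [quotRep_phi]
  exact hf x

theorem mem_ker_iff (α : MulAut S) :
    α ∈ (quotRep hF hM).ker ↔ ∀ x, φ (α x) = φ x := by
  rw [MonoidHom.mem_ker]
  constructor
  · intro h x; rw [← quotRep_phi hF hM, h]; rfl
  · intro h
    refine Equiv.ext fun l => ?_
    obtain ⟨x, rfl⟩ := hM.φ_surj l
    rw [quotRep_phi, h]; rfl

theorem fix_iota {α : MulAut S} (hα : α ∈ (quotRep hF hM).ker) {c : F} (hc : c ^ q = c) :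
    α (ι c) = ι c := by
  obtain ⟨x, hx⟩ := exists_sqrt hF hM hc
  rw [← hx, map_mul]
  exact (square_eq_iff hF hM _ _).2 (by rw [(mem_ker_iff hF hM α).1 hα])

theorem eq_mul_iota {α : MulAut S} (hα : α ∈ (quotRep hF hM).ker) (x : S) :
    ∃ c, c ^ q = c ∧ α x = x * ι c := by
  have h0 : φ (x⁻¹ * α x) = 0 := by
    rw [hM.φ_mul, phi_inv hF hM, (mem_ker_iff hF hM α).1 hα, CharTwo.add_self_eq_zero]
  obtain ⟨c, hc, he⟩ := (hM.φ_zero _).1 h0
  exact ⟨c, hc, by rw [← he, mul_inv_cancel_left]⟩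

theorem ker_isElementaryAbelian : Cfsg.IsElementaryAbelian 2 (quotRep hF hM).ker := by
  refine ⟨⟨⟨fun a b => Subtype.ext (MulEquiv.ext fun x => ?_)⟩⟩, fun a ha => MulEquiv.ext fun x => ?_⟩
  · show a.1 (b.1 x) = b.1 (a.1 x)
    obtain ⟨c, hc, hac⟩ := eq_mul_iota hF hM a.2 x
    obtain ⟨d, hd, hbd⟩ := eq_mul_iota hF hM b.2 x
    rw [hbd, map_mul, fix_iota hF hM a.2 hd, hac, map_mul, fix_iota hF hM b.2 hc, hbd, mul_assoc,
      mul_assoc, ← hM.ι_mul c d hc hd, ← hM.ι_mul d c hd hc, add_comm]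
  · obtain ⟨c, hc, hac⟩ := eq_mul_iota hF hM ha x
    rw [pow_two, MulAut.mul_apply, MulAut.one_apply, hac, map_mul, fix_iota hF hM ha hc, hac,
      mul_assoc, ← hM.ι_mul c c hc hc, CharTwo.add_self_eq_zero, iota_zero hF hM, mul_one]

omit hM in
/-- The fixed field as an additive group. -/
def fixedAdd : AddSubgroup F where
  carrier := {x | x ^ q = x}
  zero_mem' := zero_pow_q hF
  add_mem' {a b} ha hb := by
    show (a + b) ^ q = a + b
    rw [add_pow_q hF, show a ^ q = a from ha, show b ^ q = b from hb]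
  neg_mem' {a} ha := by
    show (-a) ^ q = -a
    rw [neg_pow_q hF, show a ^ q = a from ha]

theorem ker_card_eq :
    Nat.card (quotRep hF hM).ker = Nat.card (F →+ fixedAdd (q := q) hF) := by
  classical
  have key : ∀ (α : (quotRep hF hM).ker) (x : S),
      ∃ c : fixedAdd (q := q) hF, α.1 x = x * ι c.1 := fun α x => by
    obtain ⟨c, hc, h⟩ := eq_mul_iota hF hM α.2 x
    exact ⟨⟨c, hc⟩, h⟩
  choose δ hδ using key
  have hδu : ∀ α x (c : fixedAdd (q := q) hF), α.1 x = x * ι c.1 → δ α x = c := fun α x c h =>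
    Subtype.ext (hM.ι_inj _ _ (δ α x).2 c.2 (mul_left_cancel ((hδ α x).symm.trans h)))
  have hδmul : ∀ α x y, δ α (x * y) = δ α x + δ α y := fun α x y => hδu _ _ _ (by
    rw [map_mul, hδ α x, hδ α y, AddSubgroup.coe_add, hM.ι_mul _ _ (δ α x).2 (δ α y).2]
    have hc := Subgroup.mem_center_iff.1 (hM.ι_cent _ (δ α x).2) y
    simp only [mul_assoc]
    rw [← mul_assoc (ι (δ α x).1) y, ← hc, mul_assoc])
  have hδc : ∀ α x y, φ x = φ y → δ α x = δ α y := fun α x y h => by
    obtain ⟨d, hd, he⟩ := (hM.φ_zero (x⁻¹ * y)).1 (by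
      rw [hM.φ_mul, phi_inv hF hM, h, CharTwo.add_self_eq_zero])
    refine (hδu α y (δ α x) ?_).symm
    rw [show y = x * ι d by rw [← he, mul_inv_cancel_left], map_mul, hδ α x,
      fix_iota hF hM α.2 hd, mul_assoc, mul_assoc,
      Subgroup.mem_center_iff.1 (hM.ι_cent _ hd) (ι (δ α x).1)]
  refine Nat.card_congr
    { toFun := fun α => AddMonoidHom.mk' (fun l => δ α (Function.surjInv hM.φ_surj l))
        (fun a b => by
          rw [← hδmul]
          exact hδc α _ _ (by rw [hM.φ_mul, Function.surjInv_eq hM.φ_surj,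
            Function.surjInv_eq hM.φ_surj, Function.surjInv_eq hM.φ_surj]))
      invFun := fun g => ⟨
        { toFun := fun x => x * ι (g (φ x)).1
          invFun := fun x => x * ι (g (φ x)).1
          left_inv := fun x => by
            show x * ι (g (φ x)).1 * ι (g (φ (x * ι (g (φ x)).1))).1 = x
            rw [hM.φ_mul, phi_iota hF hM (g _).2, add_zero, mul_assoc, ← hM.ι_mul _ _ (g _).2 (g _).2,
              CharTwo.add_self_eq_zero, iota_zero hF hM, mul_one]
          right_inv := fun x => by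
            show x * ι (g (φ x)).1 * ι (g (φ (x * ι (g (φ x)).1))).1 = x
            rw [hM.φ_mul, phi_iota hF hM (g _).2, add_zero, mul_assoc, ← hM.ι_mul _ _ (g _).2 (g _).2,
              CharTwo.add_self_eq_zero, iota_zero hF hM, mul_one]
          map_mul' := fun x y => by
            show x * y * ι (g (φ (x * y))).1 = x * ι (g (φ x)).1 * (y * ι (g (φ y)).1)
            rw [hM.φ_mul, map_add, AddSubgroup.coe_add, hM.ι_mul _ _ (g _).2 (g _).2]
            have hc := Subgroup.mem_center_iff.1 (hM.ι_cent _ (g (φ x)).2) y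
            simp only [mul_assoc]
            rw [← mul_assoc (ι (g (φ x)).1) y, ← hc, mul_assoc] },
        (mem_ker_iff hF hM _).2 fun x => by
          show φ (x * ι (g (φ x)).1) = φ x
          rw [hM.φ_mul, phi_iota hF hM (g _).2, add_zero]⟩
      left_inv := fun α => Subtype.ext (MulEquiv.ext fun x => by
        show x * ι (δ α (Function.surjInv hM.φ_surj (φ x))).1 = α.1 x
        rw [hδc α _ x (Function.surjInv_eq hM.φ_surj _), hδ α x])
      right_inv := fun g => AddMonoidHom.ext fun l => by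
        refine hδu _ _ _ ?_
        show _ * ι (g (φ _)).1 = _
        rw [Function.surjInv_eq hM.φ_surj] }

theorem ker_card {n : ℕ} (hq : q = 2 ^ n) :
    Nat.card (quotRep hF hM).ker = 2 ^ (2 * n ^ 2) := by
  classical
  rw [ker_card_eq]
  letI : Algebra (ZMod 2) F := ZMod.algebra F 2
  letI : Module (ZMod 2) (fixedAdd (q := q) hF) := AddCommGroup.zmodModule fun x => by
    rw [two_nsmul]; exact Subtype.ext (CharTwo.add_self_eq_zero _)
  rw [Nat.card_congr (AddMonoidHom.toZModLinearMapEquiv 2).toEquiv,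
    Module.natCard_eq_pow_finrank (K := ZMod 2), Module.finrank_linearMap]
  have h1 : Nat.card F = Nat.card (ZMod 2) ^ Module.finrank (ZMod 2) F :=
    Module.natCard_eq_pow_finrank
  have h2 : Nat.card (fixedAdd (q := q) hF) =
      Nat.card (ZMod 2) ^ Module.finrank (ZMod 2) (fixedAdd (q := q) hF) :=
    Module.natCard_eq_pow_finrank
  rw [Nat.card_zmod] at h1 h2 ⊢
  rw [Nat.card_eq_fintype_card, hF, hq, ← pow_mul] at h1
  replace h2 : 2 ^ n = 2 ^ Module.finrank (ZMod 2) (fixedAdd (q := q) hF) :=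
    (hq.symm.trans ((card_fixed hF).symm.trans h2))
  rw [← Nat.pow_right_injective le_rfl h1, ← Nat.pow_right_injective le_rfl h2]
  congr 1
  ring

theorem card_range {n : ℕ} (hq : q = 2 ^ n) :
    Nat.card (quotRep hF hM).range = 2 * n * (q ^ 2 - 1) := by
  classical
  have e : Nat.card (quotRep hF hM).range = Nat.card (Fˣ × (F ≃+* F)) := by
    let f : Fˣ × (F ≃+* F) → (quotRep hF hM).range :=
      fun p => ⟨semiPerm p, exists_lift hF hM p⟩
    refine (Nat.card_eq_of_bijective f ⟨?_, ?_⟩).symm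
    · intro p p' h
      exact semiPerm_injective (congrArg Subtype.val h)
    · rintro ⟨_, α, rfl⟩
      obtain ⟨p, hp⟩ := quotRep_semilinear hF hM α
      exact ⟨p, Subtype.ext hp.symm⟩
  haveI : Finite (F ≃+* F) := Finite.of_injective (fun σ => (σ : F → F)) DFunLike.coe_injective
  letI := Fintype.ofFinite (F ≃+* F)
  letI : Algebra (ZMod 2) F := ZMod.algebra F 2
  rw [e, Nat.card_prod, Cfsg.Agent.RankOne.card_aut, Nat.card_units, Nat.card_eq_fintype_card, hF,
    mul_comm]
  congr 1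
  have h1 : Nat.card F = Nat.card (ZMod 2) ^ Module.finrank (ZMod 2) F :=
    Module.natCard_eq_pow_finrank
  rw [Nat.card_zmod, Nat.card_eq_fintype_card, hF, hq, ← pow_mul] at h1
  rw [← Nat.pow_right_injective le_rfl h1, mul_comm]

theorem card_mulAut {n : ℕ} (hq : q = 2 ^ n) :
    Nat.card (MulAut S) = 2 ^ (2 * n ^ 2) * (2 * n * (q ^ 2 - 1)) := by
  rw [← card_range hF hM hq, ← ker_card hF hM hq, ← Subgroup.index_ker, Subgroup.card_mul_index]

theorem pCore_mulAut {n : ℕ} (hn : 1 ≤ n) (hq : q = 2 ^ n) :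
    Cfsg.pCore 2 (MulAut S) = (quotRep hF hM).ker := by
  classical
  refine le_antisymm (sSup_le ?_) (le_sSup ⟨inferInstance, IsPGroup.of_card (ker_card hF hM hq)⟩)
  rintro N ⟨hNn, hNp⟩ α hαN
  obtain ⟨⟨c, σ⟩, hα⟩ := quotRep_semilinear hF hM α
  have hodd : Odd (q ^ 2 - 1) := by
    refine Nat.Even.sub_odd ?_ ?_ odd_one
    · exact Nat.one_le_pow _ _ (q_pos hF)
    · rw [hq, ← pow_mul]; exact Nat.even_pow.2 ⟨even_two, by omega⟩
  have hpow : ∀ (d : Fˣ) (k : ℕ), d ^ 2 ^ k = 1 → d = 1 := fun d k hd => by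
    rw [← orderOf_eq_one_iff]
    refine Nat.dvd_one.1 ?_
    have h1 : orderOf d ∣ 2 ^ k := orderOf_dvd_of_pow_eq_one hd
    have h2 : orderOf d ∣ q ^ 2 - 1 := by
      rw [← hF]; exact Fintype.card_units (α := F) ▸ orderOf_dvd_card
    have hcop : Nat.Coprime (2 ^ k) (q ^ 2 - 1) :=
      Nat.Coprime.pow_left _ ((Nat.coprime_two_left).2 hodd)
    exact hcop ▸ Nat.dvd_gcd h1 h2
  have hmult : ∀ (d : Fˣ) (k : ℕ) (x : F),
      ((semiPerm (d, RingEquiv.refl F)) ^ k) x = (d : F) ^ k * x := by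
    intro d k
    induction k with
    | zero => intro x; simp
    | succ k ih =>
      intro x
      rw [pow_succ, Equiv.Perm.mul_apply, semiPerm_apply, ih, RingEquiv.refl_apply, pow_succ,
        mul_assoc]
  have hσ : ∀ d : Fˣ, σ d = (d : F) := by
    intro d
    obtain ⟨δ, hδ⟩ := exists_lift hF hM (d, RingEquiv.refl F)
    have hκ : α * δ * α⁻¹ * δ⁻¹ ∈ N := by
      have : δ * α⁻¹ * δ⁻¹ ∈ N := hNn.conj_mem _ (inv_mem hαN) δ
      have := mul_mem hαN this
      simpa [mul_assoc] using this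
    obtain ⟨k, hk⟩ := hNp ⟨_, hκ⟩
    set e : Fˣ := Units.map (σ : F →+* F).toMonoidHom d * d⁻¹ with he
    have hval : quotRep hF hM (α * δ * α⁻¹ * δ⁻¹) = semiPerm (e, RingEquiv.refl F) := by
      rw [map_mul, map_mul, map_mul, map_inv, map_inv, hα, hδ, mul_inv_eq_iff_eq_mul,
        mul_inv_eq_iff_eq_mul]
      refine Equiv.ext fun x => ?_
      simp only [Equiv.Perm.mul_apply, semiPerm_apply, RingEquiv.refl_apply, map_mul, he,
        Units.val_mul, Units.coe_map]
      simp only [RingHom.toMonoidHom_eq_coe, MonoidHom.coe_coe, RingHom.coe_coe]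
      rw [Units.val_inv_eq_inv_val]
      field_simp
    have hk' := congrArg (fun z : N => quotRep hF hM z.1 1) hk
    simp only [SubmonoidClass.coe_pow, map_pow, hval, hmult, mul_one] at hk'
    simp only [OneMemClass.coe_one, map_one, Equiv.Perm.coe_one, id_eq] at hk'
    have h1 : e = 1 := hpow e k (Units.ext (by rw [Units.val_pow_eq_pow_val, hk']; rfl))
    rw [he, mul_inv_eq_one] at h1
    exact congrArg Units.val h1
  obtain rfl : σ = RingEquiv.refl F := RingEquiv.ext fun x => by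
    rcases eq_or_ne x 0 with rfl | hx
    · simp
    · exact hσ (Units.mk0 x hx)
  obtain ⟨k, hk⟩ := hNp ⟨α, hαN⟩
  have hk' := congrArg (fun z : N => quotRep hF hM z.1 1) hk
  simp only [SubmonoidClass.coe_pow, map_pow, hα, hmult, mul_one] at hk'
  simp only [OneMemClass.coe_one, map_one, Equiv.Perm.coe_one, id_eq] at hk'
  obtain rfl : c = 1 := hpow c k (Units.ext (by rw [Units.val_pow_eq_pow_val, hk']; rfl))
  rw [MonoidHom.mem_ker, hα]
  exact Equiv.ext fun x => by simp [semiPerm_apply]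

end

end Cfsg.Agent.InvChar
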